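import Mathlib
/-!
Subgroup transport: cardinalities under `map` / `subgroupOf`, the product formula, commutators and
quotients, conjugates, normality, and closing a property of normal subgroups under finite joins.
-/

set_option autoImplicit false
set_option linter.style.haveILetI false

namespace CfsgLib.Base

open scoped Pointwise

variable {G : Type*} [Group G] {H' : Type*} [Group H']

/-! ### Cardinalities -/

theorem card_subgroupOf {H K : Subgroup G} (h : H ≤ K) : Nat.card (H.subgroupOf K) = Nat.card H :=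
  Nat.card_congr (Subgroup.subgroupOfEquivOfLe h).toEquiv

theorem card_map_of_injective {f : G →* H'} (hf : Function.Injective f) (H : Subgroup G) :
    Nat.card (H.map f) = Nat.card H :=
  (Nat.card_congr (H.equivMapOfInjective f hf).toEquiv).symm

theorem card_map_subtype {K : Subgroup G} (H : Subgroup K) :
    Nat.card (H.map K.subtype) = Nat.card H :=
  card_map_of_injective K.subtype_injective H

theorem card_map_dvd (f : G →* H') (H : Subgroup G) : Nat.card (H.map f) ∣ Nat.card H :=
  Subgroup.card_map_dvd H f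

theorem card_map_mulEquiv (e : G ≃* H') (H : Subgroup G) :
    Nat.card (H.map e.toMonoidHom) = Nat.card H :=
  card_map_of_injective e.injective H

theorem card_map_conj (g : G) (H : Subgroup G) :
    Nat.card (H.map (MulAut.conj g).toMonoidHom) = Nat.card H :=
  card_map_mulEquiv (MulAut.conj g) H

/-- For `K` normalised by `H`: `|H ⊔ K| |H ⊓ K| = |H| |K|`. -/
theorem card_sup_mul_card_inf (H K : Subgroup G) [K.Normal] :
    Nat.card ↥(H ⊔ K) * Nat.card ↥(H ⊓ K) = Nat.card H * Nat.card K := by
  have key : ∀ A B : Subgroup G, A ≤ B → Nat.card A * A.relIndex B = Nat.card B := fun A B h => by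
    rw [← Subgroup.relIndex_bot_left A, ← Subgroup.relIndex_bot_left B,
      Subgroup.relIndex_mul_relIndex _ _ _ bot_le h]
  rw [← key K (H ⊔ K) le_sup_right, ← key (H ⊓ K) H inf_le_left, Subgroup.relIndex_sup_right,
    Subgroup.inf_relIndex_left]
  ring

theorem card_sup_dvd (H K : Subgroup G) [K.Normal] :
    Nat.card ↥(H ⊔ K) ∣ Nat.card H * Nat.card K :=
  ⟨_, (card_sup_mul_card_inf H K).symm⟩

theorem card_sup_of_disjoint (H K : Subgroup G) [K.Normal] (h : H ⊓ K = ⊥) :
    Nat.card ↥(H ⊔ K) = Nat.card H * Nat.card K := by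
  have := card_sup_mul_card_inf H K
  rwa [h, Subgroup.card_bot, mul_one] at this

theorem inf_eq_bot_of_coprime {H K : Subgroup G} (h : (Nat.card H).Coprime (Nat.card K)) :
    H ⊓ K = ⊥ :=
  (Subgroup.disjoint_of_coprime_natCard h).eq_bot

theorem card_mul_card_quotient (N : Subgroup G) :
    Nat.card N * Nat.card (G ⧸ N) = Nat.card G :=
  Subgroup.card_mul_index N

theorem card_comap_mk' (N : Subgroup G) [N.Normal] (K : Subgroup (G ⧸ N)) :
    Nat.card (K.comap (QuotientGroup.mk' N)) = Nat.card N * Nat.card K := by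
  have hle : N ≤ K.comap (QuotientGroup.mk' N) := QuotientGroup.le_comap_mk' N K
  have h1 : Nat.card N * N.relIndex (K.comap (QuotientGroup.mk' N)) =
      Nat.card (K.comap (QuotientGroup.mk' N)) := by
    rw [← Subgroup.relIndex_bot_left N, ← Subgroup.relIndex_bot_left (K.comap _),
      Subgroup.relIndex_mul_relIndex _ _ _ bot_le hle]
  have h2 := Subgroup.relIndex_comap (⊥ : Subgroup (G ⧸ N)) (QuotientGroup.mk' N)
    (K.comap (QuotientGroup.mk' N))
  rw [MonoidHom.comap_bot, QuotientGroup.ker_mk',
    Subgroup.map_comap_eq_self_of_surjective (QuotientGroup.mk'_surjective N),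
    Subgroup.relIndex_bot_left] at h2
  rw [← h1, h2]

/-! ### Quotients, commutators, centralizers -/

theorem map_mk'_eq_bot_iff {N : Subgroup G} [N.Normal] {H : Subgroup G} :
    H.map (QuotientGroup.mk' N) = ⊥ ↔ H ≤ N := by
  rw [Subgroup.map_eq_bot_iff, QuotientGroup.ker_mk']

theorem comap_map_mk' (N : Subgroup G) [N.Normal] (H : Subgroup G) :
    (H.map (QuotientGroup.mk' N)).comap (QuotientGroup.mk' N) = H ⊔ N := by
  rw [Subgroup.comap_map_eq, QuotientGroup.ker_mk']

theorem map_mk'_comap (N : Subgroup G) [N.Normal] (K : Subgroup (G ⧸ N)) :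
    (K.comap (QuotientGroup.mk' N)).map (QuotientGroup.mk' N) = K :=
  Subgroup.map_comap_eq_self_of_surjective (QuotientGroup.mk'_surjective N) K

theorem commutator_le_iff_map_mk' {N : Subgroup G} [N.Normal] {X Y : Subgroup G} :
    ⁅X, Y⁆ ≤ N ↔
      X.map (QuotientGroup.mk' N) ≤ Subgroup.centralizer (Y.map (QuotientGroup.mk' N) : Set (G ⧸ N)) := by
  rw [← Subgroup.commutator_eq_bot_iff_le_centralizer, ← Subgroup.map_commutator, map_mk'_eq_bot_iff]

theorem commutator_sup_left_le {N X Y Z : Subgroup G} [N.Normal] (h1 : ⁅X, Z⁆ ≤ N)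
    (h2 : ⁅Y, Z⁆ ≤ N) : ⁅X ⊔ Y, Z⁆ ≤ N := by
  rw [commutator_le_iff_map_mk', Subgroup.map_sup, sup_le_iff]
  exact ⟨commutator_le_iff_map_mk'.1 h1, commutator_le_iff_map_mk'.1 h2⟩

theorem commutator_sup_right_le {N X Y Z : Subgroup G} [N.Normal] (h1 : ⁅X, Y⁆ ≤ N)
    (h2 : ⁅X, Z⁆ ≤ N) : ⁅X, Y ⊔ Z⁆ ≤ N := by
  rw [Subgroup.commutator_comm]
  exact commutator_sup_left_le (by rwa [Subgroup.commutator_comm]) (by rwa [Subgroup.commutator_comm])

theorem commutator_iSup_left_le {ι : Sort*} {N Z : Subgroup G} [N.Normal] {X : ι → Subgroup G}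
    (h : ∀ i, ⁅X i, Z⁆ ≤ N) : ⁅⨆ i, X i, Z⁆ ≤ N := by
  rw [commutator_le_iff_map_mk', Subgroup.map_iSup, iSup_le_iff]
  exact fun i => commutator_le_iff_map_mk'.1 (h i)

theorem le_centralizer_comm {H K : Subgroup G} :
    H ≤ Subgroup.centralizer (K : Set G) ↔ K ≤ Subgroup.centralizer (H : Set G) :=
  Subgroup.le_centralizer_iff

/-- Two normal subgroups meeting trivially commute elementwise. -/
theorem le_centralizer_of_normal_disjoint {H K : Subgroup G} [H.Normal] [K.Normal]
    (h : H ⊓ K = ⊥) : H ≤ Subgroup.centralizer (K : Set G) :=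
  Subgroup.commutator_eq_bot_iff_le_centralizer.1
    (le_bot_iff.1 (h ▸ Subgroup.commutator_le_inf H K))

/-- The centralizer inside a subgroup, pushed forward to the group. -/
theorem map_subtype_centralizer (K : Subgroup G) (A : Subgroup K) :
    (Subgroup.centralizer (A : Set K)).map K.subtype =
      K ⊓ Subgroup.centralizer ((A.map K.subtype : Subgroup G) : Set G) := by
  ext x
  simp only [Subgroup.mem_map, Subgroup.mem_inf, Subgroup.mem_centralizer_iff, SetLike.mem_coe,
    Subgroup.coe_subtype]
  constructor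
  · rintro ⟨y, hy, rfl⟩
    refine ⟨y.2, ?_⟩
    rintro _ ⟨a, ha, rfl⟩
    exact congrArg Subtype.val (hy a ha)
  · rintro ⟨hxK, hx⟩
    exact ⟨⟨x, hxK⟩, fun a ha => Subtype.ext (hx a ⟨a, ha, rfl⟩), rfl⟩

theorem centralizer_subgroupOf (K : Subgroup G) {A : Subgroup G} (hA : A ≤ K) :
    Subgroup.centralizer ((A.subgroupOf K : Subgroup K) : Set K) =
      (Subgroup.centralizer (A : Set G)).subgroupOf K := by
  ext x
  simp only [Subgroup.mem_subgroupOf, Subgroup.mem_centralizer_iff, SetLike.mem_coe]
  exact ⟨fun h a ha => congrArg Subtype.val (h ⟨a, hA ha⟩ ha), fun h a ha => Subtype.ext (h a ha)⟩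

theorem map_centralizer_mulEquiv (e : G ≃* H') (s : Set G) :
    (Subgroup.centralizer s).map e.toMonoidHom = Subgroup.centralizer (e '' s) := by
  ext x
  simp only [Subgroup.mem_map, Subgroup.mem_centralizer_iff, MulEquiv.coe_toMonoidHom,
    Set.mem_image]
  constructor
  · rintro ⟨y, hy, rfl⟩ _ ⟨a, ha, rfl⟩
    rw [← map_mul, ← map_mul, hy a ha]
  · intro hx
    refine ⟨e.symm x, fun a ha => e.injective ?_, e.apply_symm_apply x⟩
    simpa using hx (e a) ⟨a, ha, rfl⟩

/-! ### Conjugation and normality -/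

theorem map_conj_eq_smul (g : G) (H : Subgroup G) :
    H.map (MulAut.conj g).toMonoidHom = MulAut.conj g • H :=
  rfl

theorem mem_map_conj {g x : G} {H : Subgroup G} :
    x ∈ H.map (MulAut.conj g).toMonoidHom ↔ g⁻¹ * x * g ∈ H := by
  simp only [Subgroup.mem_map, MulEquiv.coe_toMonoidHom, MulAut.conj_apply]
  constructor
  · rintro ⟨y, hy, rfl⟩
    simpa [mul_assoc] using hy
  · exact fun h => ⟨_, h, by group⟩

theorem map_conj_eq_self_iff {g : G} {H : Subgroup G} :
    H.map (MulAut.conj g).toMonoidHom = H ↔ g ∈ Subgroup.normalizer (H : Set G) := by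
  constructor
  · intro h
    rw [Subgroup.mem_normalizer_iff]
    intro x
    conv_rhs => rw [← h, mem_map_conj]
    simp [mul_assoc]
  · intro h
    ext x
    rw [mem_map_conj]
    have := (Subgroup.mem_normalizer_iff.1 h) (g⁻¹ * x * g)
    simpa [mul_assoc] using this

theorem normal_of_map_conj_le {H : Subgroup G}
    (h : ∀ g : G, H.map (MulAut.conj g).toMonoidHom ≤ H) : H.Normal :=
  ⟨fun x hx g => h g ⟨x, hx, rfl⟩⟩

/-- A characteristic subgroup of a normal subgroup is normal. -/
theorem normal_map_subtype {N : Subgroup G} [N.Normal] (K : Subgroup N) [K.Characteristic] :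
    (K.map N.subtype).Normal :=
  inferInstance

/-- A characteristic subgroup of `H` is normalised by the normalizer of `H`. -/
theorem normalizer_le_normalizer_map_subtype (H : Subgroup G) (K : Subgroup H) [K.Characteristic] :
    Subgroup.normalizer (H : Set G) ≤ Subgroup.normalizer ((K.map H.subtype : Subgroup G) : Set G) := by
  intro g hg
  have hH := map_conj_eq_self_iff.2 hg
  let e : MulAut H :=
    ((MulAut.conj g).subgroupMap H).trans (MulEquiv.subgroupCongr hH)
  have he : ∀ x : H, (e x : G) = g * x * g⁻¹ := fun x => rfl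
  rw [← map_conj_eq_self_iff]
  conv_rhs => rw [← (Subgroup.characteristic_iff_map_eq.1 inferInstance e : K.map e.toMonoidHom = K)]
  rw [Subgroup.map_map, Subgroup.map_map]
  rfl

theorem normal_of_le_center {H : Subgroup G} (h : H ≤ Subgroup.center G) : H.Normal :=
  ⟨fun x hx g => by
    rw [Subgroup.mem_center_iff.1 (h hx) g, mul_inv_cancel_right]
    exact hx⟩

/-! ### Joins of normal subgroups -/

/-- In a finite group a property of normal subgroups that holds for `⊥` and is closed under binary
joins holds for the join of all normal subgroups with the property. -/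
theorem sSup_normal_induction [Finite G] {P : Subgroup G → Prop} (hbot : P ⊥)
    (hsup : ∀ H K : Subgroup G, H.Normal → K.Normal → P H → P K → P (H ⊔ K)) :
    P (sSup {N : Subgroup G | N.Normal ∧ P N}) := by
  classical
  have key : ∀ s : Finset (Subgroup G), (∀ N ∈ s, N.Normal ∧ P N) →
      (s.sup id).Normal ∧ P (s.sup id) := by
    intro s
    induction s using Finset.induction_on with
    | empty => exact fun _ => ⟨by simpa using (inferInstance : (⊥ : Subgroup G).Normal), by simpa⟩
    | insert a s has ih =>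
      intro h
      obtain ⟨hn, hP⟩ := ih fun N hN => h N (Finset.mem_insert_of_mem hN)
      obtain ⟨han, haP⟩ := h a (Finset.mem_insert_self a s)
      rw [Finset.sup_insert, id_eq]
      haveI := hn
      haveI := han
      exact ⟨inferInstance, hsup _ _ han hn haP hP⟩
  have hfin : {N : Subgroup G | N.Normal ∧ P N}.Finite := Set.finite_univ.subset (Set.subset_univ _)
  have h := (key hfin.toFinset fun N hN => hfin.mem_toFinset.1 hN).2
  rwa [Finset.sup_id_eq_sSup, hfin.coe_toFinset] at h

end CfsgLib.Base
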