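import Mathlib
import Cfsg.Prelude.Def_Solvable
import Cfsg.Prelude.Def_CaseTheorems
import Cfsg.Prelude.Def_OddOrderLocal
import Cfsg.Agent.Lib.Base.Transport

/-!
The cores `pCore`, `pPrimeCore` (with `oddCore`) and `piCore`: the universal properties, behaviour
under isomorphisms, surjections, quotients, normal and subnormal subgroups.
-/

set_option autoImplicit false
set_option linter.style.haveILetI false

open scoped Pointwise

namespace CfsgLib.Base

open Cfsg

universe u

variable {G : Type*} [Group G] {H' : Type*} [Group H']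

theorem map_sSup_mulEquiv (e : G ≃* H') {P : Subgroup G → Prop} {Q : Subgroup H' → Prop}
    (h : ∀ N, P N ↔ Q (N.map e.toMonoidHom)) :
    (sSup {N | P N}).map e.toMonoidHom = sSup {N | Q N} := by
  apply le_antisymm
  · rw [Subgroup.map_le_iff_le_comap]
    exact sSup_le fun N hN => Subgroup.map_le_iff_le_comap.1 (le_sSup ((h N).1 hN))
  · refine sSup_le fun N hN => ?_
    have hmap : (N.comap e.toMonoidHom).map e.toMonoidHom = N :=
      Subgroup.map_comap_eq_self_of_surjective e.surjective N
    rw [← hmap]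
    refine Subgroup.map_mono (le_sSup ?_)
    have hN' : Q ((N.comap e.toMonoidHom).map e.toMonoidHom) := by rw [hmap]; exact hN
    exact (h _).2 hN'

theorem normal_map_mulEquiv_iff (e : G ≃* H') (N : Subgroup G) :
    (N.map e.toMonoidHom).Normal ↔ N.Normal := by
  constructor
  · intro h
    have : N = (N.map e.toMonoidHom).comap e.toMonoidHom :=
      (Subgroup.comap_map_eq_self_of_injective e.injective N).symm
    rw [this]
    exact h.comap _
  · exact fun h => h.map _ e.surjective

/-! ### `O_p` -/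

section PCore

variable {p : ℕ}

theorem isPGroup_pCore (p : ℕ) (G : Type*) [Group G] : IsPGroup p (pCore p G) :=
  Sylow.sSup_of_normal _ (fun _ h => h.2) (fun _ h => h.1)

theorem le_pCore {N : Subgroup G} [hN : N.Normal] (h : IsPGroup p N) : N ≤ pCore p G :=
  le_sSup ⟨hN, h⟩

theorem le_pCore_iff {N : Subgroup G} [N.Normal] : N ≤ pCore p G ↔ IsPGroup p N :=
  ⟨fun h => (isPGroup_pCore p G).to_le h, le_pCore⟩

theorem pCore_le_sylow (P : Sylow p G) : pCore p G ≤ (P : Subgroup G) :=
  (isPGroup_pCore p G).le_sylow_of_normal P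

theorem pCore_eq_top_iff : pCore p G = ⊤ ↔ IsPGroup p G := by
  constructor
  · intro h
    have := isPGroup_pCore p G
    rw [h] at this
    exact this.of_equiv Subgroup.topEquiv
  · exact fun h => top_le_iff.1 (le_pCore (h.to_subgroup ⊤))

theorem pCore_eq_iInf_sylow (p : ℕ) (G : Type*) [Group G] [Fact p.Prime] [Finite (Sylow p G)] :
    pCore p G = ⨅ P : Sylow p G, (P : Subgroup G) := by
  refine le_antisymm (le_iInf pCore_le_sylow) ?_
  haveI : (⨅ P : Sylow p G, (P : Subgroup G)).Normal := by
    apply normal_of_map_conj_le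
    intro g
    refine le_iInf fun P => ?_
    calc (⨅ P : Sylow p G, (P : Subgroup G)).map (MulAut.conj g).toMonoidHom
        ≤ ((g⁻¹ • P : Sylow p G) : Subgroup G).map (MulAut.conj g).toMonoidHom :=
          Subgroup.map_mono (iInf_le _ _)
      _ ≤ (P : Subgroup G) := by
        rw [map_conj_eq_smul, Sylow.smul_def, Sylow.pointwise_smul_def, map_inv, smul_inv_smul]
  exact le_pCore ((Classical.arbitrary (Sylow p G)).isPGroup'.to_le (iInf_le _ _))

theorem map_pCore_mulEquiv (e : G ≃* H') : (pCore p G).map e.toMonoidHom = pCore p H' :=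
  map_sSup_mulEquiv e fun N => and_congr (normal_map_mulEquiv_iff e N).symm
    ⟨fun h => h.map _, fun h => h.of_equiv (N.equivMapOfInjective e.toMonoidHom e.injective).symm⟩

instance pCore_characteristic (p : ℕ) (G : Type*) [Group G] : (pCore p G).Characteristic :=
  Subgroup.characteristic_iff_map_eq.2 fun e => map_pCore_mulEquiv e

theorem map_pCore_le (f : G →* H') (hf : Function.Surjective f) :
    (pCore p G).map f ≤ pCore p H' :=
  haveI : ((pCore p G).map f).Normal := (pCore_normal p G).map f hf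
  le_pCore ((isPGroup_pCore p G).map f)

theorem comap_pCore_of_ker {f : G →* H'} (hf : Function.Surjective f)
    (hker : IsPGroup p f.ker) : (pCore p H').comap f = pCore p G := by
  refine le_antisymm ?_ (Subgroup.map_le_iff_le_comap.1 (map_pCore_le f hf))
  haveI : ((pCore p H').comap f).Normal := (pCore_normal p H').comap f
  exact le_pCore ((isPGroup_pCore p H').comap_of_ker_isPGroup f hker)

/-- `O_p(G/N) = O_p(G)/N` for a normal `p`-subgroup `N`. -/
theorem pCore_quotient (N : Subgroup G) [N.Normal] (hN : IsPGroup p N) :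
    pCore p (G ⧸ N) = (pCore p G).map (QuotientGroup.mk' N) := by
  rw [← comap_pCore_of_ker (QuotientGroup.mk'_surjective N) (by rwa [QuotientGroup.ker_mk']),
    map_mk'_comap]

theorem pCore_quotient_pCore (p : ℕ) (G : Type*) [Group G] : pCore p (G ⧸ pCore p G) = ⊥ := by
  rw [pCore_quotient _ (isPGroup_pCore p G), map_mk'_eq_bot_iff]

/-- A `p`-subgroup of `K` normalised by `K` lies in `O_p(K)`. -/
theorem le_map_pCore {M K : Subgroup G} (hMK : M ≤ K)
    (hn : K ≤ Subgroup.normalizer (M : Set G)) (hp : IsPGroup p M) :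
    M ≤ (pCore p K).map K.subtype := by
  haveI := Subgroup.normal_subgroupOf_of_le_normalizer hn
  calc M = (M.subgroupOf K).map K.subtype := (Subgroup.map_subgroupOf_eq_of_le hMK).symm
    _ ≤ _ := Subgroup.map_mono (le_pCore (hp.of_equiv (Subgroup.subgroupOfEquivOfLe hMK).symm))

theorem isPGroup_map_pCore (p : ℕ) (K : Subgroup G) : IsPGroup p ((pCore p K).map K.subtype) :=
  (isPGroup_pCore p K).map _

theorem le_normalizer_map_pCore (K : Subgroup G) :
    K ≤ Subgroup.normalizer (((pCore p K).map K.subtype : Subgroup G) : Set G) :=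
  Subgroup.le_normalizer.trans (normalizer_le_normalizer_map_subtype K _)

theorem map_pCore_le_of_normal_subgroupOf {A K : Subgroup G} (hAK : A ≤ K)
    (hn : (A.subgroupOf K).Normal) :
    (pCore p A).map A.subtype ≤ (pCore p K).map K.subtype := by
  refine le_map_pCore ((Subgroup.map_subtype_le _).trans hAK) ?_ (isPGroup_map_pCore p A)
  exact ((Subgroup.normal_subgroupOf_iff_le_normalizer hAK).1 hn).trans
    (normalizer_le_normalizer_map_subtype A _)

theorem map_pCore_top (p : ℕ) (G : Type*) [Group G] :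
    (pCore p (⊤ : Subgroup G)).map (⊤ : Subgroup G).subtype = pCore p G :=
  map_pCore_mulEquiv (Subgroup.topEquiv (G := G))

theorem map_pCore_le_of_isSubnormal {K : Subgroup G} (hK : K.IsSubnormal) :
    (pCore p K).map K.subtype ≤ pCore p G := by
  induction hK with
  | top => rw [map_pCore_top]
  | step A B hle _ hn ih => exact (map_pCore_le_of_normal_subgroupOf hle hn).trans ih

theorem le_pCore_of_isSubnormal {K : Subgroup G} (hK : K.IsSubnormal) (hp : IsPGroup p K) :
    K ≤ pCore p G := by
  refine le_trans ?_ (map_pCore_le_of_isSubnormal hK)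
  rw [pCore_eq_top_iff.2 hp, ← MonoidHom.range_eq_map, Subgroup.range_subtype]

theorem map_pCore_eq_inf (N : Subgroup G) [hN : N.Normal] :
    (pCore p N).map N.subtype = pCore p G ⊓ N := by
  refine le_antisymm (le_inf (map_pCore_le_of_isSubnormal hN.isSubnormal)
    (Subgroup.map_subtype_le _)) ?_
  exact le_map_pCore inf_le_right Subgroup.le_normalizer_of_normal
    ((isPGroup_pCore p G).to_le inf_le_left)

theorem pCore_eq_pow_card (p : ℕ) (G : Type*) [Group G] [Finite G] [Fact p.Prime] :
    ∃ n, Nat.card (pCore p G) = p ^ n :=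
  IsPGroup.iff_card.1 (isPGroup_pCore p G)

theorem pCore_ne_bot_of_exists {N : Subgroup G} [N.Normal] (hN : N ≠ ⊥) (h : IsPGroup p N) :
    pCore p G ≠ ⊥ :=
  fun hb => hN (le_bot_iff.1 (hb ▸ le_pCore h))

end PCore

/-! ### `O_{p'}` -/

section PPrimeCore

variable {p : ℕ}

theorem pPrimeCore_coprime (p : ℕ) (G : Type*) [Group G] [Finite G] :
    (Nat.card (pPrimeCore p G)).Coprime p :=
  sSup_normal_induction (P := fun N : Subgroup G => (Nat.card N).Coprime p)
    (by simp) fun H K _ hK hH' hK' =>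
      (Nat.Coprime.mul_left hH' hK').coprime_dvd_left (haveI := hK; card_sup_dvd H K)

theorem not_dvd_card_pPrimeCore (p : ℕ) (G : Type*) [Group G] [Finite G] [hp : Fact p.Prime] :
    ¬ p ∣ Nat.card (pPrimeCore p G) :=
  hp.out.coprime_iff_not_dvd.1 (pPrimeCore_coprime p G).symm

theorem le_pPrimeCore {N : Subgroup G} [hN : N.Normal] (h : (Nat.card N).Coprime p) :
    N ≤ pPrimeCore p G :=
  le_sSup ⟨hN, h⟩

theorem le_pPrimeCore_of_not_dvd [hp : Fact p.Prime] {N : Subgroup G} [N.Normal]
    (h : ¬ p ∣ Nat.card N) : N ≤ pPrimeCore p G :=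
  le_pPrimeCore (hp.out.coprime_iff_not_dvd.2 h).symm

theorem le_pPrimeCore_iff [Finite G] {N : Subgroup G} [N.Normal] :
    N ≤ pPrimeCore p G ↔ (Nat.card N).Coprime p :=
  ⟨fun h => (pPrimeCore_coprime p G).coprime_dvd_left (Subgroup.card_dvd_of_le h), le_pPrimeCore⟩

theorem pPrimeCore_eq_top_iff [Finite G] : pPrimeCore p G = ⊤ ↔ (Nat.card G).Coprime p := by
  rw [← top_le_iff, le_pPrimeCore_iff, Subgroup.card_top]

theorem map_pPrimeCore_mulEquiv (e : G ≃* H') :
    (pPrimeCore p G).map e.toMonoidHom = pPrimeCore p H' :=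
  map_sSup_mulEquiv e fun N => by rw [normal_map_mulEquiv_iff, card_map_mulEquiv]

instance pPrimeCore_characteristic (p : ℕ) (G : Type*) [Group G] :
    (pPrimeCore p G).Characteristic :=
  Subgroup.characteristic_iff_map_eq.2 fun e => map_pPrimeCore_mulEquiv e

theorem map_pPrimeCore_le [Finite G] (f : G →* H') (hf : Function.Surjective f) :
    (pPrimeCore p G).map f ≤ pPrimeCore p H' :=
  haveI : ((pPrimeCore p G).map f).Normal := (pPrimeCore_normal p G).map f hf
  le_pPrimeCore ((pPrimeCore_coprime p G).coprime_dvd_left (card_map_dvd f _))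

theorem comap_mk'_pPrimeCore [Finite G] (N : Subgroup G) [N.Normal]
    (hN : (Nat.card N).Coprime p) :
    (pPrimeCore p (G ⧸ N)).comap (QuotientGroup.mk' N) = pPrimeCore p G := by
  refine le_antisymm ?_ (Subgroup.map_le_iff_le_comap.1
    (map_pPrimeCore_le _ (QuotientGroup.mk'_surjective N)))
  haveI := (pPrimeCore_normal p (G ⧸ N)).comap (QuotientGroup.mk' N)
  refine le_pPrimeCore ?_
  rw [card_comap_mk']
  exact Nat.Coprime.mul_left hN (pPrimeCore_coprime p _)

/-- `O_{p'}(G/N) = O_{p'}(G)/N` for a normal `p'`-subgroup `N`. -/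
theorem pPrimeCore_quotient [Finite G] (N : Subgroup G) [N.Normal]
    (hN : (Nat.card N).Coprime p) :
    pPrimeCore p (G ⧸ N) = (pPrimeCore p G).map (QuotientGroup.mk' N) := by
  rw [← comap_mk'_pPrimeCore N hN, map_mk'_comap]

theorem pPrimeCore_quotient_pPrimeCore (p : ℕ) (G : Type*) [Group G] [Finite G] :
    pPrimeCore p (G ⧸ pPrimeCore p G) = ⊥ := by
  rw [pPrimeCore_quotient _ (pPrimeCore_coprime p G), map_mk'_eq_bot_iff]

theorem coprime_card_map_pPrimeCore [Finite G] (K : Subgroup G) :
    (Nat.card ((pPrimeCore p K).map K.subtype)).Coprime p := by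
  rw [card_map_subtype]
  exact pPrimeCore_coprime p K

/-- A `p'`-subgroup of `K` normalised by `K` lies in `O_{p'}(K)`. -/
theorem le_map_pPrimeCore {M K : Subgroup G} (hMK : M ≤ K)
    (hn : K ≤ Subgroup.normalizer (M : Set G)) (hp : (Nat.card M).Coprime p) :
    M ≤ (pPrimeCore p K).map K.subtype := by
  haveI := Subgroup.normal_subgroupOf_of_le_normalizer hn
  calc M = (M.subgroupOf K).map K.subtype := (Subgroup.map_subgroupOf_eq_of_le hMK).symm
    _ ≤ _ := Subgroup.map_mono (le_pPrimeCore (by rwa [card_subgroupOf hMK]))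

theorem le_normalizer_map_pPrimeCore (K : Subgroup G) :
    K ≤ Subgroup.normalizer (((pPrimeCore p K).map K.subtype : Subgroup G) : Set G) :=
  Subgroup.le_normalizer.trans (normalizer_le_normalizer_map_subtype K _)

theorem map_pPrimeCore_le_of_normal_subgroupOf [Finite G] {A K : Subgroup G} (hAK : A ≤ K)
    (hn : (A.subgroupOf K).Normal) :
    (pPrimeCore p A).map A.subtype ≤ (pPrimeCore p K).map K.subtype := by
  refine le_map_pPrimeCore ((Subgroup.map_subtype_le _).trans hAK) ?_
    (coprime_card_map_pPrimeCore A)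
  exact ((Subgroup.normal_subgroupOf_iff_le_normalizer hAK).1 hn).trans
    (normalizer_le_normalizer_map_subtype A _)

theorem map_pPrimeCore_top (p : ℕ) (G : Type*) [Group G] :
    (pPrimeCore p (⊤ : Subgroup G)).map (⊤ : Subgroup G).subtype = pPrimeCore p G :=
  map_pPrimeCore_mulEquiv (Subgroup.topEquiv (G := G))

theorem map_pPrimeCore_le_of_isSubnormal [Finite G] {K : Subgroup G} (hK : K.IsSubnormal) :
    (pPrimeCore p K).map K.subtype ≤ pPrimeCore p G := by
  induction hK with
  | top => rw [map_pPrimeCore_top]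
  | step A B hle _ hn ih => exact (map_pPrimeCore_le_of_normal_subgroupOf hle hn).trans ih

theorem le_pPrimeCore_of_isSubnormal [Finite G] {K : Subgroup G} (hK : K.IsSubnormal)
    (hp : (Nat.card K).Coprime p) : K ≤ pPrimeCore p G := by
  refine le_trans ?_ (map_pPrimeCore_le_of_isSubnormal hK)
  rw [pPrimeCore_eq_top_iff.2 hp, ← MonoidHom.range_eq_map, Subgroup.range_subtype]

theorem map_pPrimeCore_eq_inf [Finite G] (N : Subgroup G) [hN : N.Normal] :
    (pPrimeCore p N).map N.subtype = pPrimeCore p G ⊓ N := by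
  refine le_antisymm (le_inf (map_pPrimeCore_le_of_isSubnormal hN.isSubnormal)
    (Subgroup.map_subtype_le _)) ?_
  exact le_map_pPrimeCore inf_le_right Subgroup.le_normalizer_of_normal
    ((pPrimeCore_coprime p G).coprime_dvd_left (Subgroup.card_dvd_of_le inf_le_left))

theorem inf_eq_bot_of_isPGroup_of_coprime [Fact p.Prime] [Finite G] {P K : Subgroup G}
    (hP : IsPGroup p P) (hK : (Nat.card K).Coprime p) : P ⊓ K = ⊥ := by
  obtain ⟨n, hn⟩ := IsPGroup.iff_card.1 hP
  exact inf_eq_bot_of_coprime (hn ▸ hK.symm.pow_left n)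

theorem pCore_inf_pPrimeCore (p : ℕ) (G : Type*) [Group G] [Finite G] [Fact p.Prime] :
    pCore p G ⊓ pPrimeCore p G = ⊥ :=
  inf_eq_bot_of_isPGroup_of_coprime (isPGroup_pCore p G) (pPrimeCore_coprime p G)

theorem pCore_le_centralizer_pPrimeCore (p : ℕ) (G : Type*) [Group G] [Finite G] [Fact p.Prime] :
    pCore p G ≤ Subgroup.centralizer (pPrimeCore p G : Set G) :=
  le_centralizer_of_normal_disjoint (pCore_inf_pPrimeCore p G)

theorem pPrimeCore_eq_bot_of_isPGroup [Fact p.Prime] [Finite G] (h : IsPGroup p G) :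
    pPrimeCore p G = ⊥ := by
  have := pCore_inf_pPrimeCore p G
  rwa [pCore_eq_top_iff.2 h, top_inf_eq] at this

theorem pPrimeCore_eq_bot_iff [Finite G] : pPrimeCore p G = ⊥ ↔
    ∀ N : Subgroup G, N.Normal → (Nat.card N).Coprime p → N = ⊥ := by
  constructor
  · exact fun h N hN hc => le_bot_iff.1 (h ▸ (haveI := hN; le_pPrimeCore hc))
  · exact fun h => h _ inferInstance (pPrimeCore_coprime p G)

/-! #### The odd core -/

theorem odd_card_oddCore (G : Type*) [Group G] [Finite G] : Odd (Nat.card (oddCore G)) :=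
  Nat.coprime_two_right.1 (pPrimeCore_coprime 2 G)

theorem le_oddCore {N : Subgroup G} [N.Normal] (h : Odd (Nat.card N)) : N ≤ oddCore G :=
  le_pPrimeCore (Nat.coprime_two_right.2 h)

theorem le_oddCore_iff [Finite G] {N : Subgroup G} [N.Normal] :
    N ≤ oddCore G ↔ Odd (Nat.card N) := by
  rw [oddCore, le_pPrimeCore_iff, Nat.coprime_two_right]

theorem oddCore_eq_top_iff [Finite G] : oddCore G = ⊤ ↔ Odd (Nat.card G) := by
  rw [oddCore, pPrimeCore_eq_top_iff, Nat.coprime_two_right]

/-- The upper term `O_{p',p}` contains `O_{p'}`. -/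
theorem pPrimeCore_le_pPrimePCore (p : ℕ) (G : Type*) [Group G] :
    pPrimeCore p G ≤ (pCore p (G ⧸ pPrimeCore p G)).comap (QuotientGroup.mk' (pPrimeCore p G)) :=
  QuotientGroup.le_comap_mk' _ _

end PPrimeCore

/-! ### `O_π` -/

section PiCore

variable {K : Type u} [Group K] {L : Type u} [Group L] {π : Set ℕ}

theorem piCore_primes (π : Set ℕ) (K : Type u) [Group K] [Finite K] :
    ∀ q : ℕ, q.Prime → q ∣ Nat.card (piCore π K) → q ∈ π :=
  sSup_normal_induction (P := fun N : Subgroup K => ∀ q : ℕ, q.Prime → q ∣ Nat.card N → q ∈ π)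
    (fun q hq h => absurd (Nat.dvd_one.1 (by simpa using h)) hq.one_lt.ne')
    fun A B _ hB hA' hB' q hq h =>
      haveI := hB
      (hq.dvd_mul.1 (h.trans (card_sup_dvd A B))).elim (hA' q hq) (hB' q hq)

theorem le_piCore {N : Subgroup K} [hN : N.Normal]
    (h : ∀ q : ℕ, q.Prime → q ∣ Nat.card N → q ∈ π) : N ≤ piCore π K :=
  le_sSup ⟨hN, h⟩

theorem le_piCore_iff [Finite K] {N : Subgroup K} [N.Normal] :
    N ≤ piCore π K ↔ ∀ q : ℕ, q.Prime → q ∣ Nat.card N → q ∈ π :=
  ⟨fun h q hq hd => piCore_primes π K q hq (hd.trans (Subgroup.card_dvd_of_le h)), le_piCore⟩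

theorem piCore_eq_top_iff [Finite K] :
    piCore π K = ⊤ ↔ ∀ q : ℕ, q.Prime → q ∣ Nat.card K → q ∈ π := by
  rw [← top_le_iff, le_piCore_iff, Subgroup.card_top]

theorem map_piCore_mulEquiv (e : K ≃* L) : (piCore π K).map e.toMonoidHom = piCore π L :=
  map_sSup_mulEquiv e fun N => by rw [normal_map_mulEquiv_iff, card_map_mulEquiv]

instance piCore_characteristic (π : Set ℕ) (K : Type u) [Group K] :
    (piCore π K).Characteristic :=
  Subgroup.characteristic_iff_map_eq.2 fun e => map_piCore_mulEquiv e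

theorem piCore_mono {π' : Set ℕ} (h : π ⊆ π') : piCore π K ≤ piCore π' K :=
  sSup_le fun _ hN => le_sSup ⟨hN.1, fun q hq hd => h (hN.2 q hq hd)⟩

theorem map_piCore_le [Finite K] (f : K →* L) (hf : Function.Surjective f) :
    (piCore π K).map f ≤ piCore π L :=
  haveI : ((piCore π K).map f).Normal := (piCore_normal π K).map f hf
  le_piCore fun q hq hd => piCore_primes π K q hq (hd.trans (card_map_dvd f _))

theorem comap_mk'_piCore [Finite K] (N : Subgroup K) [N.Normal]
    (hN : ∀ q : ℕ, q.Prime → q ∣ Nat.card N → q ∈ π) :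
    (piCore π (K ⧸ N)).comap (QuotientGroup.mk' N) = piCore π K := by
  refine le_antisymm ?_ (Subgroup.map_le_iff_le_comap.1
    (map_piCore_le _ (QuotientGroup.mk'_surjective N)))
  haveI := (piCore_normal π (K ⧸ N)).comap (QuotientGroup.mk' N)
  refine le_piCore fun q hq hd => ?_
  rw [card_comap_mk'] at hd
  exact (hq.dvd_mul.1 hd).elim (hN q hq) (piCore_primes π _ q hq)

theorem piCore_quotient_piCore (π : Set ℕ) (K : Type u) [Group K] [Finite K] :
    piCore π (K ⧸ piCore π K) = ⊥ := by
  rw [← map_mk'_comap (piCore π K) (piCore π (K ⧸ piCore π K)),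
    comap_mk'_piCore _ (piCore_primes π K), map_mk'_eq_bot_iff]

/-- A `π`-subgroup of `M` normalised by `M` lies in `O_π(M)`. -/
theorem le_map_piCore {A M : Subgroup K} (hAM : A ≤ M)
    (hn : M ≤ Subgroup.normalizer (A : Set K))
    (hp : ∀ q : ℕ, q.Prime → q ∣ Nat.card A → q ∈ π) :
    A ≤ (piCore π M).map M.subtype := by
  haveI := Subgroup.normal_subgroupOf_of_le_normalizer hn
  calc A = (A.subgroupOf M).map M.subtype := (Subgroup.map_subgroupOf_eq_of_le hAM).symm
    _ ≤ _ := Subgroup.map_mono (le_piCore (by rwa [card_subgroupOf hAM]))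

theorem map_piCore_eq_inf [Finite K] (N : Subgroup K) [N.Normal] :
    (piCore π N).map N.subtype = piCore π K ⊓ N := by
  refine le_antisymm (le_inf ?_ (Subgroup.map_subtype_le _)) ?_
  · exact le_piCore fun q hq hd => piCore_primes π N q hq (by rwa [card_map_subtype] at hd)
  · exact le_map_piCore inf_le_right Subgroup.le_normalizer_of_normal fun q hq hd =>
      piCore_primes π K q hq (hd.trans (Subgroup.card_dvd_of_le inf_le_left))

theorem piCore_singleton [Finite K] {p : ℕ} [hp : Fact p.Prime] :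
    piCore ({p} : Set ℕ) K = pCore p K := by
  apply le_antisymm
  · apply le_pCore
    exact IsPGroup.of_card (n := (Nat.card (piCore ({p} : Set ℕ) K)).primeFactorsList.length)
      (Nat.eq_prime_pow_of_unique_prime_dvd Nat.card_pos.ne'
        fun {d} hq hd => piCore_primes _ K d hq hd)
  · refine le_piCore fun q hq hd => ?_
    obtain ⟨n, hn⟩ := pCore_eq_pow_card p K
    exact (Nat.prime_dvd_prime_iff_eq hq hp.out).1 (hq.dvd_of_dvd_pow (hn ▸ hd))

theorem piCore_compl_singleton [Finite K] {p : ℕ} [hp : Fact p.Prime] :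
    piCore ({p}ᶜ : Set ℕ) K = pPrimeCore p K := by
  apply le_antisymm
  · exact le_pPrimeCore_of_not_dvd fun h => piCore_primes _ K p hp.out h rfl
  · exact le_piCore fun q hq hd => by
      rintro (rfl : q = p)
      exact not_dvd_card_pPrimeCore q K hd

end PiCore

end CfsgLib.Base
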