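import Mathlib
import Cfsg.Prelude.Def_Solvable
import Cfsg.Agent.Lib.Base.Cores

/-!
Fitting's theorem and the Fitting subgroup of a finite group.
-/

set_option autoImplicit false
set_option linter.style.haveILetI false

namespace CfsgLib.Base

open Cfsg

variable {G : Type*} [Group G] {H' : Type*} [Group H']

private def shiftedSeries (H : Subgroup G) : ℕ → Subgroup G
  | 0 => ⊤
  | i + 1 => H.lowerCentralSeries i

/-- Fitting's theorem: the join of two normal nilpotent subgroups is nilpotent. -/
theorem isNilpotent_sup (H K : Subgroup G) [H.Normal] [K.Normal] (hH : Group.IsNilpotent H)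
    (hK : Group.IsNilpotent K) : Group.IsNilpotent (H ⊔ K : Subgroup G) := by
  have hN : ∀ (L : Subgroup G) [L.Normal] (i : ℕ), (shiftedSeries L i).Normal := fun L _ i => by
    cases i with
    | zero => exact (inferInstance : (⊤ : Subgroup G).Normal)
    | succ i => exact Subgroup.lowerCentralSeries_normal L i
  haveI := fun i => hN H i
  haveI := fun i => hN K i
  have hstep : ∀ (L : Subgroup G) [L.Normal] (i : ℕ),
      ⁅shiftedSeries L i, L⁆ ≤ shiftedSeries L (i + 1) := fun L _ i => by
    cases i with
    | zero => exact Subgroup.commutator_le_right _ _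
    | succ i => exact le_rfl
  let B : ℕ → Subgroup G := fun n =>
    ⨆ ij : {ij : ℕ × ℕ // ij.1 + ij.2 = n}, shiftedSeries H ij.1.1 ⊓ shiftedSeries K ij.1.2
  have hBn : ∀ n, (B n).Normal := fun n => by
    simp only [B]
    rw [← sSup_range]
    refine Subgroup.sSup_normal _ ?_
    rintro _ ⟨ij, rfl⟩
    exact inferInstance
  have hle : ∀ i j n, i + j = n → shiftedSeries H i ⊓ shiftedSeries K j ≤ B n := fun i j n h =>
    le_iSup (fun ij : {ij : ℕ × ℕ // ij.1 + ij.2 = n} =>
      shiftedSeries H ij.1.1 ⊓ shiftedSeries K ij.1.2) ⟨(i, j), h⟩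
  have key : ∀ n, (H ⊔ K).lowerCentralSeries n ≤ B (n + 1) := by
    intro n
    induction n with
    | zero =>
      simp only [Subgroup.lowerCentralSeries_zero, sup_le_iff]
      exact ⟨le_trans (le_inf le_rfl le_top) (hle 1 0 1 rfl),
        le_trans (le_inf le_top le_rfl) (hle 0 1 1 rfl)⟩
    | succ n ih =>
      rw [Subgroup.lowerCentralSeries_succ]
      refine le_trans (Subgroup.commutator_mono ih le_rfl) ?_
      haveI := hBn (n + 1 + 1)
      refine commutator_iSup_left_le fun ⟨⟨i, j⟩, hij⟩ => commutator_sup_right_le ?_ ?_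
      · refine le_trans (le_inf ((Subgroup.commutator_mono inf_le_left le_rfl).trans (hstep H i))
          ((Subgroup.commutator_mono inf_le_right le_rfl).trans
            (Subgroup.commutator_le_left _ _))) (hle (i + 1) j _ (by omega))
      · refine le_trans (le_inf ((Subgroup.commutator_mono inf_le_left le_rfl).trans
            (Subgroup.commutator_le_left _ _))
          ((Subgroup.commutator_mono inf_le_right le_rfl).trans (hstep K j)))
          (hle i (j + 1) _ (by omega))
  obtain ⟨c, hc⟩ := (Subgroup.isNilpotent_iff_lowerCentralSeries H).1 hH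
  obtain ⟨d, hd⟩ := (Subgroup.isNilpotent_iff_lowerCentralSeries K).1 hK
  refine Subgroup.isNilpotent_of_lowerCentralSeries_eq_bot (n := c + d + 1)
    (le_bot_iff.1 ((key _).trans (iSup_le fun ⟨⟨i, j⟩, hij⟩ => ?_)))
  rcases Nat.lt_or_ge c i with h | h
  · refine inf_le_left.trans ?_
    obtain ⟨k, rfl⟩ : ∃ k, i = k + 1 := ⟨i - 1, by omega⟩
    exact (H.lowerCentralSeries_antitone (by omega : c ≤ k)).trans hc.le
  · refine inf_le_right.trans ?_
    simp only at hij
    obtain ⟨k, rfl⟩ : ∃ k, j = k + 1 := ⟨j - 1, by omega⟩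
    exact (K.lowerCentralSeries_antitone (by omega : d ≤ k)).trans hd.le

theorem isNilpotent_of_le {H K : Subgroup G} (h : H ≤ K) (hK : Group.IsNilpotent K) :
    Group.IsNilpotent H := by
  haveI := hK
  exact Group.nilpotent_of_mulEquiv (Subgroup.subgroupOfEquivOfLe h)

theorem isNilpotent_map (f : G →* H') {K : Subgroup G} (hK : Group.IsNilpotent K) :
    Group.IsNilpotent (K.map f) := by
  haveI := hK
  exact Group.nilpotent_of_surjective (f.subgroupMap K) (f.subgroupMap_surjective K)

theorem isNilpotent_of_isPGroup [Finite G] {p : ℕ} [Fact p.Prime] {P : Subgroup G}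
    (h : IsPGroup p P) : Group.IsNilpotent P :=
  h.isNilpotent

theorem fittingSubgroup_normal' (G : Type*) [Group G] : (fittingSubgroup G).Normal :=
  Subgroup.sSup_normal _ fun _ h => h.1

theorem map_fittingSubgroup_mulEquiv (e : G ≃* H') :
    (fittingSubgroup G).map e.toMonoidHom = fittingSubgroup H' :=
  map_sSup_mulEquiv e fun N => and_congr (normal_map_mulEquiv_iff e N).symm
    (Group.isNilpotent_congr (N.equivMapOfInjective e.toMonoidHom e.injective))

instance fittingSubgroup_characteristic (G : Type*) [Group G] :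
    (fittingSubgroup G).Characteristic :=
  Subgroup.characteristic_iff_map_eq.2 fun e => map_fittingSubgroup_mulEquiv e

theorem isNilpotent_fittingSubgroup (G : Type*) [Group G] [Finite G] :
    Group.IsNilpotent (fittingSubgroup G) :=
  sSup_normal_induction (P := fun N : Subgroup G => Group.IsNilpotent N) inferInstance
    fun H K hH hK hH' hK' => haveI := hH; haveI := hK; isNilpotent_sup H K hH' hK'

theorem le_fittingSubgroup {N : Subgroup G} [hN : N.Normal] (h : Group.IsNilpotent N) :
    N ≤ fittingSubgroup G :=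
  le_sSup ⟨hN, h⟩

theorem le_fittingSubgroup_iff [Finite G] {N : Subgroup G} [N.Normal] :
    N ≤ fittingSubgroup G ↔ Group.IsNilpotent N :=
  ⟨fun h => isNilpotent_of_le h (isNilpotent_fittingSubgroup G), le_fittingSubgroup⟩

theorem fittingSubgroup_eq_top_iff [Finite G] :
    fittingSubgroup G = ⊤ ↔ Group.IsNilpotent G := by
  rw [← top_le_iff, le_fittingSubgroup_iff, Group.isNilpotent_top]

theorem le_fittingSubgroup_of_isMulCommutative {A : Subgroup G} [A.Normal]
    [IsMulCommutative A] : A ≤ fittingSubgroup G := by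
  refine le_fittingSubgroup ((Subgroup.isNilpotent_iff_lowerCentralSeries A).2 ⟨1, ?_⟩)
  rw [Subgroup.lowerCentralSeries_succ, Subgroup.lowerCentralSeries_zero,
    Subgroup.commutator_eq_bot_iff_le_centralizer]
  exact A.le_centralizer

theorem center_le_fittingSubgroup (G : Type*) [Group G] :
    Subgroup.center G ≤ fittingSubgroup G :=
  le_fittingSubgroup_of_isMulCommutative

theorem frattini_le_fittingSubgroup (G : Type*) [Group G] [Finite G] :
    frattini G ≤ fittingSubgroup G :=
  le_fittingSubgroup frattini_nilpotent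

theorem pCore_le_fittingSubgroup (p : ℕ) (G : Type*) [Group G] [Finite G] [Fact p.Prime] :
    pCore p G ≤ fittingSubgroup G :=
  le_fittingSubgroup (isPGroup_pCore p G).isNilpotent

theorem map_fittingSubgroup_le [Finite G] (f : G →* H') (hf : Function.Surjective f) :
    (fittingSubgroup G).map f ≤ fittingSubgroup H' :=
  haveI : ((fittingSubgroup G).map f).Normal := (fittingSubgroup_normal' G).map f hf
  le_fittingSubgroup (isNilpotent_map f (isNilpotent_fittingSubgroup G))

/-- A nilpotent subgroup of `M` normalised by `M` lies in `F(M)`. -/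
theorem le_map_fittingSubgroup {A M : Subgroup G} (hAM : A ≤ M)
    (hn : M ≤ Subgroup.normalizer (A : Set G)) (h : Group.IsNilpotent A) :
    A ≤ (fittingSubgroup M).map M.subtype := by
  haveI := Subgroup.normal_subgroupOf_of_le_normalizer hn
  calc A = (A.subgroupOf M).map M.subtype := (Subgroup.map_subgroupOf_eq_of_le hAM).symm
    _ ≤ _ := Subgroup.map_mono (le_fittingSubgroup (by
      haveI := h
      exact Group.nilpotent_of_mulEquiv (Subgroup.subgroupOfEquivOfLe hAM).symm))

theorem isNilpotent_map_fittingSubgroup [Finite G] (M : Subgroup G) :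
    Group.IsNilpotent ((fittingSubgroup M).map M.subtype) :=
  isNilpotent_map _ (isNilpotent_fittingSubgroup M)

theorem map_fittingSubgroup_le_of_isSubnormal [Finite G] {K : Subgroup G} (hK : K.IsSubnormal) :
    (fittingSubgroup K).map K.subtype ≤ fittingSubgroup G := by
  induction hK with
  | top => exact (map_fittingSubgroup_mulEquiv (Subgroup.topEquiv (G := G))).le
  | step A B hle _ hn ih =>
    refine le_trans (le_map_fittingSubgroup ((Subgroup.map_subtype_le _).trans hle) ?_
      (isNilpotent_map_fittingSubgroup A)) ih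
    exact ((Subgroup.normal_subgroupOf_iff_le_normalizer hle).1 hn).trans
      (normalizer_le_normalizer_map_subtype A _)

theorem le_fittingSubgroup_of_isSubnormal [Finite G] {K : Subgroup G} (hK : K.IsSubnormal)
    (h : Group.IsNilpotent K) : K ≤ fittingSubgroup G := by
  refine le_trans ?_ (map_fittingSubgroup_le_of_isSubnormal hK)
  rw [fittingSubgroup_eq_top_iff.2 h, ← MonoidHom.range_eq_map, Subgroup.range_subtype]

theorem map_fittingSubgroup_eq_inf [Finite G] (N : Subgroup G) [hN : N.Normal] :
    (fittingSubgroup N).map N.subtype = fittingSubgroup G ⊓ N := by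
  refine le_antisymm (le_inf (map_fittingSubgroup_le_of_isSubnormal hN.isSubnormal)
    (Subgroup.map_subtype_le _)) ?_
  haveI := fittingSubgroup_normal' G
  exact le_map_fittingSubgroup inf_le_right Subgroup.le_normalizer_of_normal
    (isNilpotent_of_le inf_le_left (isNilpotent_fittingSubgroup G))

/-- A finite group is generated by its Sylow subgroups (one chosen for each prime). -/
theorem iSup_sylow_eq_top [Finite G] (S : ∀ p : Nat.Primes, Sylow (p : ℕ) G) :
    ⨆ p, (S p : Subgroup G) = ⊤ := by
  rw [← Subgroup.index_eq_one]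
  by_contra hne
  obtain ⟨q, hq, hd⟩ := Nat.exists_prime_and_dvd hne
  haveI : Fact q.Prime := ⟨hq⟩
  exact (S ⟨q, hq⟩).not_dvd_index (hd.trans (Subgroup.index_dvd_of_le
    (le_iSup (fun p => (S p : Subgroup G)) ⟨q, hq⟩)))

/-- `F(G)` is the join of the `O_p(G)`. -/
theorem fittingSubgroup_eq_iSup_pCore (G : Type*) [Group G] [Finite G] :
    fittingSubgroup G = ⨆ p : Nat.Primes, pCore (p : ℕ) G := by
  refine le_antisymm ?_ (iSup_le fun p => haveI := Fact.mk p.2; pCore_le_fittingSubgroup _ G)
  haveI := isNilpotent_fittingSubgroup G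
  haveI := fittingSubgroup_normal' G
  calc fittingSubgroup G = (⊤ : Subgroup (fittingSubgroup G)).map (fittingSubgroup G).subtype := by
        rw [← MonoidHom.range_eq_map, Subgroup.range_subtype]
    _ ≤ _ := ?_
  rw [← iSup_sylow_eq_top (fun p => Classical.arbitrary (Sylow (p : ℕ) (fittingSubgroup G))),
    Subgroup.map_iSup]
  refine iSup_mono fun p => ?_
  haveI := Fact.mk p.2
  haveI : ((Classical.arbitrary (Sylow (p : ℕ) (fittingSubgroup G))) :
      Subgroup (fittingSubgroup G)).Normal := inferInstance
  exact le_trans (Subgroup.map_mono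
    (le_pCore (Sylow.isPGroup' _))) ((map_pCore_eq_inf (fittingSubgroup G)).le.trans inf_le_left)

/-- `O_p(G)` is a Sylow subgroup of `F(G)`. -/
theorem map_pCore_fittingSubgroup (p : ℕ) (G : Type*) [Group G] [Finite G] [Fact p.Prime] :
    (pCore p (fittingSubgroup G)).map (fittingSubgroup G).subtype = pCore p G := by
  haveI := fittingSubgroup_normal' G
  rw [map_pCore_eq_inf, inf_eq_left.2 (pCore_le_fittingSubgroup p G)]

theorem fittingSubgroup_eq_bot_iff (G : Type*) [Group G] [Finite G] :
    fittingSubgroup G = ⊥ ↔ ∀ p : ℕ, p.Prime → pCore p G = ⊥ := by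
  rw [fittingSubgroup_eq_iSup_pCore, iSup_eq_bot]
  exact ⟨fun h p hp => h ⟨p, hp⟩, fun h p => h p p.2⟩

end CfsgLib.Base
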