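import Mathlib
import Cfsg.Prelude.Def_CaseTheorems
import Cfsg.Prelude.Def_Transfer
import Cfsg.Prelude.Def_OddOrderLocal
import Cfsg.Agent.Lib.Base.Transport

/-!
Elementary abelian subgroups and bounds on the `p`-rank.
-/

set_option autoImplicit false
set_option linter.style.haveILetI false

namespace CfsgLib.Base

open Cfsg

universe u v

variable {G : Type u} [Group G] {H' : Type v} [Group H'] {p k : ℕ}

theorem isMulCommutative_subgroup_iff {A : Subgroup G} :
    IsMulCommutative A ↔ ∀ a ∈ A, ∀ b ∈ A, a * b = b * a :=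
  ⟨fun h a ha b hb => congrArg Subtype.val (h.is_comm.comm ⟨a, ha⟩ ⟨b, hb⟩),
    fun h => ⟨⟨fun a b => Subtype.ext (h a a.2 b b.2)⟩⟩⟩

theorem isElementaryAbelian_iff {A : Subgroup G} : IsElementaryAbelian p A ↔
    (∀ a ∈ A, ∀ b ∈ A, a * b = b * a) ∧ ∀ a ∈ A, a ^ p = 1 := by
  rw [IsElementaryAbelian, isMulCommutative_subgroup_iff]

theorem isElementaryAbelian_le {A B : Subgroup G} (h : A ≤ B) (hB : IsElementaryAbelian p B) :
    IsElementaryAbelian p A := by
  rw [isElementaryAbelian_iff] at hB ⊢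
  exact ⟨fun a ha b hb => hB.1 a (h ha) b (h hb), fun a ha => hB.2 a (h ha)⟩

theorem isElementaryAbelian_bot (p : ℕ) : IsElementaryAbelian p (⊥ : Subgroup G) := by
  simp [isElementaryAbelian_iff]

theorem isElementaryAbelian_map (f : G →* H') {A : Subgroup G} (hA : IsElementaryAbelian p A) :
    IsElementaryAbelian p (A.map f) := by
  rw [isElementaryAbelian_iff] at hA ⊢
  simp only [Subgroup.mem_map, forall_exists_index, and_imp, forall_apply_eq_imp_iff₂]
  exact ⟨fun a ha b hb => by rw [← map_mul, ← map_mul, hA.1 a ha b hb],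
    fun a ha => by rw [← map_pow, hA.2 a ha, map_one]⟩

theorem isElementaryAbelian_comap {f : G →* H'} (hf : Function.Injective f) {A : Subgroup H'}
    (hA : IsElementaryAbelian p A) : IsElementaryAbelian p (A.comap f) := by
  rw [isElementaryAbelian_iff] at hA ⊢
  exact ⟨fun a ha b hb => hf (by rw [map_mul, map_mul, hA.1 _ ha _ hb]),
    fun a ha => hf (by rw [map_pow, hA.2 _ ha, map_one])⟩

theorem isElementaryAbelian_map_iff {f : G →* H'} (hf : Function.Injective f) {A : Subgroup G} :
    IsElementaryAbelian p (A.map f) ↔ IsElementaryAbelian p A := by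
  refine ⟨fun h => ?_, isElementaryAbelian_map f⟩
  rw [← Subgroup.comap_map_eq_self_of_injective hf A]
  exact isElementaryAbelian_comap hf h

theorem isElementaryAbelian_subgroupOf {A : Subgroup G} (hA : IsElementaryAbelian p A)
    (K : Subgroup G) : IsElementaryAbelian p (A.subgroupOf K) :=
  isElementaryAbelian_comap K.subtype_injective hA

theorem isPGroup_of_isElementaryAbelian {A : Subgroup G} (hA : IsElementaryAbelian p A) :
    IsPGroup p A :=
  fun a => ⟨1, Subtype.ext (by simpa using hA.2 a a.2)⟩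

theorem exists_card_eq_pow_of_isElementaryAbelian [Fact p.Prime] [Finite G] {A : Subgroup G}
    (hA : IsElementaryAbelian p A) : ∃ n, Nat.card A = p ^ n :=
  IsPGroup.iff_card.1 (isPGroup_of_isElementaryAbelian hA)

theorem isElementaryAbelian_zpowers {x : G} (hx : x ^ p = 1) :
    IsElementaryAbelian p (Subgroup.zpowers x) := by
  rw [isElementaryAbelian_iff]
  simp only [Subgroup.mem_zpowers_iff, forall_exists_index, forall_apply_eq_imp_iff]
  refine ⟨fun i j => by rw [← zpow_add, ← zpow_add, add_comm], fun i => ?_⟩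
  rw [← zpow_natCast, ← zpow_mul, mul_comm, zpow_mul, zpow_natCast, hx, one_zpow]

theorem isElementaryAbelian_sup {A B : Subgroup G} (hA : IsElementaryAbelian p A)
    (hB : IsElementaryAbelian p B) (h : A ≤ Subgroup.centralizer (B : Set G)) :
    IsElementaryAbelian p (A ⊔ B) := by
  obtain ⟨hA1, hA2⟩ := isElementaryAbelian_iff.1 hA
  obtain ⟨hB1, hB2⟩ := isElementaryAbelian_iff.1 hB
  have hc : ∀ a ∈ A, ∀ b ∈ B, a * b = b * a := fun a ha b hb =>
    (Subgroup.mem_centralizer_iff.1 (h ha) b hb).symm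
  have hmem : ∀ x ∈ A ⊔ B, ∃ a ∈ A, ∃ b ∈ B, a * b = x := fun x hx => by
    have hn : A ≤ Subgroup.normalizer (B : Set G) :=
      h.trans (Subgroup.centralizer_le_normalizer _)
    rwa [← SetLike.mem_coe, Subgroup.coe_mul_of_left_le_normalizer_right A B hn, Set.mem_mul] at hx
  rw [isElementaryAbelian_iff]
  constructor
  · intro x hx y hy
    obtain ⟨a, ha, b, hb, rfl⟩ := hmem x hx
    obtain ⟨c, hc', d, hd, rfl⟩ := hmem y hy
    calc a * b * (c * d) = a * (b * c) * d := by group
      _ = a * (c * b) * d := by rw [hc c hc' b hb]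
      _ = (a * c) * (b * d) := by group
      _ = (c * a) * (d * b) := by rw [hA1 a ha c hc', hB1 b hb d hd]
      _ = c * (a * d) * b := by group
      _ = c * (d * a) * b := by rw [hc a ha d hd]
      _ = c * d * (a * b) := by group
  · intro x hx
    obtain ⟨a, ha, b, hb, rfl⟩ := hmem x hx
    rw [Commute.mul_pow (hc a ha b hb), hA2 a ha, hB2 b hb, one_mul]

/-! ### `PRankLE` -/

theorem pRankLE_iff : PRankLE p k G ↔
    ∀ A : Subgroup G, IsElementaryAbelian p A → Nat.card A ≤ p ^ k :=
  ⟨fun h A hA => h A hA.1 hA.2, fun h A h1 h2 => h A ⟨h1, h2⟩⟩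

theorem pRankLE_of_injective (f : G →* H') (hf : Function.Injective f) (h : PRankLE p k H') :
    PRankLE p k G := by
  rw [pRankLE_iff] at h ⊢
  intro A hA
  rw [← card_map_of_injective hf A]
  exact h _ (isElementaryAbelian_map f hA)

theorem pRankLE_congr (e : G ≃* H') : PRankLE p k G ↔ PRankLE p k H' :=
  ⟨pRankLE_of_injective e.symm.toMonoidHom e.symm.injective,
    pRankLE_of_injective e.toMonoidHom e.injective⟩

theorem pRankLE_subgroup (h : PRankLE p k G) (K : Subgroup G) : PRankLE p k K :=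
  pRankLE_of_injective K.subtype K.subtype_injective h

theorem pRankLE_mono {k' : ℕ} (hp : 0 < p) (hk : k ≤ k') (h : PRankLE p k G) :
    PRankLE p k' G :=
  fun A h1 h2 => (h A h1 h2).trans (Nat.pow_le_pow_right hp hk)

theorem pRankLE_of_card_le (h : Nat.card G ≤ p ^ k) [Finite G] : PRankLE p k G :=
  fun A _ _ => (Subgroup.card_le_card_group A).trans h

theorem pRankLE_card_log [Finite G] (hp : 1 < p) : PRankLE p (Nat.card G) G :=
  pRankLE_of_card_le (Nat.lt_pow_self hp).le

theorem pRankLE_top_iff : PRankLE p k (⊤ : Subgroup G) ↔ PRankLE p k G :=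
  pRankLE_congr Subgroup.topEquiv

theorem pRankLE_iff_of_le {H K : Subgroup G} (h : H ≤ K) :
    PRankLE p k (H.subgroupOf K) ↔ PRankLE p k H :=
  pRankLE_congr (Subgroup.subgroupOfEquivOfLe h)

theorem pRankLE_subgroup_iff {K : Subgroup G} :
    PRankLE p k K ↔ ∀ A : Subgroup G, A ≤ K → IsElementaryAbelian p A → Nat.card A ≤ p ^ k := by
  rw [pRankLE_iff]
  constructor
  · intro h A hAK hA
    rw [← card_subgroupOf hAK]
    exact h _ (isElementaryAbelian_subgroupOf hA K)
  · intro h A hA
    rw [← card_map_subtype A]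
    exact h _ (Subgroup.map_subtype_le A) (isElementaryAbelian_map _ hA)

/-- The `p`-rank is attained inside a Sylow `p`-subgroup. -/
theorem pRankLE_iff_sylow [Finite G] [Fact p.Prime] (P : Sylow p G) :
    PRankLE p k G ↔ PRankLE p k (P : Subgroup G) := by
  refine ⟨fun h => pRankLE_subgroup h _, fun h => pRankLE_iff.2 fun A hA => ?_⟩
  obtain ⟨Q, hQ⟩ := (isPGroup_of_isElementaryAbelian hA).exists_le_sylow
  rw [← card_subgroupOf hQ]
  exact pRankLE_iff.1 ((pRankLE_congr (Q.equiv P)).2 h) _ (isElementaryAbelian_subgroupOf hA _)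

theorem sectionalPRankLE_pRankLE (h : SectionalPRankLE p k G) : PRankLE p k G :=
  (pRankLE_congr ((Subgroup.topEquiv (G := G)).symm.trans QuotientGroup.quotientBot.symm)).2
    (h ⊤ ⊥)

theorem rankLE_congr {L : Type u} [Group L] (e : G ≃* L) : RankLE k G ↔ RankLE k L :=
  forall₂_congr fun _ _ => pRankLE_congr e

theorem rankLE_subgroup (h : RankLE k G) (K : Subgroup G) : RankLE k K :=
  fun p hp => pRankLE_subgroup (h p hp) K

end CfsgLib.Base
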