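import Mathlib
import Cfsg.Agent.Lib.Base.Cores
import Cfsg.Agent.Lib.Base.Fitting

/-!
Minimal normal subgroups and first facts about finite solvable groups. A minimal normal subgroup `N`
is given by `N.Normal`, `N ≠ ⊥` and `∀ K, K.Normal → K ≤ N → K = ⊥ ∨ K = N`.
-/

set_option autoImplicit false
set_option linter.style.haveILetI false

namespace CfsgLib.Base

open Cfsg

variable {G : Type*} [Group G]

/-- `N` is a minimal normal subgroup of `G`. -/
def IsMinimalNormal (N : Subgroup G) : Prop :=
  N.Normal ∧ N ≠ ⊥ ∧ ∀ K : Subgroup G, K.Normal → K ≤ N → K = ⊥ ∨ K = N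

namespace IsMinimalNormal

variable {N M : Subgroup G}

theorem normal (h : IsMinimalNormal N) : N.Normal := h.1

theorem ne_bot (h : IsMinimalNormal N) : N ≠ ⊥ := h.2.1

theorem eq_bot_or_eq (h : IsMinimalNormal N) {K : Subgroup G} (hK : K.Normal) (hle : K ≤ N) :
    K = ⊥ ∨ K = N :=
  h.2.2 K hK hle

theorem le_or_inf_eq_bot (h : IsMinimalNormal N) (M : Subgroup G) [M.Normal] :
    N ≤ M ∨ N ⊓ M = ⊥ := by
  haveI := h.normal
  exact (h.eq_bot_or_eq (K := N ⊓ M) inferInstance inf_le_left).symm.imp_left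
    fun e => e.ge.trans inf_le_right

theorem le_centralizer_of_ne (h : IsMinimalNormal N) (h' : IsMinimalNormal M) (hne : N ≠ M) :
    N ≤ Subgroup.centralizer (M : Set G) := by
  haveI := h.normal
  haveI := h'.normal
  refine le_centralizer_of_normal_disjoint ((h.le_or_inf_eq_bot M).resolve_left fun hle => ?_)
  exact (h'.eq_bot_or_eq h.normal hle).elim h.ne_bot hne

end IsMinimalNormal

theorem exists_isMinimalNormal_le [Finite G] {N : Subgroup G} [hN : N.Normal] (hne : N ≠ ⊥) :
    ∃ M ≤ N, IsMinimalNormal M := by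
  obtain ⟨M, ⟨hM, hMne, hle⟩, hmin⟩ := Finite.exists_le_minimal
    (p := fun K : Subgroup G => K.Normal ∧ K ≠ ⊥ ∧ K ≤ N) (a := N) ⟨hN, hne, le_rfl⟩ |>.imp
      fun M h => h.2
  refine ⟨M, hle, hM, hMne, fun K hK hKM => or_iff_not_imp_left.2 fun hKne => ?_⟩
  exact le_antisymm hKM (hmin ⟨hK, hKne, hKM.trans hle⟩ hKM)

theorem exists_isMinimalNormal [Finite G] [Nontrivial G] :
    ∃ M : Subgroup G, IsMinimalNormal M :=
  (exists_isMinimalNormal_le (N := (⊤ : Subgroup G)) top_ne_bot).imp fun _ h => h.2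

theorem commutator_self_lt_of_isSolvable {N : Subgroup G} (hne : N ≠ ⊥)
    (hs : Group.IsSolvable N) : ⁅N, N⁆ < N := by
  haveI := hs
  haveI : Nontrivial N := (Subgroup.nontrivial_iff_ne_bot N).2 hne
  refine lt_of_le_of_ne (Subgroup.commutator_le_self N) fun h => ?_
  refine (Group.IsSolvable.commutator_lt_top_of_nontrivial N).ne ?_
  apply Subgroup.map_injective N.subtype_injective
  rw [commutator_def, Subgroup.map_commutator, ← MonoidHom.range_eq_map, Subgroup.range_subtype, h]

theorem IsMinimalNormal.isMulCommutative {N : Subgroup G} (h : IsMinimalNormal N)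
    (hs : Group.IsSolvable N) : IsMulCommutative N := by
  haveI := h.normal
  have hlt := commutator_self_lt_of_isSolvable h.ne_bot hs
  rcases h.eq_bot_or_eq (Subgroup.commutator_normal N N) hlt.le with h0 | h1
  · have hc := Subgroup.commutator_eq_bot_iff_le_centralizer.1 h0
    exact ⟨⟨fun a b => Subtype.ext (Subgroup.mem_centralizer_iff.1 (hc b.2) a a.2)⟩⟩
  · exact absurd h1 hlt.ne

/-- A solvable minimal normal subgroup of a finite group is elementary abelian. -/
theorem IsMinimalNormal.exists_prime [Finite G] {N : Subgroup G} (h : IsMinimalNormal N)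
    (hs : Group.IsSolvable N) :
    ∃ p : ℕ, p.Prime ∧ IsMulCommutative N ∧ (∀ x ∈ N, x ^ p = 1) ∧ IsPGroup p N := by
  haveI := h.normal
  have hcomm := h.isMulCommutative hs
  obtain ⟨p, hp, hd⟩ := Nat.exists_prime_and_dvd (fun hc => h.ne_bot (N.eq_bot_of_card_eq hc))
  haveI := Fact.mk hp
  have hmul : ∀ a ∈ N, ∀ b ∈ N, a * b = b * a := fun a ha b hb =>
    congrArg Subtype.val (hcomm.is_comm.comm ⟨a, ha⟩ ⟨b, hb⟩)
  let K : Subgroup G :=
    { carrier := {x | x ∈ N ∧ x ^ p = 1}
      one_mem' := ⟨N.one_mem, one_pow p⟩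
      mul_mem' := fun {a b} ha hb => ⟨N.mul_mem ha.1 hb.1, by
        rw [Commute.mul_pow (hmul a ha.1 b hb.1), ha.2, hb.2, one_mul]⟩
      inv_mem' := fun {a} ha => ⟨N.inv_mem ha.1, by rw [inv_pow, ha.2, inv_one]⟩ }
  have hK : K.Normal :=
    ⟨fun x hx g => ⟨(inferInstance : N.Normal).conj_mem x hx.1 g, by
      rw [conj_pow, hx.2, mul_one, mul_inv_cancel]⟩⟩
  obtain ⟨x, hx⟩ := exists_prime_orderOf_dvd_card' p hd
  have hKne : K ≠ ⊥ := fun hb => by
    have hmem : (x : G) ∈ K := ⟨x.2, by
      rw [← hx, ← Subgroup.orderOf_coe]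
      exact pow_orderOf_eq_one _⟩
    rw [hb, Subgroup.mem_bot] at hmem
    rw [show x = 1 from Subtype.ext hmem, orderOf_one] at hx
    exact hp.one_lt.ne hx
  have hKN := (h.eq_bot_or_eq hK fun y hy => hy.1).resolve_left hKne
  refine ⟨p, hp, hcomm, fun y hy => ?_, fun y => ⟨1, Subtype.ext ?_⟩⟩
  · rw [← hKN] at hy
    exact hy.2
  · have hy : (y : G) ∈ K := hKN.symm ▸ y.2
    simpa using hy.2

/-- The Fitting subgroup centralises every minimal normal subgroup. -/
theorem IsMinimalNormal.fittingSubgroup_le_centralizer [Finite G] {N : Subgroup G}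
    (h : IsMinimalNormal N) : fittingSubgroup G ≤ Subgroup.centralizer (N : Set G) := by
  haveI := h.normal
  haveI := fittingSubgroup_normal' G
  rw [le_centralizer_comm, ← Subgroup.commutator_eq_bot_iff_le_centralizer]
  refine (h.eq_bot_or_eq (Subgroup.commutator_normal _ _)
    (Subgroup.commutator_le_left _ _)).resolve_right fun he => ?_
  obtain ⟨c, hc⟩ := (Subgroup.isNilpotent_iff_lowerCentralSeries (fittingSubgroup G)).1
    (isNilpotent_fittingSubgroup G)
  have key : ∀ n, N ≤ (fittingSubgroup G).lowerCentralSeries n := by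
    intro n
    induction n with
    | zero => exact he.ge.trans (Subgroup.commutator_le_right _ _)
    | succ n ih => exact he.ge.trans (Subgroup.commutator_mono ih le_rfl)
  exact h.ne_bot (le_bot_iff.1 (hc ▸ key c))

theorem IsMinimalNormal.le_center_fittingSubgroup [Finite G] {N : Subgroup G}
    (h : IsMinimalNormal N) (hs : Group.IsSolvable N) :
    N ≤ fittingSubgroup G ⊓ Subgroup.centralizer (fittingSubgroup G : Set G) :=
  haveI := h.normal
  haveI := h.isMulCommutative hs
  le_inf le_fittingSubgroup_of_isMulCommutative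
    (le_centralizer_comm.1 h.fittingSubgroup_le_centralizer)

theorem fittingSubgroup_ne_bot [Finite G] [Group.IsSolvable G] [Nontrivial G] :
    fittingSubgroup G ≠ ⊥ := fun hb => by
  obtain ⟨N, hN⟩ := exists_isMinimalNormal (G := G)
  haveI := hN.normal
  haveI := hN.isMulCommutative inferInstance
  exact hN.ne_bot (le_bot_iff.1 (hb ▸ le_fittingSubgroup_of_isMulCommutative))

theorem exists_prime_pCore_ne_bot [Finite G] [Group.IsSolvable G] [Nontrivial G] :
    ∃ p : ℕ, p.Prime ∧ pCore p G ≠ ⊥ := by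
  by_contra h
  push Not at h
  exact fittingSubgroup_ne_bot ((fittingSubgroup_eq_bot_iff G).2 h)

/-- In a finite solvable group the Fitting subgroup contains its centralizer. -/
theorem centralizer_fittingSubgroup_le [Finite G] [Group.IsSolvable G] :
    Subgroup.centralizer (fittingSubgroup G : Set G) ≤ fittingSubgroup G := by
  by_contra hC
  haveI := fittingSubgroup_normal' G
  set C := Subgroup.centralizer (fittingSubgroup G : Set G) with hCdef
  haveI : C.Normal := inferInstance
  set D := C ⊓ fittingSubgroup G with hDdef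
  haveI : D.Normal := inferInstance
  have hne : C.map (QuotientGroup.mk' D) ≠ ⊥ := fun h =>
    hC ((map_mk'_eq_bot_iff.1 h).trans inf_le_right)
  haveI : (C.map (QuotientGroup.mk' D)).Normal :=
    Subgroup.Normal.map inferInstance _ (QuotientGroup.mk'_surjective D)
  obtain ⟨A, hAC, hA⟩ := exists_isMinimalNormal_le hne
  haveI := hA.normal
  haveI hAcomm := hA.isMulCommutative inferInstance
  set M := A.comap (QuotientGroup.mk' D) with hMdef
  haveI : M.Normal := Subgroup.Normal.comap inferInstance _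
  have hMC : M ≤ C := (Subgroup.comap_mono hAC).trans
    (by rw [comap_map_mk', sup_eq_left.2 inf_le_left])
  have h1 : ⁅M, M⁆ ≤ D := by
    rw [commutator_le_iff_map_mk', hMdef, map_mk'_comap]
    exact A.le_centralizer
  have h2 : ⁅D, M⁆ = ⊥ := by
    rw [Subgroup.commutator_eq_bot_iff_le_centralizer]
    exact inf_le_right.trans (le_centralizer_comm.1 hMC)
  have hnil : Group.IsNilpotent M := Subgroup.isNilpotent_of_lowerCentralSeries_eq_bot (n := 2)
    (le_bot_iff.1 ((Subgroup.commutator_mono h1 le_rfl).trans h2.le))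
  exact hA.ne_bot (by
    rw [← map_mk'_comap D A, map_mk'_eq_bot_iff]
    exact le_inf hMC (le_fittingSubgroup hnil))

theorem fittingSubgroup_eq_pCore_of_pPrimeCore_eq_bot [Finite G] {p : ℕ} [hp : Fact p.Prime]
    (h : pPrimeCore p G = ⊥) : fittingSubgroup G = pCore p G := by
  refine le_antisymm ?_ (pCore_le_fittingSubgroup p G)
  rw [fittingSubgroup_eq_iSup_pCore]
  refine iSup_le fun q => ?_
  haveI := Fact.mk q.2
  by_cases hq : (q : ℕ) = p
  · rw [hq]
  · refine le_trans ?_ bot_le
    rw [← h]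
    obtain ⟨n, hn⟩ := pCore_eq_pow_card (q : ℕ) G
    refine le_pPrimeCore ?_
    rw [hn]
    exact ((Nat.coprime_primes q.2 hp.out).2 hq).pow_left n

/-- Finite solvable groups with trivial `p'`-core: `O_p` contains its centralizer. -/
theorem centralizer_pCore_le_of_isSolvable [Finite G] [Group.IsSolvable G] {p : ℕ}
    [Fact p.Prime] (h : pPrimeCore p G = ⊥) :
    Subgroup.centralizer (pCore p G : Set G) ≤ pCore p G := by
  rw [← fittingSubgroup_eq_pCore_of_pPrimeCore_eq_bot h]
  exact centralizer_fittingSubgroup_le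

end CfsgLib.Base
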