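import Mathlib
import Cfsg.Agent.Lib.Base.Fitting

/-!
Wielandt's zipper lemma, his subnormality criterion, and Baer's criterion for `F(G)`.
-/

set_option autoImplicit false
set_option linter.style.haveILetI false

namespace CfsgLib.Base

open scoped Pointwise

universe u

/-- `A` is subnormal in `K`, both being subgroups of `G`. -/
def IsSubnormalIn {G : Type*} [Group G] (A K : Subgroup G) : Prop :=
  A ≤ K ∧ (A.subgroupOf K).IsSubnormal

theorem isSubnormalIn_top_iff {G : Type*} [Group G] {A : Subgroup G} :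
    IsSubnormalIn A ⊤ ↔ A.IsSubnormal :=
  ⟨fun h => Subgroup.IsSubnormal.trans h.1 h.2 Subgroup.IsSubnormal.top,
    fun h => ⟨le_top, h.subgroupOf⟩⟩

theorem IsSubnormalIn.trans {G : Type*} [Group G] {A B C : Subgroup G}
    (h₁ : IsSubnormalIn A B) (h₂ : IsSubnormalIn B C) : IsSubnormalIn A C := by
  refine ⟨h₁.1.trans h₂.1, ?_⟩
  refine Subgroup.IsSubnormal.trans (K := B.subgroupOf C) (Subgroup.comap_mono h₁.1) ?_ h₂.2
  exact h₁.2.comap ((Subgroup.subgroupOfEquivOfLe h₂.1).toMonoidHom)

theorem IsSubnormalIn.inf {G : Type*} [Group G] {A B : Subgroup G} (h : IsSubnormalIn A B)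
    {C : Subgroup G} (hA : A ≤ C) (hC : C ≤ B) : IsSubnormalIn A C :=
  ⟨hA, h.2.comap (Subgroup.inclusion hC)⟩

theorem IsSubnormalIn.map {G L : Type*} [Group G] [Group L] (f : G →* L) {A B : Subgroup G}
    (h : IsSubnormalIn A B) : IsSubnormalIn (A.map f) (B.map f) := by
  refine ⟨Subgroup.map_mono h.1, ?_⟩
  have h2 := h.2.map (f := f.subgroupMap B) (f.subgroupMap_surjective B)
  convert h2 using 1
  ext y
  simp only [Subgroup.mem_map, Subgroup.mem_subgroupOf]
  constructor
  · rintro ⟨a, ha, hay⟩
    exact ⟨⟨a, h.1 ha⟩, ha, Subtype.ext hay⟩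
  · rintro ⟨a, ha, rfl⟩
    exact ⟨a, ha, rfl⟩

/-- If a subnormal subgroup `B` normalises a subnormal subgroup `A`, then `A ⊔ B` is subnormal. -/
theorem isSubnormalIn_sup {G : Type*} [Group G] [Finite G] {A B K : Subgroup G}
    (hA : IsSubnormalIn A K) (hB : IsSubnormalIn B K) (hBA : B ≤ Subgroup.normalizer (A : Set G)) :
    IsSubnormalIn (A ⊔ B) K := by
  induction hn : Nat.card K using Nat.strong_induction_on generalizing B K with
  | _ n ih =>
  subst hn
  by_cases hAK : A = K
  · subst hAK
    rw [sup_eq_left.2 hB.1]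
    exact ⟨le_rfl, by simp⟩
  -- `L`, the subgroup generated by the `K`-conjugates of `A`, is proper and `K`-invariant
  let L : Subgroup G := (Subgroup.normalClosure ((A.subgroupOf K : Subgroup K) : Set K)).map K.subtype
  have hLK : L ≤ K := Subgroup.map_subtype_le _
  have hAL : A ≤ L := by
    calc A = (A.subgroupOf K).map K.subtype := (Subgroup.map_subgroupOf_eq_of_le hA.1).symm
      _ ≤ L := Subgroup.map_mono (fun x hx => Subgroup.subset_normalClosure hx)
  have hLne : L ≠ K := by
    intro h
    have htop : Subgroup.normalClosure ((A.subgroupOf K : Subgroup K) : Set K) = ⊤ := by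
      apply Subgroup.map_injective K.subtype_injective
      rw [← MonoidHom.range_eq_map, Subgroup.range_subtype]
      exact h
    rcases hA.2.lt_normal with h1 | ⟨N, hN, hle, hlt⟩
    · exact hAK (le_antisymm hA.1 (Subgroup.subgroupOf_eq_top.1 h1))
    · haveI := hN
      exact hlt.not_ge (htop ▸ Subgroup.normalClosure_le_normal hle)
  have hKL : K ≤ Subgroup.normalizer (L : Set G) :=
    (Subgroup.normal_subgroupOf_iff_le_normalizer hLK).1 (by
      rw [Subgroup.subgroupOf, Subgroup.comap_map_eq_self_of_injective K.subtype_injective]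
      infer_instance)
  -- `(A ⊔ B) ⊓ L = A ⊔ (B ⊓ L)` is subnormal in `L`
  have hBL : IsSubnormalIn (B ⊓ L) L := by
    refine IsSubnormalIn.inf (B := K) ?_ inf_le_right hLK
    refine IsSubnormalIn.trans ⟨inf_le_left, ?_⟩ hB
    haveI : ((B ⊓ L).subgroupOf B).Normal := by
      rw [Subgroup.inf_subgroupOf_left]
      exact Subgroup.normal_subgroupOf_of_le_normalizer (hB.1.trans hKL)
    exact Subgroup.Normal.isSubnormal inferInstance
  have hlt : Nat.card L < Nat.card K :=
    lt_of_le_of_ne (Subgroup.card_le_of_le hLK) fun h =>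
      hLne (Subgroup.eq_of_le_of_card_ge hLK h.ge)
  have h1 := ih _ hlt (hA.inf hAL hLK) hBL (inf_le_left.trans hBA) rfl
  -- `L ⊔ B` is subnormal in `K`
  have h2 : IsSubnormalIn (L ⊔ B) K := by
    refine ⟨sup_le hLK hB.1, ?_⟩
    haveI : (L.subgroupOf K).Normal := Subgroup.normal_subgroupOf_of_le_normalizer hKL
    have := (hB.2.map (f := QuotientGroup.mk' (L.subgroupOf K))
      (QuotientGroup.mk'_surjective _)).comap (QuotientGroup.mk' (L.subgroupOf K))
    rw [comap_map_mk', ← Subgroup.subgroupOf_sup hB.1 hLK, sup_comm] at this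
    exact this
  by_cases hLB : L ⊔ B = K
  · -- then `A` is normalised by `B` and `A ⊔ (B ⊓ L)` is normalised by `B`
    refine ⟨sup_le hA.1 hB.1, ?_⟩
    set C := A ⊔ (B ⊓ L) with hC
    have hBC : B ≤ Subgroup.normalizer (C : Set G) :=
      (le_inf hBA (le_inf Subgroup.le_normalizer (hB.1.trans hKL))).trans
        (le_trans (inf_le_inf_left _ Subgroup.inf_normalizer_le_normalizer_inf) fun x hx => by
          rw [← map_conj_eq_self_iff, hC, Subgroup.map_sup, map_conj_eq_self_iff.2 hx.1,
            map_conj_eq_self_iff.2 hx.2])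
    -- induct along the chain from `C` to `L`
    have key : ∀ (D : Subgroup L), D.IsSubnormal → (C.subgroupOf L ≤ D) →
        ∃ E : Subgroup G, C ≤ E ∧ E ≤ D.map L.subtype ∧ B ≤ Subgroup.normalizer (E : Set G) ∧
          IsSubnormalIn (E ⊔ B) K := by
      intro D hD
      induction hD with
      | top =>
        intro _
        refine ⟨L, sup_le hAL inf_le_right, ?_, hB.1.trans hKL, hLB.symm ▸ ⟨le_rfl, by simp⟩⟩
        rw [← MonoidHom.range_eq_map, Subgroup.range_subtype]
      | step D₁ D₂ hle _ hn ih' =>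
        intro hCD
        obtain ⟨E, hCE, hED, hBE, hEK⟩ := ih' (hCD.trans hle)
        -- the part of `E` conjugated into `D₁` by all of `B`
        let E₁ : Subgroup G :=
          E ⊓ ⨅ b : B, (D₁.map L.subtype).map (MulAut.conj (b : G)).toMonoidHom
        have hCconj : ∀ b : B, C.map (MulAut.conj (b : G)).toMonoidHom = C := fun b =>
          map_conj_eq_self_iff.2 (hBC b.2)
        have hCE1 : C ≤ E₁ := le_inf hCE (le_iInf fun b => by
          conv_lhs => rw [← hCconj b]
          refine Subgroup.map_mono ?_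
          calc C = (C.subgroupOf L).map L.subtype :=
              (Subgroup.map_subgroupOf_eq_of_le (sup_le hAL inf_le_right)).symm
            _ ≤ _ := Subgroup.map_mono hCD)
        have hBE1 : B ≤ Subgroup.normalizer (E₁ : Set G) := by
          intro c hc
          rw [← map_conj_eq_self_iff]
          refine Subgroup.eq_of_le_of_card_ge (le_inf ((Subgroup.map_mono inf_le_left).trans
            (map_conj_eq_self_iff.2 (hBE hc)).le) (le_iInf fun b => ?_)) (card_map_conj c E₁).ge
          refine (Subgroup.map_mono (inf_le_right.trans (iInf_le _ (⟨c, hc⟩⁻¹ * b)))).trans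
            (le_of_eq ?_)
          rw [Subgroup.map_map]
          congr 1
          ext x
          simp only [MonoidHom.coe_comp, MulEquiv.coe_toMonoidHom, Function.comp_apply,
            MulAut.conj_apply, Subgroup.coe_mul, InvMemClass.coe_inv]
          group
        have hnorm : E ≤ Subgroup.normalizer (E₁ : Set G) := by
          refine (le_inf Subgroup.le_normalizer ?_).trans Subgroup.inf_normalizer_le_normalizer_inf
          intro e he
          rw [← map_conj_eq_self_iff]
          refine Subgroup.eq_of_le_of_card_ge (le_iInf fun b => ?_) (card_map_conj e _).ge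
          have he' : (b : G)⁻¹ * e * (b : G) ∈ E := by
            have := (Subgroup.mem_normalizer_iff.1 (hBE (B.inv_mem b.2)) e).1 he
            simpa using this
          have he'' : (b : G)⁻¹ * e * (b : G) ∈
              Subgroup.normalizer ((D₁.map L.subtype : Subgroup G) : Set G) := by
            refine le_trans ?_ (Subgroup.le_normalizer_map L.subtype) (hED he')
            exact Subgroup.map_mono ((Subgroup.normal_subgroupOf_iff_le_normalizer hle).1 hn)
          refine (Subgroup.map_mono (iInf_le _ b)).trans (le_of_eq ?_)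
          conv_rhs => rw [← map_conj_eq_self_iff.2 he'', Subgroup.map_map]
          rw [Subgroup.map_map]
          congr 1
          ext x
          simp only [MonoidHom.coe_comp, MulEquiv.coe_toMonoidHom, Function.comp_apply,
            MulAut.conj_apply]
          group
        refine ⟨E₁, hCE1, ?_, hBE1, ?_⟩
        · refine (inf_le_right.trans (iInf_le _ (1 : B))).trans (le_of_eq ?_)
          rw [OneMemClass.coe_one, map_one]
          exact Subgroup.map_id _
        · refine IsSubnormalIn.trans ⟨sup_le_sup_right inf_le_left B, ?_⟩ hEK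
          haveI : (E₁.subgroupOf (E ⊔ B)).Normal :=
            Subgroup.normal_subgroupOf_of_le_normalizer (sup_le hnorm hBE1)
          have := ((hB.inf le_sup_right hEK.1).2.map
            (f := QuotientGroup.mk' (E₁.subgroupOf (E ⊔ B)))
            (QuotientGroup.mk'_surjective _)).comap (QuotientGroup.mk' (E₁.subgroupOf (E ⊔ B)))
          rw [comap_map_mk', ← Subgroup.subgroupOf_sup le_sup_right
            (inf_le_left.trans le_sup_left)] at this
          convert this using 2 <;> exact sup_comm _ _
    obtain ⟨E, hCE, hEC, -, hEK⟩ := key _ h1.2 le_rfl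
    rw [Subgroup.map_subgroupOf_eq_of_le (sup_le hAL inf_le_right)] at hEC
    have hE : E = C := le_antisymm hEC hCE
    have hCB : C ⊔ B = A ⊔ B := by
      rw [hC, sup_assoc, sup_eq_right.2 (inf_le_left : B ⊓ L ≤ B)]
    rw [hE, hCB] at hEK
    exact hEK.2
  · -- otherwise recurse inside `L ⊔ B`
    have hlt2 : Nat.card (L ⊔ B : Subgroup G) < Nat.card K :=
      lt_of_le_of_ne (Subgroup.card_le_of_le h2.1) fun h =>
        hLB (Subgroup.eq_of_le_of_card_ge h2.1 h.ge)
    exact IsSubnormalIn.trans (ih _ hlt2 (hA.inf (hAL.trans le_sup_left) h2.1)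
      (hB.inf le_sup_right h2.1) hBA rfl) h2

/-- Wielandt's zipper lemma. -/
theorem eq_of_isCoatom_of_not_isSubnormal {G : Type*} [Group G] [Finite G] (A : Subgroup G)
    (hsub : ∀ H : Subgroup G, A ≤ H → H ≠ ⊤ → IsSubnormalIn A H) (hA : ¬ A.IsSubnormal)
    {M K : Subgroup G} (hM : IsCoatom M) (hAM : A ≤ M) (hK : IsCoatom K) (hAK : A ≤ K) :
    M = K := by
  induction A using WellFoundedGT.induction generalizing M K with
  | ind A ih =>
  have hN : Subgroup.normalizer (A : Set G) ≠ ⊤ := fun h =>
    hA (Subgroup.normalizer_eq_top_iff.1 h).isSubnormal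
  obtain ⟨M₀, hM₀, hNM₀⟩ :=
    (IsCoatomic.eq_top_or_exists_le_coatom (Subgroup.normalizer (A : Set G))).resolve_left hN
  suffices key : ∀ L, IsCoatom L → A ≤ L → L = M₀ by rw [key M hM hAM, key K hK hAK]
  clear hM hAM hK hAK M K
  intro L hL hAL
  by_contra hne
  -- a conjugate of `A` in `L`, distinct from `A` and normalising it
  have hx : ∃ x ∈ L, A.map (MulAut.conj x).toMonoidHom ≠ A ∧
      A.map (MulAut.conj x).toMonoidHom ≤ L ⊓ Subgroup.normalizer (A : Set G) := by
    have key : ∀ D : Subgroup L, D.IsSubnormal → A.subgroupOf L ≤ D →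
        D.map L.subtype ≤ Subgroup.normalizer (A : Set G) →
        ∃ x ∈ L, A.map (MulAut.conj x).toMonoidHom ≠ A ∧
          A.map (MulAut.conj x).toMonoidHom ≤ L ⊓ Subgroup.normalizer (A : Set G) := by
      intro D hD
      induction hD with
      | top =>
        intro _ h
        rw [← MonoidHom.range_eq_map, Subgroup.range_subtype] at h
        exact absurd (hL.2 M₀ (lt_of_le_of_ne (h.trans hNM₀) hne)) hM₀.1
      | step D₁ D₂ hle _ hn ih' =>
        intro hAD hDN
        by_cases h2 : D₂.map L.subtype ≤ Subgroup.normalizer (A : Set G)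
        · exact ih' (hAD.trans hle) h2
        · obtain ⟨_, ⟨x, hx, rfl⟩, hxN⟩ := SetLike.not_le_iff_exists.1 h2
          refine ⟨L.subtype x, x.2, fun h => hxN (map_conj_eq_self_iff.1 h), ?_⟩
          rintro _ ⟨a, ha, rfl⟩
          refine ⟨L.mul_mem (L.mul_mem x.2 (hAL ha)) (L.inv_mem x.2), hDN ?_⟩
          refine ⟨x * ⟨a, hAL ha⟩ * x⁻¹, ?_, rfl⟩
          have hxn := (Subgroup.normal_subgroupOf_iff_le_normalizer hle).1 hn hx
          exact (Subgroup.mem_normalizer_iff.1 hxn ⟨a, hAL ha⟩).1 (hAD ha)
    refine key _ (hsub L hAL hL.1).2 le_rfl ?_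
    rw [Subgroup.map_subgroupOf_eq_of_le hAL]
    exact Subgroup.le_normalizer
  obtain ⟨x, hxL, hxne, hxle⟩ := hx
  set A' := A.map (MulAut.conj x).toMonoidHom with hA'
  have hlt : A < A ⊔ A' := left_lt_sup.2 fun h =>
    hxne (Subgroup.eq_of_le_of_card_ge h (card_map_conj x A).ge)
  have hAA'M : A ⊔ A' ≤ M₀ :=
    sup_le (Subgroup.le_normalizer.trans hNM₀) ((hxle.trans inf_le_right).trans hNM₀)
  have hsub' : ∀ H : Subgroup G, A ⊔ A' ≤ H → H ≠ ⊤ → IsSubnormalIn (A ⊔ A') H := by
    intro H hH hHt
    refine isSubnormalIn_sup (hsub H (le_sup_left.trans hH) hHt) ?_ (hxle.trans inf_le_right)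
    -- transport by conjugation
    have hH' : A ≤ H.map (MulAut.conj x⁻¹).toMonoidHom := by
      intro a ha
      rw [mem_map_conj]
      exact hH (Subgroup.mem_sup_right ⟨a, ha, by simp⟩)
    have hne' : H.map (MulAut.conj x⁻¹).toMonoidHom ≠ ⊤ := fun h => hHt (Subgroup.eq_top_of_card_eq _
      (by rw [← card_map_conj x⁻¹ H, h, Subgroup.card_top]))
    have := (hsub _ hH' hne').map (MulAut.conj x).toMonoidHom
    rwa [Subgroup.map_map, ← hA', show ((MulAut.conj x).toMonoidHom.comp
      (MulAut.conj x⁻¹).toMonoidHom) = MonoidHom.id G by ext g; simp [mul_assoc],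
      Subgroup.map_id] at this
  have hnsub : ¬ (A ⊔ A').IsSubnormal := fun h => hA (by
    have h1 := hsub (A ⊔ A') le_sup_left (fun e => hM₀.1 (top_le_iff.1 (e ▸ hAA'M)))
    exact Subgroup.IsSubnormal.trans h1.1 h1.2 h)
  exact hne (ih _ hlt hsub' hnsub hL (sup_le hAL (hxle.trans inf_le_left)) hM₀ hAA'M)

/-- Wielandt's subnormality criterion. -/
theorem isSubnormal_of_forall_conj {G : Type u} [Group G] [Finite G] (A : Subgroup G)
    (h : ∀ g : G, (A.subgroupOf (A ⊔ MulAut.conj g • A)).IsSubnormal) : A.IsSubnormal := by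
  induction hn : Nat.card G using Nat.strong_induction_on generalizing G with
  | _ n ih =>
  subst hn
  by_contra hA
  have hsub : ∀ H : Subgroup G, A ≤ H → H ≠ ⊤ → IsSubnormalIn A H := by
    intro H hAH hH
    refine ⟨hAH, ih (Nat.card H) ?_ (A.subgroupOf H) (fun g => ?_) rfl⟩
    · exact lt_of_le_of_ne (Subgroup.card_le_card_group H) fun e =>
        hH (Subgroup.eq_top_of_card_eq _ e)
    · have hle : MulAut.conj (g : G) • A ≤ H := by
        rintro _ ⟨a, ha, rfl⟩
        exact H.mul_mem (H.mul_mem g.2 (hAH ha)) (H.inv_mem g.2)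
      have he : A.subgroupOf H ⊔ MulAut.conj g • A.subgroupOf H =
          (A ⊔ MulAut.conj (g : G) • A).subgroupOf H := by
        rw [Subgroup.subgroupOf_sup hAH hle]
        congr 1
        apply Subgroup.map_injective H.subtype_injective
        rw [Subgroup.map_subgroupOf_eq_of_le hle, ← map_conj_eq_smul, ← map_conj_eq_smul,
          Subgroup.map_map]
        conv_rhs => rw [← Subgroup.map_subgroupOf_eq_of_le hAH, Subgroup.map_map]
        congr 1
      rw [he]
      exact (h (g : G)).comap
        ((Subgroup.subgroupOfEquivOfLe (sup_le hAH hle)).toMonoidHom)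
  have hAt : A ≠ ⊤ := fun e => hA (e ▸ Subgroup.IsSubnormal.top)
  obtain ⟨M, hM, hAM⟩ := (IsCoatomic.eq_top_or_exists_le_coatom A).resolve_left hAt
  have hall : Subgroup.normalClosure (A : Set G) ≤ M := by
    rw [Subgroup.normalClosure, Subgroup.closure_le]
    intro x hx
    obtain ⟨a, ha, hc⟩ := Group.mem_conjugatesOfSet_iff.1 hx
    obtain ⟨c, rfl⟩ := isConj_iff.1 hc
    have hne : A ⊔ MulAut.conj c • A ≠ ⊤ := fun e => by
      have := h c
      rw [e] at this
      exact hA (Subgroup.IsSubnormal.trans le_top this Subgroup.IsSubnormal.top)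
    obtain ⟨K, hK, hle⟩ :=
      (IsCoatomic.eq_top_or_exists_le_coatom (A ⊔ MulAut.conj c • A)).resolve_left hne
    rw [eq_of_isCoatom_of_not_isSubnormal A hsub hA hM hAM hK (le_sup_left.trans hle)]
    exact hle (Subgroup.mem_sup_right ⟨a, ha, rfl⟩)
  have h1 := hsub (Subgroup.normalClosure (A : Set G)) (fun a ha => Subgroup.subset_normalClosure ha)
    fun e => hM.1 (top_le_iff.1 (e ▸ hall))
  exact hA (Subgroup.IsSubnormal.trans h1.1 h1.2 (Subgroup.Normal.isSubnormal inferInstance))

/-- Baer's criterion. -/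
theorem isSubnormal_and_le_fittingSubgroup {G : Type*} [Group G] [Finite G] (A : Subgroup G)
    (h : ∀ g : G, Group.IsNilpotent (A ⊔ MulAut.conj g • A : Subgroup G)) :
    A.IsSubnormal ∧ A ≤ Cfsg.fittingSubgroup G := by
  have hs : A.IsSubnormal := isSubnormal_of_forall_conj A fun g => by
    haveI := h g
    induction A.subgroupOf (A ⊔ MulAut.conj g • A) using WellFoundedGT.induction with
    | ind H ih =>
      rcases eq_or_ne H ⊤ with rfl | hne
      · exact Subgroup.IsSubnormal.top
      · exact Subgroup.IsSubnormal.step _ _ Subgroup.le_normalizer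
          (ih _ (Group.normalizerCondition_of_isNilpotent H hne.lt_top)) inferInstance
  exact ⟨hs, le_fittingSubgroup_of_isSubnormal hs (isNilpotent_of_le le_sup_left (h 1))⟩

end CfsgLib.Base
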