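import Mathlib
import Cfsg.Agent.Lib.Base.Transport

/-!
General facts about the Frattini subgroup.
-/

set_option autoImplicit false
set_option linter.style.haveILetI false

namespace CfsgLib.Base

variable {G : Type*} [Group G] {H' : Type*} [Group H']

theorem map_frattini_le (f : G →* H') (hf : Function.Surjective f) :
    (frattini G).map f ≤ frattini H' :=
  Subgroup.map_le_iff_le_comap.2 (frattini_le_comap_frattini_of_surjective hf)

theorem map_frattini_mulEquiv (e : G ≃* H') : (frattini G).map e.toMonoidHom = frattini H' := by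
  refine le_antisymm (map_frattini_le _ e.surjective) ?_
  rw [Subgroup.map_equiv_eq_comap_symm']
  exact Subgroup.map_le_iff_le_comap.1 (map_frattini_le e.symm.toMonoidHom e.symm.surjective)

theorem eq_top_of_sup_frattini [Finite G] {K : Subgroup G} (h : K ⊔ frattini G = ⊤) : K = ⊤ :=
  frattini_nongenerating h

theorem eq_top_of_sup_le_frattini [Finite G] {K N : Subgroup G} (hN : N ≤ frattini G)
    (h : K ⊔ N = ⊤) : K = ⊤ :=
  eq_top_of_sup_frattini (top_le_iff.1 (h.ge.trans (sup_le_sup_left hN K)))

/-- `Φ(G/N) = Φ(G)/N` for `N ≤ Φ(G)`. -/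
theorem frattini_quotient (N : Subgroup G) [N.Normal] (hN : N ≤ frattini G) :
    frattini (G ⧸ N) = (frattini G).map (QuotientGroup.mk' N) := by
  refine le_antisymm ?_ (map_frattini_le _ (QuotientGroup.mk'_surjective N))
  rw [← map_mk'_comap N (frattini (G ⧸ N))]
  refine Subgroup.map_mono (le_iInf₂ fun M hM => ?_)
  have hNM : N ≤ M := hN.trans (frattini_le_coatom hM)
  have hM' : IsCoatom (M.map (QuotientGroup.mk' N)) := by
    have hc : (M.map (QuotientGroup.mk' N)).comap (QuotientGroup.mk' N) = M := by
      rw [comap_map_mk', sup_eq_left.2 hNM]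
    refine ⟨fun h => hM.1 ?_, fun X hX => ?_⟩
    · rw [← hc, h, Subgroup.comap_top]
    · have hlt : M < X.comap (QuotientGroup.mk' N) := by
        rw [← hc]
        exact (Subgroup.comap_lt_comap_of_surjective (QuotientGroup.mk'_surjective N)).2 hX
      rw [← map_mk'_comap N X, hM.2 _ hlt,
        Subgroup.map_top_of_surjective _ (QuotientGroup.mk'_surjective N)]
  calc (frattini (G ⧸ N)).comap (QuotientGroup.mk' N)
      ≤ (M.map (QuotientGroup.mk' N)).comap (QuotientGroup.mk' N) :=
        Subgroup.comap_mono (frattini_le_coatom hM')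
    _ = M := by rw [comap_map_mk', sup_eq_left.2 hNM]

theorem frattini_quotient_frattini (G : Type*) [Group G] :
    frattini (G ⧸ frattini G) = ⊥ := by
  rw [frattini_quotient _ le_rfl, map_mk'_eq_bot_iff]

/-- `Φ(N) ≤ Φ(G)` for a normal subgroup `N` of a finite group. -/
theorem map_frattini_le_frattini [Finite G] (N : Subgroup G) [N.Normal] :
    (frattini N).map N.subtype ≤ frattini G := by
  refine le_iInf₂ fun M hM => ?_
  by_contra hle
  have hsup : M ⊔ (frattini N).map N.subtype = ⊤ :=
    hM.2 _ (left_lt_sup.2 hle)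
  have htop : M.subgroupOf N ⊔ frattini N = ⊤ := by
    refine eq_top_iff.2 fun x _ => ?_
    have hx : (x : G) ∈ M ⊔ (frattini N).map N.subtype := hsup ▸ Subgroup.mem_top _
    obtain ⟨m, hm, _, ⟨f, hf, rfl⟩, he⟩ := Subgroup.mem_sup_of_normal_right.1 hx
    have hmN : m ∈ N := by
      have : m = (x : G) * (N.subtype f)⁻¹ := by rw [← he, mul_inv_cancel_right]
      rw [this]
      exact N.mul_mem x.2 (N.inv_mem f.2)
    have hxe : x = ⟨m, hmN⟩ * f := Subtype.ext he.symm
    rw [hxe]
    exact Subgroup.mul_mem_sup (Subgroup.mem_subgroupOf.2 hm) hf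
  have hMN : M.subgroupOf N = ⊤ := eq_top_of_sup_frattini htop
  exact hle ((Subgroup.map_subtype_le _).trans (Subgroup.subgroupOf_eq_top.1 hMN))

/-- A finite group with nilpotent Frattini quotient is nilpotent. -/
theorem isNilpotent_of_frattini_quotient [Finite G]
    (h : Group.IsNilpotent (G ⧸ frattini G)) : Group.IsNilpotent G := by
  refine ((Group.isNilpotent_of_finite_tfae (G := G)).out 0 3).2 fun p hp P => ?_
  haveI := hp
  haveI := h
  haveI : ((P : Subgroup G).map (QuotientGroup.mk' (frattini G))).Normal :=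
    (inferInstance :
      ((P.mapSurjective (QuotientGroup.mk'_surjective (frattini G))) :
        Subgroup (G ⧸ frattini G)).Normal)
  haveI hN : ((P : Subgroup G) ⊔ frattini G).Normal := by
    rw [← comap_map_mk']
    exact Subgroup.Normal.comap inferInstance _
  have key : Subgroup.normalizer ((P : Subgroup G) : Set G) ⊔ ((P : Subgroup G) ⊔ frattini G) = ⊤ :=
    Sylow.normalizer_sup_eq_top' P (N := (P : Subgroup G) ⊔ frattini G) le_sup_left
  rw [← sup_assoc, sup_eq_left.2 Subgroup.le_normalizer] at key
  exact Subgroup.normalizer_eq_top_iff.1 (eq_top_of_sup_frattini key)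

end CfsgLib.Base
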