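import Mathlib
import Cfsg.Agent.Lib.Base.Fitting
import Cfsg.Agent.Lib.Base.Frattini

/-!
Finite nilpotent groups: centre, subnormal subgroups, and nilpotency modulo the Frattini subgroup.
-/

set_option autoImplicit false
set_option linter.style.haveILetI false

namespace CfsgLib.Base

open Cfsg
open scoped commutatorElement

variable {G : Type*} [Group G]

/-- In a nilpotent group a nontrivial normal subgroup meets the centre. -/
theorem inf_center_ne_bot_of_isNilpotent [Group.IsNilpotent G] {N : Subgroup G} [hN : N.Normal]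
    (hne : N ≠ ⊥) : N ⊓ Subgroup.center G ≠ ⊥ := by
  obtain ⟨c, hc⟩ := Subgroup.nilpotent_iff_lowerCentralSeries.1
    (inferInstance : Group.IsNilpotent G)
  intro hbot
  have key : ∀ i, i ≤ c → N ⊓ (⊤ : Subgroup G).lowerCentralSeries (c - i) = ⊥ := by
    intro i
    induction i with
    | zero => intro _; simp [hc]
    | succ i ih =>
      intro hi
      rw [← le_bot_iff, ← hbot]
      refine le_inf inf_le_left fun x hx => ?_
      rw [Subgroup.mem_center_iff]
      intro g
      have h1 : ⁅x, g⁆ ∈ N ⊓ (⊤ : Subgroup G).lowerCentralSeries (c - i) := by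
        refine ⟨?_, ?_⟩
        · rw [commutatorElement_def, show x * g * x⁻¹ * g⁻¹ = x * (g * x⁻¹ * g⁻¹) by group]
          exact N.mul_mem hx.1 (hN.conj_mem _ (N.inv_mem hx.1) g)
        · rw [show c - i = c - (i + 1) + 1 by omega, Subgroup.lowerCentralSeries_succ]
          exact Subgroup.commutator_mem_commutator hx.2 (Subgroup.mem_top g)
      rw [ih (by omega), Subgroup.mem_bot, commutatorElement_eq_one_iff_mul_comm] at h1
      exact h1.symm
  exact hne (by simpa using key c le_rfl)

/-- A maximal abelian normal subgroup of a nilpotent group is its own centralizer. -/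
theorem centralizer_eq_self_of_maximal [Group.IsNilpotent G] {N : Subgroup G} [N.Normal]
    [IsMulCommutative N]
    (hmax : ∀ M : Subgroup G, M.Normal → IsMulCommutative M → N ≤ M → M = N) :
    Subgroup.centralizer (N : Set G) = N := by
  refine le_antisymm ?_ N.le_centralizer
  by_contra hle
  set C := Subgroup.centralizer (N : Set G) with hC
  have hne : C.map (QuotientGroup.mk' N) ≠ ⊥ := fun h => hle (map_mk'_eq_bot_iff.1 h)
  haveI : (C.map (QuotientGroup.mk' N)).Normal :=
    Subgroup.Normal.map inferInstance _ (QuotientGroup.mk'_surjective N)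
  obtain ⟨y, hy, hy1⟩ :=
    (Subgroup.bot_or_exists_ne_one _).resolve_left (inf_center_ne_bot_of_isNilpotent hne)
  obtain ⟨⟨x, hxC, rfl⟩, hyc⟩ := hy
  haveI hcen : (Subgroup.zpowers (QuotientGroup.mk' N x)).Normal :=
    normal_of_le_center (Subgroup.zpowers_le.2 hyc)
  have hMe : (Subgroup.zpowers (QuotientGroup.mk' N x)).comap (QuotientGroup.mk' N) =
      Subgroup.zpowers x ⊔ N := by
    rw [← MonoidHom.map_zpowers, comap_map_mk']
  have hMn : (Subgroup.zpowers x ⊔ N).Normal := hMe ▸ hcen.comap _
  have hMc : IsMulCommutative ↥(Subgroup.zpowers x ⊔ N) := by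
    have h1 : Subgroup.zpowers x ⊔ N ≤
        Subgroup.centralizer ((Subgroup.zpowers x ⊔ N : Subgroup G) : Set G) := by
      rw [Subgroup.le_centralizer_iff, sup_le_iff]
      constructor
      · rw [Subgroup.le_centralizer_iff, sup_le_iff]
        exact ⟨(Subgroup.zpowers x).le_centralizer,
          le_centralizer_comm.1 (Subgroup.zpowers_le.2 hxC)⟩
      · rw [Subgroup.le_centralizer_iff, sup_le_iff]
        exact ⟨Subgroup.zpowers_le.2 hxC, N.le_centralizer⟩
    exact ⟨⟨fun a b => Subtype.ext (Subgroup.mem_centralizer_iff.1 (h1 b.2) a a.2)⟩⟩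
  have hxN : x ∈ N := hmax _ hMn hMc le_sup_right ▸
    (le_sup_left : Subgroup.zpowers x ≤ _ ⊔ N) (Subgroup.mem_zpowers x)
  exact hy1 ((QuotientGroup.eq_one_iff x).2 hxN)

/-- In a finite nilpotent group every subgroup is subnormal. -/
theorem isSubnormal_of_isNilpotent [Finite G] [Group.IsNilpotent G] (H : Subgroup G) :
    H.IsSubnormal := by
  induction H using WellFoundedGT.induction with
  | ind H ih =>
    rcases eq_or_ne H ⊤ with rfl | hne
    · exact Subgroup.IsSubnormal.top
    · exact Subgroup.IsSubnormal.step _ _ Subgroup.le_normalizer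
        (ih _ (Group.normalizerCondition_of_isNilpotent H hne.lt_top)) inferInstance

theorem isNilpotent_iff_forall_isSubnormal [Finite G] :
    Group.IsNilpotent G ↔ ∀ H : Subgroup G, H.IsSubnormal := by
  refine ⟨fun h H => haveI := h; isSubnormal_of_isNilpotent H, fun h => ?_⟩
  refine ((Group.isNilpotent_of_finite_tfae (G := G)).out 0 2).2 fun H hH => ?_
  obtain ⟨K, hK, hHK, hKlt⟩ := (h H).exists_normal_and_le_and_lt_top_of_ne hH.1
  rcases hHK.eq_or_lt with rfl | hlt
  · exact hK
  · exact absurd (hH.2 K hlt) hKlt.ne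

/-- A normal subgroup that is nilpotent modulo `N ⊓ Φ(G)`-many elements is nilpotent: if
`Φ(G) ≤ M`, `M ⊴ G` and `M/Φ(G)` is nilpotent then so is `M`. -/
theorem isNilpotent_of_map_frattini [Finite G] {M : Subgroup G} [M.Normal]
    (hΦ : frattini G ≤ M) (h : Group.IsNilpotent (M.map (QuotientGroup.mk' (frattini G)))) :
    Group.IsNilpotent M := by
  refine ((Group.isNilpotent_of_finite_tfae (G := M)).out 0 3).2 fun p hp P => ?_
  haveI := hp
  haveI := h
  let π := (QuotientGroup.mk' (frattini G)).subgroupMap M
  have hπ : Function.Surjective π := MonoidHom.subgroupMap_surjective _ _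
  haveI : ((P.mapSurjective hπ) : Subgroup (M.map (QuotientGroup.mk' (frattini G)))).Normal :=
    inferInstance
  haveI hchar : ((P : Subgroup M).map π).Characteristic :=
    Sylow.characteristic_of_normal (P.mapSurjective hπ) inferInstance
  haveI : (M.map (QuotientGroup.mk' (frattini G))).Normal :=
    Subgroup.Normal.map inferInstance _ (QuotientGroup.mk'_surjective _)
  set PG : Subgroup G := (P : Subgroup M).map M.subtype with hPG
  have hcomp : ((P : Subgroup M).map π).map (M.map (QuotientGroup.mk' (frattini G))).subtype =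
      PG.map (QuotientGroup.mk' (frattini G)) := by
    rw [hPG, Subgroup.map_map, Subgroup.map_map]
    rfl
  haveI hNn : (PG ⊔ frattini G).Normal := by
    rw [← comap_map_mk', ← hcomp]
    exact Subgroup.Normal.comap inferInstance _
  obtain ⟨Q, hQ⟩ := P.exists_comap_subtype_eq
  have hPM : PG ⊔ frattini G ≤ M := sup_le (Subgroup.map_subtype_le _) hΦ
  have hPle : PG ≤ (Q : Subgroup G) := by
    rw [hPG, ← hQ]
    exact Subgroup.map_comap_le _ _
  let P' : Sylow p (PG ⊔ frattini G : Subgroup G) :=
    IsPGroup.toSylow (P := PG.subgroupOf (PG ⊔ frattini G))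
      (((P.isPGroup'.map M.subtype)).comap_subtype) (by
        intro hd
        have h1 : PG.relIndex M = (P : Subgroup M).index := by
          rw [hPG, Subgroup.relIndex]
          congr 1
          rw [Subgroup.subgroupOf, Subgroup.comap_map_eq_self_of_injective M.subtype_injective]
        have h2 : PG.relIndex (PG ⊔ frattini G) ∣ PG.relIndex M :=
          Dvd.intro _ (Subgroup.relIndex_mul_relIndex _ _ _ le_sup_left hPM)
        exact P.not_dvd_index (h1 ▸ hd.trans h2))
  have key := Sylow.normalizer_sup_eq_top P'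
  have hP' : (P' : Subgroup (PG ⊔ frattini G : Subgroup G)).map (Subgroup.subtype _) = PG :=
    Subgroup.map_subgroupOf_eq_of_le le_sup_left
  rw [hP', ← sup_assoc, sup_eq_left.2 Subgroup.le_normalizer] at key
  have hn : PG.Normal := Subgroup.normalizer_eq_top_iff.1 (eq_top_of_sup_frattini key)
  have : (P : Subgroup M) = PG.subgroupOf M :=
    (Subgroup.comap_map_eq_self_of_injective M.subtype_injective _).symm
  rw [this]
  exact Subgroup.normal_subgroupOf

/-- `F(G/Φ(G)) = F(G)/Φ(G)`. -/
theorem fittingSubgroup_quotient_frattini (G : Type*) [Group G] [Finite G] :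
    fittingSubgroup (G ⧸ frattini G) =
      (fittingSubgroup G).map (QuotientGroup.mk' (frattini G)) := by
  refine le_antisymm ?_ (map_fittingSubgroup_le _ (QuotientGroup.mk'_surjective _))
  haveI := fittingSubgroup_normal' (G ⧸ frattini G)
  set M := (fittingSubgroup (G ⧸ frattini G)).comap (QuotientGroup.mk' (frattini G)) with hM
  haveI : M.Normal := Subgroup.Normal.comap inferInstance _
  have hnil : Group.IsNilpotent M := by
    refine isNilpotent_of_map_frattini (QuotientGroup.le_comap_mk' _ _) ?_
    rw [hM, map_mk'_comap]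
    exact isNilpotent_fittingSubgroup _
  rw [← map_mk'_comap (frattini G) (fittingSubgroup (G ⧸ frattini G))]
  exact Subgroup.map_mono (le_fittingSubgroup hnil)

end CfsgLib.Base
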