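import Mathlib
import Cfsg.Prelude.Def_Solvable
import Cfsg.Agent.Lib.Base.Transport

/-!
Frobenius groups, elementary part: self-normalising, the size of the kernel, the criterion by
fixed-point-free action, and the case of a complement of even order.
-/

set_option autoImplicit false
set_option linter.style.haveILetI false

namespace CfsgLib.Base

open Cfsg
open scoped Pointwise

variable {G : Type*} [Group G]

/-- A semiregular action: the order of the group divides the size of the set. -/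
theorem card_dvd_of_free {A X : Type*} [Group A] [MulAction A X] [Finite A] [Finite X]
    (h : ∀ (a : A) (x : X), a • x = x → a = 1) : Nat.card A ∣ Nat.card X := by
  classical
  haveI := Fintype.ofFinite X
  rw [Nat.card_congr (MulAction.selfEquivSigmaOrbits' A X), Nat.card_sigma]
  refine Finset.dvd_sum fun ω _ => ?_
  induction ω using Quotient.inductionOn' with
  | h x =>
    have hs : MulAction.stabilizer A x = ⊥ :=
      (Subgroup.eq_bot_iff_forall _).2 fun a ha => h a x ha
    rw [MulAction.orbitRel.Quotient.orbit_mk,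
      Nat.card_congr (MulAction.orbitEquivQuotientStabilizer A x), hs,
      ← Subgroup.index, Subgroup.index_bot]

namespace Frobenius

variable {H : Subgroup G}

theorem mem_conj_iff {g x : G} {H : Subgroup G} : x ∈ MulAut.conj g • H ↔ g⁻¹ * x * g ∈ H := by
  rw [← map_conj_eq_smul, mem_map_conj]

theorem conj_mem_of_conj_mem (hH : IsFrobeniusComplement H) {x g : G} (hx : x ∈ H) (hx1 : x ≠ 1)
    (hgx : g⁻¹ * x * g ∈ H) : g ∈ H := by
  by_contra hg
  have h := hH.2.2 g hg
  have : x ∈ H ⊓ MulAut.conj g • H := ⟨hx, mem_conj_iff.2 hgx⟩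
  rw [h, Subgroup.mem_bot] at this
  exact hx1 this

theorem mem_of_conj_mem (hH : IsFrobeniusComplement H) {x g : G} (hx : x ∈ H) (hx1 : x ≠ 1)
    (hgx : g * x * g⁻¹ ∈ H) : g ∈ H := by
  have := conj_mem_of_conj_mem hH hx hx1 (g := g⁻¹) (by simpa using hgx)
  simpa using this

theorem mem_of_commute (hH : IsFrobeniusComplement H) {x g : G} (hx : x ∈ H) (hx1 : x ≠ 1)
    (hc : g * x = x * g) : g ∈ H :=
  mem_of_conj_mem hH hx hx1 (by rw [hc, mul_inv_cancel_right]; exact hx)

theorem centralizer_le (hH : IsFrobeniusComplement H) {x : G} (hx : x ∈ H) (hx1 : x ≠ 1) :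
    Subgroup.centralizer {x} ≤ H :=
  fun _ hg => mem_of_commute hH hx hx1 (Subgroup.mem_centralizer_iff.1 hg x rfl).symm

theorem normalizer_eq (hH : IsFrobeniusComplement H) : Subgroup.normalizer (H : Set G) = H := by
  refine le_antisymm (fun g hg => ?_) Subgroup.le_normalizer
  obtain ⟨x, hx, hx1⟩ := (Subgroup.bot_or_exists_ne_one H).resolve_left hH.1
  exact mem_of_conj_mem hH hx hx1 ((Subgroup.mem_normalizer_iff.1 hg x).1 hx)

theorem isFrobeniusComplement_conj (hH : IsFrobeniusComplement H) (a : G) :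
    IsFrobeniusComplement (MulAut.conj a • H) := by
  refine ⟨fun h => hH.1 ?_, fun h => hH.2.1 ?_, fun g hg => ?_⟩
  · rw [← Subgroup.smul_bot (MulAut.conj a)] at h
    exact MulAction.injective _ h
  · refine MulAction.injective (MulAut.conj a) ?_
    change MulAut.conj a • H = MulAut.conj a • (⊤ : Subgroup G)
    rw [h, eq_comm, Subgroup.eq_top_iff']
    intro x
    rw [mem_conj_iff]
    exact Subgroup.mem_top _
  · rw [Subgroup.eq_bot_iff_forall]
    intro x hx
    obtain ⟨h1, h2⟩ := Subgroup.mem_inf.1 hx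
    rw [mem_conj_iff] at h1 h2
    rw [mem_conj_iff] at h2
    by_contra hx1
    refine hg (mem_conj_iff.2 (conj_mem_of_conj_mem hH h1 (fun e => hx1 ?_) ?_))
    · simpa [mul_assoc, mul_inv_eq_one] using congrArg (fun y => a * y * a⁻¹) e
    · simpa [mul_assoc] using h2

theorem mem_frobeniusKernel_iff {x : G} :
    x ∈ frobeniusKernel H ↔ x = 1 ∨ ∀ g : G, g⁻¹ * x * g ∉ H :=
  or_congr_right (forall_congr' fun _ => not_congr mem_conj_iff)

theorem one_mem_frobeniusKernel (H : Subgroup G) : (1 : G) ∈ frobeniusKernel H := Or.inl rfl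

theorem conj_mem_frobeniusKernel {x : G} (hx : x ∈ frobeniusKernel H) (a : G) :
    a * x * a⁻¹ ∈ frobeniusKernel H := by
  rw [mem_frobeniusKernel_iff] at hx ⊢
  rcases hx with rfl | hx
  · exact Or.inl (by simp)
  · refine Or.inr fun g => ?_
    have := hx (a⁻¹ * g)
    simpa [mul_assoc] using this

theorem inv_mem_frobeniusKernel {x : G} (hx : x ∈ frobeniusKernel H) :
    x⁻¹ ∈ frobeniusKernel H := by
  rw [mem_frobeniusKernel_iff] at hx ⊢
  rcases hx with rfl | hx
  · exact Or.inl (by simp)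
  · refine Or.inr fun g hg => hx g ?_
    have := H.inv_mem hg
    simpa [mul_assoc] using this

theorem frobeniusKernel_conj (H : Subgroup G) (a : G) :
    frobeniusKernel (MulAut.conj a • H) = frobeniusKernel H := by
  ext x
  simp only [mem_frobeniusKernel_iff, mem_conj_iff]
  refine or_congr_right ⟨fun h g => ?_, fun h g => ?_⟩
  · have := h (g * a⁻¹)
    simpa [mul_assoc] using this
  · have := h (g * a)
    simpa [mul_assoc] using this

variable [Finite G]

/-- The elements outside the kernel are parametrised by `(G/H) × H#`. -/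
theorem card_compl_frobeniusKernel (hH : IsFrobeniusComplement H) :
    Nat.card ↥((frobeniusKernel H)ᶜ : Set G) = H.index * (Nat.card H - 1) := by
  classical
  haveI := Fintype.ofFinite H
  have hcard : Nat.card {h : H // h ≠ 1} = Nat.card H - 1 := by
    rw [Nat.card_eq_fintype_card, Fintype.card_subtype_compl, Fintype.card_subtype_eq,
      Nat.card_eq_fintype_card]
  rw [Subgroup.index, ← hcard, ← Nat.card_prod]
  let f : (G ⧸ H) × {h : H // h ≠ 1} → ↥((frobeniusKernel H)ᶜ : Set G) := fun q =>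
    ⟨q.1.out * (q.2.1 : G) * q.1.out⁻¹, by
      rw [Set.mem_compl_iff, mem_frobeniusKernel_iff]
      rintro (h | h)
      · refine q.2.2 (Subtype.ext ?_)
        have := congrArg (fun y => q.1.out⁻¹ * y * q.1.out) h
        simpa [mul_assoc] using this
      · exact h q.1.out (by simp [mul_assoc])⟩
  refine (Nat.card_congr (Equiv.ofBijective f ⟨?_, ?_⟩)).symm
  · rintro ⟨c, h, hh⟩ ⟨d, k, hk⟩ he
    have he' : c.out * (h : G) * c.out⁻¹ = d.out * k * d.out⁻¹ := congrArg Subtype.val he
    have hmem : d.out⁻¹ * c.out ∈ H := by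
      refine mem_of_conj_mem hH h.2 (fun e => hh (Subtype.ext e)) ?_
      rw [show d.out⁻¹ * c.out * h * (d.out⁻¹ * c.out)⁻¹ =
        d.out⁻¹ * (c.out * h * c.out⁻¹) * d.out by group, he']
      simp [mul_assoc]
    have hcd : c = d := by
      rw [← QuotientGroup.out_eq' c, ← QuotientGroup.out_eq' d, eq_comm, QuotientGroup.eq]
      exact hmem
    subst hcd
    simp only [Prod.mk.injEq, true_and]
    exact Subtype.ext (Subtype.ext (mul_left_cancel (mul_right_cancel he')))
  · rintro ⟨x, hx⟩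
    rw [Set.mem_compl_iff, mem_frobeniusKernel_iff] at hx
    push Not at hx
    obtain ⟨hx1, g, hg⟩ := hx
    obtain ⟨m, hm⟩ : ∃ m : H, (g : G ⧸ H).out = g * m := QuotientGroup.mk_out_eq_mul H g
    refine ⟨((g : G ⧸ H), ⟨⟨(m : G)⁻¹ * (g⁻¹ * x * g) * m,
      H.mul_mem (H.mul_mem (H.inv_mem m.2) hg) m.2⟩, fun e => hx1 ?_⟩), Subtype.ext ?_⟩
    · have := congrArg (fun y => g * m * y * (g * m)⁻¹) (congrArg Subtype.val e)
      simpa [mul_assoc] using this
    · simp only [f, hm]
      group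

/-- The kernel has exactly `[G : H]` elements. -/
theorem card_frobeniusKernel (hH : IsFrobeniusComplement H) :
    Nat.card (frobeniusKernel H) = H.index := by
  have h2 : (frobeniusKernel H).ncard + ((frobeniusKernel H)ᶜ).ncard = Nat.card G :=
    Set.ncard_add_ncard_compl _
  rw [← Nat.card_coe_set_eq, ← Nat.card_coe_set_eq, card_compl_frobeniusKernel hH,
    ← H.index_mul_card] at h2
  have hpos : 0 < Nat.card H := Nat.card_pos
  obtain ⟨k, hk⟩ : ∃ k, Nat.card H = k + 1 := ⟨Nat.card H - 1, by omega⟩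
  rw [hk, Nat.add_sub_cancel, Nat.mul_succ] at h2
  omega

/-- `[G : H] ≡ 1` modulo the order of `H`. -/
theorem card_dvd_index_sub_one (hH : IsFrobeniusComplement H) :
    Nat.card H ∣ H.index - 1 := by
  classical
  let X := {x : G // x ∈ frobeniusKernel H ∧ x ≠ 1}
  letI : MulAction H X :=
    { smul := fun h x => ⟨(h : G) * x * (h : G)⁻¹, conj_mem_frobeniusKernel x.2.1 _, fun e => x.2.2 (by
        simpa [mul_assoc] using congrArg (fun y => (h : G)⁻¹ * y * h) e)⟩
      one_smul := fun x => Subtype.ext (by show ((1 : H) : G) * x.1 * ((1 : H) : G)⁻¹ = x.1; simp)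
      mul_smul := fun a b x => Subtype.ext (by
        show ((a * b : H) : G) * x.1 * ((a * b : H) : G)⁻¹ =
          (a : G) * ((b : G) * x.1 * (b : G)⁻¹) * (a : G)⁻¹
        simp [mul_assoc]) }
  have hX : Nat.card X = H.index - 1 := by
    rw [← card_frobeniusKernel hH, Nat.card_coe_set_eq,
      ← Set.ncard_diff_singleton_of_mem (one_mem_frobeniusKernel H), ← Nat.card_coe_set_eq]
    rfl
  rw [← hX]
  refine card_dvd_of_free fun a x hax => by_contra fun ha => ?_
  have he : (a : G) * x.1 * (a : G)⁻¹ = x.1 := congrArg Subtype.val hax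
  have hx : x.1 ∈ H := mem_of_commute hH a.2 (fun e => ha (Subtype.ext e))
    (mul_inv_eq_iff_eq_mul.1 he).symm
  exact (mem_frobeniusKernel_iff.1 x.2.1).resolve_left x.2.2 1 (by simpa using hx)

theorem index_mod_card (hH : IsFrobeniusComplement H) :
    H.index % Nat.card H = 1 % Nat.card H :=
  ((Nat.modEq_iff_dvd' (Nat.one_le_iff_ne_zero.2 Subgroup.index_ne_zero_of_finite)).2
    (card_dvd_index_sub_one hH)).symm

theorem coprime_card_index (hH : IsFrobeniusComplement H) :
    (Nat.card H).Coprime H.index := by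
  rw [Nat.coprime_iff_gcd_eq_one, Nat.gcd_rec, index_mod_card hH]
  rcases Nat.lt_or_ge 1 (Nat.card H) with h | h
  · rw [Nat.mod_eq_of_lt h, Nat.gcd_one_left]
  · have := Nat.card_pos (α := H)
    simp [show Nat.card H = 1 by omega]

/-- A complement of a normal subgroup is a Frobenius complement iff it acts without fixed points. -/
theorem isFrobeniusComplement_iff (K H : Subgroup G) [K.Normal]
    (hc : Subgroup.IsComplement' K H) (hK : K ≠ ⊥) (hH : H ≠ ⊥) :
    IsFrobeniusComplement H ↔ ∀ h ∈ H, h ≠ 1 → K ⊓ Subgroup.centralizer {h} = ⊥ := by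
  constructor
  · intro hF h hh hh1
    rw [Subgroup.eq_bot_iff_forall]
    rintro k ⟨hk, hkc⟩
    have hkH := centralizer_le hF hh hh1 hkc
    exact Subgroup.mem_bot.1 (hc.disjoint.le_bot ⟨hk, hkH⟩)
  · intro hf
    refine ⟨hH, fun e => hK (le_bot_iff.1 (hc.disjoint le_rfl (e ▸ le_top))), fun g hg => ?_⟩
    have hg' : g ∈ (K : Set G) * (H : Set G) := by
      rw [hc.mul_eq]
      exact Set.mem_univ g
    obtain ⟨k, hk, h', hh', rfl⟩ := hg'
    rw [Subgroup.eq_bot_iff_forall]
    intro x hxx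
    obtain ⟨hx, hx'⟩ := Subgroup.mem_inf.1 hxx
    rw [mem_conj_iff] at hx'
    have hy : k⁻¹ * x * k ∈ H := by
      have := H.mul_mem (H.mul_mem hh' hx') (H.inv_mem hh')
      simpa [mul_assoc] using this
    have hcomm : x⁻¹ * (k⁻¹ * x * k) = 1 := by
      refine Subgroup.mem_bot.1 (hc.disjoint.le_bot ⟨?_, H.mul_mem (H.inv_mem hx) hy⟩)
      rw [show x⁻¹ * (k⁻¹ * x * k) = (x⁻¹ * k⁻¹ * x) * k by group]
      exact K.mul_mem (by simpa using (inferInstance : K.Normal).conj_mem _ (K.inv_mem hk) x⁻¹) hk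
    by_contra hx1
    have hkc : k ∈ K ⊓ Subgroup.centralizer {x} := by
      refine ⟨hk, Subgroup.mem_centralizer_iff.2 ?_⟩
      rintro y (rfl : y = x)
      calc y * k = k * (k⁻¹ * y * k) := by group
        _ = k * y := by rw [← inv_mul_eq_one.1 hcomm]
    rw [hf x hx hx1, Subgroup.mem_bot] at hkc
    subst hkc
    exact hg (by simpa using hh')

/-- The kernel with respect to a complement of a normal subgroup is that subgroup. -/
theorem frobeniusKernel_eq (hH : IsFrobeniusComplement H) (K : Subgroup G) [hK : K.Normal]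
    (hc : Subgroup.IsComplement' K H) : frobeniusKernel H = (K : Set G) := by
  refine (Set.eq_of_subset_of_ncard_le ?_ ?_ (Set.toFinite _)).symm
  · intro x hx
    refine mem_frobeniusKernel_iff.2 ((eq_or_ne x 1).imp_right fun hx1 g hg => hx1 ?_)
    have hk : g⁻¹ * x * g ∈ K := by simpa using hK.conj_mem x hx g⁻¹
    simpa [mul_assoc, inv_mul_eq_one] using congrArg (fun y => g * y * g⁻¹)
      (Subgroup.mem_bot.1 (hc.disjoint.le_bot ⟨hk, hg⟩))
  · rw [← Nat.card_coe_set_eq, ← Nat.card_coe_set_eq, card_frobeniusKernel hH]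
    refine (Nat.eq_of_mul_eq_mul_right (m := Nat.card H) Nat.card_pos ?_).le
    rw [H.index_mul_card, ← hc.card_mul]
    rfl

/-- The product of an involution of `H` with an involution outside `H` lies in the kernel. -/
theorem mul_mem_frobeniusKernel_of_involution (hH : IsFrobeniusComplement H) {s w : G} (hs : s ∈ H)
    (hs1 : s ≠ 1) (hs2 : s * s = 1) (hw2 : w * w = 1) (hw : w ∉ H) :
    s * w ∈ frobeniusKernel H := by
  refine mem_frobeniusKernel_iff.2 (Or.inr fun y hy => ?_)
  have hsi : s⁻¹ = s := inv_eq_of_mul_eq_one_left hs2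
  have hwi : w⁻¹ = w := inv_eq_of_mul_eq_one_left hw2
  have hne : y⁻¹ * (s * w) * y ≠ 1 := fun e => hw (by
    have : s * w = 1 := by
      simpa [mul_assoc, inv_mul_eq_one] using congrArg (fun v => y * v * y⁻¹) e
    rw [← inv_eq_of_mul_eq_one_right this]
    exact H.inv_mem hs)
  have hinv : y⁻¹ * (w * s) * y ∈ H := by
    have := H.inv_mem hy
    simpa [mul_assoc, hsi, hwi] using this
  have h1 : y⁻¹ * s * y ∈ H := by
    refine mem_of_conj_mem hH hy hne ?_
    rw [show y⁻¹ * s * y * (y⁻¹ * (s * w) * y) * (y⁻¹ * s * y)⁻¹ =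
      y⁻¹ * ((s * s) * w * s⁻¹) * y by group, hs2, one_mul, hsi]
    exact hinv
  have h2 : y⁻¹ * w * y ∈ H := by
    refine mem_of_conj_mem hH hy hne ?_
    rw [show y⁻¹ * w * y * (y⁻¹ * (s * w) * y) * (y⁻¹ * w * y)⁻¹ = y⁻¹ * (w * s) * y by group]
    exact hinv
  have hyH : y ∈ H := conj_mem_of_conj_mem hH hs hs1 h1
  exact hw (by simpa [mul_assoc] using H.mul_mem (H.mul_mem hyH h2) (H.inv_mem hyH))

theorem conj_not_mem (hH : IsFrobeniusComplement H) {t g : G} (ht : t ∈ H) (ht1 : t ≠ 1)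
    (hg : g ∉ H) : g * t * g⁻¹ ∉ H :=
  fun h => hg (mem_of_conj_mem hH ht ht1 h)

/-- If `H` has an involution `t`, the kernel consists of products of `t` with conjugates of `t`. -/
theorem exists_eq_of_mem_frobeniusKernel (hH : IsFrobeniusComplement H) {t : G} (ht : t ∈ H)
    (ht1 : t ≠ 1) (ht2 : t * t = 1) {x : G} (hx : x ∈ frobeniusKernel H) :
    ∃ g : G, x = t * (g * t * g⁻¹) ∧ (g = 1 ∨ g ∉ H) := by
  classical
  let pick : G ⧸ H → G := fun c => if c = ((1 : G) : G ⧸ H) then 1 else c.out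
  have hpick : ∀ c : G ⧸ H, (pick c : G ⧸ H) = c ∧ (pick c = 1 ∨ pick c ∉ H) := by
    intro c
    simp only [pick]
    split
    · next h => exact ⟨h.symm, Or.inl rfl⟩
    · next h =>
      refine ⟨QuotientGroup.out_eq' c, Or.inr fun hm => h ?_⟩
      rw [← QuotientGroup.out_eq' c, QuotientGroup.eq, mul_one]
      exact H.inv_mem hm
  have hmem : ∀ c, t * (pick c * t * (pick c)⁻¹) ∈ frobeniusKernel H := fun c => by
    rcases (hpick c).2 with h | h
    · simp [h, ht2, one_mem_frobeniusKernel]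
    · refine mul_mem_frobeniusKernel_of_involution hH ht ht1 ht2 ?_ (conj_not_mem hH ht ht1 h)
      rw [show pick c * t * (pick c)⁻¹ * (pick c * t * (pick c)⁻¹) = pick c * (t * t) * (pick c)⁻¹ by
        group, ht2]
      group
  let f : G ⧸ H → frobeniusKernel H := fun c => ⟨_, hmem c⟩
  have hf : Function.Injective f := by
    intro c d he
    have he' : pick c * t * (pick c)⁻¹ = pick d * t * (pick d)⁻¹ :=
      mul_left_cancel (congrArg Subtype.val he)
    rw [← (hpick c).1, ← (hpick d).1, eq_comm, QuotientGroup.eq]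
    refine mem_of_conj_mem hH ht ht1 ?_
    rw [show (pick d)⁻¹ * pick c * t * ((pick d)⁻¹ * pick c)⁻¹ =
      (pick d)⁻¹ * (pick c * t * (pick c)⁻¹) * pick d by group, he']
    simpa [mul_assoc] using ht
  obtain ⟨c, hc⟩ := ((Nat.bijective_iff_injective_and_card f).2
    ⟨hf, (card_frobeniusKernel hH).symm⟩).2 ⟨x, hx⟩
  exact ⟨pick c, (congrArg Subtype.val hc).symm, (hpick c).2⟩

/-- An involution of the complement inverts the kernel. -/
theorem conj_eq_inv_of_involution (hH : IsFrobeniusComplement H) {t : G} (ht : t ∈ H)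
    (ht1 : t ≠ 1) (ht2 : t * t = 1) {x : G} (hx : x ∈ frobeniusKernel H) :
    t * x * t⁻¹ = x⁻¹ := by
  obtain ⟨g, rfl, -⟩ := exists_eq_of_mem_frobeniusKernel hH ht ht1 ht2 hx
  set u := g * t * g⁻¹ with hu
  have hu2 : u * u = 1 := by
    rw [hu, show g * t * g⁻¹ * (g * t * g⁻¹) = g * (t * t) * g⁻¹ by group, ht2]; group
  rw [mul_inv_rev, inv_eq_of_mul_eq_one_left hu2, inv_eq_of_mul_eq_one_left ht2, ← mul_assoc, ht2,
    one_mul]

/-- A complement has at most one involution. -/
theorem involution_unique (hH : IsFrobeniusComplement H) {s t : G} (hs : s ∈ H) (hs1 : s ≠ 1)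
    (hs2 : s * s = 1) (ht : t ∈ H) (ht1 : t ≠ 1) (ht2 : t * t = 1) : s = t := by
  have hidx : 2 ≤ H.index := Subgroup.one_lt_index_of_ne_top hH.2.1
  obtain ⟨x, hx, hx1⟩ : ∃ x ∈ frobeniusKernel H, x ≠ 1 := by
    by_contra hall
    push Not at hall
    have hsub : frobeniusKernel H ⊆ {1} := fun y hy => hall y hy
    have := Set.ncard_le_ncard hsub (Set.toFinite _)
    rw [Set.ncard_singleton, ← Nat.card_coe_set_eq, card_frobeniusKernel hH] at this
    omega
  by_contra hne
  have hxH : x ∉ H := fun h =>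
    (mem_frobeniusKernel_iff.1 hx).resolve_left hx1 1 (by simpa using h)
  have hst : s * t⁻¹ ≠ 1 := fun e => hne (mul_inv_eq_one.1 e)
  refine hxH (mem_of_commute hH (H.mul_mem hs (H.inv_mem ht)) hst ?_)
  have h1 := conj_eq_inv_of_involution hH ht ht1 ht2 (inv_mem_frobeniusKernel hx)
  rw [inv_inv] at h1
  have h2 := conj_eq_inv_of_involution hH hs hs1 hs2 hx
  calc x * (s * t⁻¹) = (t * x⁻¹ * t⁻¹) * (s * t⁻¹) := by rw [h1]
    _ = (s * t⁻¹) * x := by
      rw [← h2]
      have e1 : s⁻¹ = s := inv_eq_of_mul_eq_one_left hs2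
      have e2 : t⁻¹ = t := inv_eq_of_mul_eq_one_left ht2
      have h3 : t * x * t⁻¹ = x⁻¹ := conj_eq_inv_of_involution hH ht ht1 ht2 hx
      calc t * (s * x * s⁻¹) * t⁻¹ * (s * t⁻¹)
          = t * x⁻¹ * t⁻¹ * (s * t⁻¹) := by rw [h2]
        _ = x * s * t⁻¹ := by rw [h1]; group
        _ = s * (s * x * s⁻¹) * t⁻¹ := by
            rw [show s * (s * x * s⁻¹) = (s * s) * x * s⁻¹ by group, hs2, one_mul, e1]
        _ = s * (t * x * t⁻¹) * t⁻¹ := by rw [h2, h3]
        _ = s * t⁻¹ * x * ((t⁻¹ * t⁻¹)) := by rw [e2]; group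
        _ = s * t⁻¹ * x := by rw [e2, ht2, mul_one]

/-- With a complement of even order the kernel is closed under multiplication. -/
theorem mul_mem_frobeniusKernel (hH : IsFrobeniusComplement H) {t : G} (ht : t ∈ H) (ht1 : t ≠ 1)
    (ht2 : t * t = 1) {x y : G} (hx : x ∈ frobeniusKernel H) (hy : y ∈ frobeniusKernel H) :
    x * y ∈ frobeniusKernel H := by
  obtain ⟨g, hg, -⟩ := exists_eq_of_mem_frobeniusKernel hH ht ht1 ht2 (inv_mem_frobeniusKernel hx)
  obtain ⟨d, hd, -⟩ := exists_eq_of_mem_frobeniusKernel hH ht ht1 ht2 hy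
  set e := g⁻¹ * d with he
  have hxy : x * y = g * (t * (e * t * e⁻¹)) * g⁻¹ := by
    rw [← inv_inv x, hg, hd, mul_inv_rev, inv_eq_of_mul_eq_one_left ht2, he]
    calc (g * t * g⁻¹)⁻¹ * t * (t * (d * t * d⁻¹))
        = g * t⁻¹ * g⁻¹ * (t * t) * (d * t * d⁻¹) := by group
      _ = g * (t * (g⁻¹ * d * t * (g⁻¹ * d)⁻¹)) * g⁻¹ := by
          rw [ht2, inv_eq_of_mul_eq_one_left ht2]; group
  rw [hxy]
  refine conj_mem_frobeniusKernel ?_ g
  have he2 : e * t * e⁻¹ * (e * t * e⁻¹) = 1 := by
    rw [show e * t * e⁻¹ * (e * t * e⁻¹) = e * (t * t) * e⁻¹ by group, ht2]; group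
  by_cases heH : e ∈ H
  · have hmem : e * t * e⁻¹ ∈ H := H.mul_mem (H.mul_mem heH ht) (H.inv_mem heH)
    have hne1 : e * t * e⁻¹ ≠ 1 := fun h => ht1 (by
      simpa [mul_assoc] using congrArg (fun v => e⁻¹ * v * e) h)
    rw [involution_unique hH hmem hne1 he2 ht ht1 ht2, ht2]
    exact one_mem_frobeniusKernel H
  · exact mul_mem_frobeniusKernel_of_involution hH ht ht1 ht2 he2 (conj_not_mem hH ht ht1 heH)

/-- With a complement of even order the kernel is commutative. -/
theorem frobeniusKernel_commute (hH : IsFrobeniusComplement H) {t : G} (ht : t ∈ H) (ht1 : t ≠ 1)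
    (ht2 : t * t = 1) {x y : G} (hx : x ∈ frobeniusKernel H) (hy : y ∈ frobeniusKernel H) :
    x * y = y * x := by
  have h := conj_eq_inv_of_involution hH ht ht1 ht2 (mul_mem_frobeniusKernel hH ht ht1 ht2 hx hy)
  have hxi := conj_eq_inv_of_involution hH ht ht1 ht2 hx
  have hyi := conj_eq_inv_of_involution hH ht ht1 ht2 hy
  have : (x * y)⁻¹ = x⁻¹ * y⁻¹ := by rw [← h, ← hxi, ← hyi]; group
  calc x * y = ((x * y)⁻¹)⁻¹ := (inv_inv _).symm
    _ = y * x := by rw [this, mul_inv_rev, inv_inv, inv_inv]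

end Frobenius

end CfsgLib.Base
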