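import Mathlib
import Cfsg.Agent.Lib.Base.Frobenius
import Cfsg.Agent.Lib.Coprime.Action
import Cfsg.Agent.Lib.Coprime.Action2
import Cfsg.Agent.Lib.PGroups.UniqueOrderP
import Cfsg.Agent.Lib.OddOrder.CyclicSubgroups

/-!
Fixed-point-free actions of a subgroup on another: the structure of the acting group.
-/

set_option autoImplicit false
set_option linter.style.haveILetI false

namespace CfsgLib.Base

open scoped Pointwise

variable {G : Type*} [Group G]

/-- `A` normalises `V` and no non-identity element of `A` centralises a non-identity element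
of `V`. -/
def IsFPF (A V : Subgroup G) : Prop :=
  A ≤ Subgroup.normalizer (V : Set G) ∧ ∀ a ∈ A, a ≠ 1 → V ⊓ Subgroup.centralizer {a} = ⊥

namespace IsFPF

variable {A V : Subgroup G}

theorem mono (h : IsFPF A V) {B : Subgroup G} (hB : B ≤ A) : IsFPF B V :=
  ⟨hB.trans h.1, fun a ha => h.2 a (hB ha)⟩

theorem eq_one_of_commute (h : IsFPF A V) {a v : G} (ha : a ∈ A) (ha1 : a ≠ 1) (hv : v ∈ V)
    (hc : a * v = v * a) : v = 1 := by
  have : v ∈ V ⊓ Subgroup.centralizer {a} :=
    ⟨hv, Subgroup.mem_centralizer_iff.2 (by rintro b (rfl : b = a); exact hc)⟩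
  rwa [h.2 a ha ha1, Subgroup.mem_bot] at this

theorem mono_right (h : IsFPF A V) {W : Subgroup G} (hW : W ≤ V)
    (hn : A ≤ Subgroup.normalizer (W : Set G)) : IsFPF A W :=
  ⟨hn, fun a ha ha1 => le_bot_iff.1 ((inf_le_inf_right _ hW).trans (h.2 a ha ha1).le)⟩

theorem conj_mem (h : IsFPF A V) {a v : G} (ha : a ∈ A) (hv : v ∈ V) : a * v * a⁻¹ ∈ V :=
  (Subgroup.mem_normalizer_iff.1 (h.1 ha) v).1 hv

theorem card_dvd [Finite G] (h : IsFPF A V) : Nat.card A ∣ Nat.card V - 1 := by
  classical
  let X := {v : G // v ∈ V ∧ v ≠ 1}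
  letI : MulAction A X :=
    { smul := fun a x => ⟨(a : G) * x.1 * (a : G)⁻¹, h.conj_mem a.2 x.2.1, fun e => x.2.2 (by
        simpa [mul_assoc] using congrArg (fun y => (a : G)⁻¹ * y * a) e)⟩
      one_smul := fun x => Subtype.ext (by show ((1 : A) : G) * x.1 * ((1 : A) : G)⁻¹ = x.1; simp)
      mul_smul := fun a b x => Subtype.ext (by
        show ((a * b : A) : G) * x.1 * ((a * b : A) : G)⁻¹ =
          (a : G) * ((b : G) * x.1 * (b : G)⁻¹) * (a : G)⁻¹
        simp [mul_assoc]) }
  have hX : Nat.card X = Nat.card V - 1 := by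
    rw [← SetLike.coe_sort_coe, Nat.card_coe_set_eq,
      ← Set.ncard_sdiff_singleton_of_mem (show (1 : G) ∈ (V : Set G) from V.one_mem),
      ← Nat.card_coe_set_eq]
    rfl
  rw [← hX]
  refine card_dvd_of_free fun a x hax => by_contra fun ha => x.2.2 ?_
  have he : (a : G) * x.1 * (a : G)⁻¹ = x.1 := congrArg Subtype.val hax
  exact h.eq_one_of_commute a.2 (fun e => ha (Subtype.ext e)) x.2.1 (mul_inv_eq_iff_eq_mul.1 he)

theorem coprime [Finite G] (h : IsFPF A V) : (Nat.card A).Coprime (Nat.card V) := by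
  refine Nat.coprime_of_dvd' fun k hk hkA hkV => ?_
  have := hkA.trans h.card_dvd
  have hV : 1 ≤ Nat.card V := Nat.card_pos
  have h2 := Nat.dvd_sub hkV this
  rwa [Nat.sub_sub_self hV] at h2

/-- Two elements of prime order, one normalising the cyclic group of the other, with all the
products of prime order, cannot act without fixed points on a nontrivial abelian group. -/
theorem false_of_pq_abelian [Finite G] (h : IsFPF A V) [IsMulCommutative V] (hV : V ≠ ⊥) {p q : ℕ}
    (hp : p.Prime) (hq : q.Prime) {a b : G} (ha : a ∈ A) (hb : b ∈ A) (hao : orderOf a = p)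
    (hnorm : b ∈ Subgroup.normalizer (Subgroup.zpowers a : Set G)) (hba : b ∉ Subgroup.zpowers a)
    (hord : ∀ i : ℕ, orderOf (a ^ i * b) = q) : False := by
  classical
  obtain ⟨v, hv, hv1⟩ := (Subgroup.bot_or_exists_ne_one V).resolve_left hV
  have hconj : ∀ (g : G), g ∈ A → ∀ w : V, g * (w : G) * g⁻¹ ∈ V := fun g hg w => h.conj_mem hg w.2
  let act : A → V → V := fun g w => ⟨(g : G) * w * (g : G)⁻¹, hconj g g.2 w⟩
  have hmul : ∀ g k : A, ∀ w, act (g * k) w = act g (act k w) := fun g k w =>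
    Subtype.ext (by simp [act, mul_assoc])
  haveI := Fintype.ofFinite G
  letI : CommGroup V :=
    { (inferInstance : Group V) with mul_comm := fun x y => (inferInstance : IsMulCommutative V).is_comm.comm x y }
  have hactmul : ∀ (g : A) (x y : V), act g (x * y) = act g x * act g y := fun g x y =>
    Subtype.ext (by simp [act, mul_assoc])
  -- orbit products are trivial
  have hzero : ∀ g : A, ∀ n : ℕ, g ^ n = 1 → g ≠ 1 → ∀ w : V,
      ∏ j ∈ Finset.range n, act (g ^ j) w = 1 := by
    intro g n hn hg w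
    set S := ∏ j ∈ Finset.range n, act (g ^ j) w with hS
    have hone : act g 1 = 1 := Subtype.ext (by simp [act])
    have hfix : act g S = S := by
      have h1 : act g S = ∏ j ∈ Finset.range n, act g (act (g ^ j) w) :=
        map_prod (MonoidHom.mk ⟨act g, hone⟩ (hactmul g)) _ _
      have h2 : ∏ j ∈ Finset.range n, act g (act (g ^ j) w) =
          ∏ j ∈ Finset.range n, act (g ^ (j + 1)) w :=
        Finset.prod_congr rfl fun j _ => by rw [← hmul, pow_succ']
      rw [h1, h2]
      have h3 := Finset.prod_range_succ' (fun j => act (g ^ j) w) n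
      rw [Finset.prod_range_succ] at h3
      simp only [pow_zero, hn] at h3
      exact (mul_right_cancel h3).symm
    have he : (g : G) * (S : G) = (S : G) * g :=
      mul_inv_eq_iff_eq_mul.1 (congrArg Subtype.val hfix)
    exact Subtype.ext (h.eq_one_of_commute g.2 (fun e => hg (Subtype.ext e)) S.2 he)
  let a' : A := ⟨a, ha⟩
  let b' : A := ⟨b, hb⟩
  have hap : a' ^ p = 1 := Subtype.ext (by
    show a ^ p = 1
    rw [← hao]; exact pow_orderOf_eq_one a)
  have ha1 : a' ≠ 1 := fun e => hp.one_lt.ne (by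
    rw [← hao, show a = 1 from congrArg Subtype.val e, orderOf_one])
  have hc : ∀ i : ℕ, (a' ^ i * b') ^ q = 1 := fun i => Subtype.ext (by
    show (a ^ i * b) ^ q = 1
    rw [← hord i]; exact pow_orderOf_eq_one _)
  have hc1 : ∀ i : ℕ, a' ^ i * b' ≠ 1 := fun i e => hq.one_lt.ne (by
    rw [← hord i, show a ^ i * b = 1 from congrArg Subtype.val e, orderOf_one])
  -- the powers of the products, modulo `⟨a⟩`
  have hpw : ∀ i j : ℕ, ∃ k < p, a ^ k * b ^ j = (a ^ i * b) ^ j := by
    intro i j
    induction j with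
    | zero => exact ⟨0, hp.pos, by simp⟩
    | succ j ih =>
      obtain ⟨k, -, hk⟩ := ih
      have hm : b ^ j * a ^ i * (b ^ j)⁻¹ ∈ Subgroup.zpowers a :=
        (Subgroup.mem_normalizer_iff.1 (pow_mem hnorm j) _).1 (pow_mem (Subgroup.mem_zpowers a) i)
      have hm2 : a ^ k * (b ^ j * a ^ i * (b ^ j)⁻¹) ∈ Subgroup.zpowers a :=
        mul_mem (pow_mem (Subgroup.mem_zpowers a) k) hm
      obtain ⟨k', hk', he⟩ := Finset.mem_image.1 (mem_zpowers_iff_mem_range_orderOf.1 hm2)
      rw [Finset.mem_range, hao] at hk'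
      refine ⟨k', hk', ?_⟩
      rw [he, pow_succ (a ^ i * b) j, ← hk, pow_succ b j]
      group
  have hprod : ∏ i ∈ Finset.range p, ∏ j ∈ Finset.range q, act ((a' ^ i * b') ^ j) ⟨v, hv⟩ = 1 :=
    Finset.prod_eq_one fun i _ => hzero _ q (hc i) (hc1 i) _
  rw [Finset.prod_comm] at hprod
  have hcol : ∀ j ∈ Finset.range q, j ≠ 0 →
      ∏ i ∈ Finset.range p, act ((a' ^ i * b') ^ j) ⟨v, hv⟩ = 1 := by
    intro j hj hj0
    choose σ hσlt hσ using fun i => hpw i j
    have hinj : Set.InjOn σ (Finset.range p : Finset ℕ) := by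
      intro i hi k hk hik
      simp only [Finset.coe_range, Set.mem_Iio] at hi hk
      have heq : (a ^ i * b) ^ j = (a ^ k * b) ^ j := by rw [← hσ i, ← hσ k, hik]
      have hcop : Nat.Coprime j q :=
        (hq.coprime_iff_not_dvd.2 fun hd => by
          have := Nat.le_of_dvd (Nat.pos_of_ne_zero hj0) hd
          rw [Finset.mem_range] at hj
          omega).symm
      -- recover the base from its `j`-th power
      obtain ⟨m, hm⟩ := exists_pow_eq_self_of_coprime (x := a ^ i * b) (n := j) (by rwa [hord i])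
      have hki : a ^ i * b ∈ Subgroup.zpowers (a ^ k * b) := by
        rw [← hm, heq]
        exact pow_mem (pow_mem (Subgroup.mem_zpowers _) j) m
      have hd : (a ^ i * b) * (a ^ k * b)⁻¹ ∈ Subgroup.zpowers a := by
        rw [show a ^ i * b * (a ^ k * b)⁻¹ = a ^ i * (a ^ k)⁻¹ by group]
        exact mul_mem (pow_mem (Subgroup.mem_zpowers a) i)
          (inv_mem (pow_mem (Subgroup.mem_zpowers a) k))
      by_contra hne
      have hne1 : (a ^ i * b) * (a ^ k * b)⁻¹ ≠ 1 := fun e => hne (by
        have : a ^ i = a ^ k := mul_right_cancel (mul_inv_eq_one.1 e)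
        exact pow_injOn_Iio_orderOf (by simpa [hao] using hi) (by simpa [hao] using hk) this)
      -- then `a` is a power of `a ^ k * b`, so `b` is in `⟨a⟩`
      have h1 : (a ^ i * b) * (a ^ k * b)⁻¹ ∈ Subgroup.zpowers (a ^ k * b) :=
        mul_mem hki (inv_mem (Subgroup.mem_zpowers _))
      have hcardle : Nat.card (Subgroup.zpowers (a ^ k * b)) = q := by
        rw [Nat.card_zpowers, hord]
      have hgen : Subgroup.zpowers ((a ^ i * b) * (a ^ k * b)⁻¹) = Subgroup.zpowers (a ^ k * b) := by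
        refine Subgroup.eq_of_le_of_card_ge (Subgroup.zpowers_le.2 h1) ?_
        rw [hcardle, Nat.card_zpowers]
        refine le_of_eq (Eq.symm ?_)
        have h2 : orderOf ((a ^ i * b) * (a ^ k * b)⁻¹) ∣ q := by
          rw [← hcardle]
          exact Subgroup.orderOf_dvd_natCard _ h1
        exact ((Nat.dvd_prime hq).1 h2).resolve_left fun e => hne1 (orderOf_eq_one_iff.1 e)
      have h3 : a ^ k * b ∈ Subgroup.zpowers a :=
        (hgen ▸ Subgroup.zpowers_le.2 hd) (Subgroup.mem_zpowers _)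
      exact hba (by simpa using mul_mem (inv_mem (pow_mem (Subgroup.mem_zpowers a) k)) h3)
    have himg : (Finset.range p).image σ = Finset.range p := by
      refine Finset.eq_of_subset_of_card_le ?_ ?_
      · intro x hx
        obtain ⟨i, -, rfl⟩ := Finset.mem_image.1 hx
        exact Finset.mem_range.2 (hσlt i)
      · rw [Finset.card_image_of_injOn hinj]
    calc ∏ i ∈ Finset.range p, act ((a' ^ i * b') ^ j) ⟨v, hv⟩
        = ∏ i ∈ Finset.range p, act (a' ^ σ i) (act (b' ^ j) ⟨v, hv⟩) := by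
          refine Finset.prod_congr rfl fun i _ => ?_
          rw [← hmul, show (a' ^ i * b') ^ j = a' ^ σ i * b' ^ j from
            Subtype.ext (by simpa [a', b'] using (hσ i).symm)]
      _ = ∏ k ∈ Finset.range p, act (a' ^ k) (act (b' ^ j) ⟨v, hv⟩) := by
          conv_rhs => rw [← himg, Finset.prod_image hinj]
      _ = 1 := hzero a' p hap ha1 _
  rw [← Finset.mul_prod_erase _ _ (Finset.mem_range.2 hq.pos),
    Finset.prod_eq_one (fun j hj => hcol j (Finset.mem_of_mem_erase hj) (Finset.ne_of_mem_erase hj)),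
    mul_one] at hprod
  have hvp : v ^ p = 1 := by
    have : ∀ i, act ((a' ^ i * b') ^ 0) ⟨v, hv⟩ = ⟨v, hv⟩ := fun i => Subtype.ext (by simp [act])
    simp only [this, Finset.prod_const, Finset.card_range] at hprod
    simpa using congrArg Subtype.val hprod
  have h1 : orderOf v ∣ p := orderOf_dvd_of_pow_eq_one hvp
  have h2 : orderOf v = p := ((Nat.dvd_prime hp).1 h1).resolve_left fun e =>
    hv1 (orderOf_eq_one_iff.1 e)
  have hpA : p ∣ Nat.card A := hao ▸ Subgroup.orderOf_dvd_natCard A ha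
  exact hp.one_lt.ne' (Nat.eq_one_of_dvd_coprimes h.coprime hpA
    (h2 ▸ Subgroup.orderOf_dvd_natCard V hv))

/-- An element of prime order normalising a subgroup of prime order of a fixed-point-free
group centralises it. -/
theorem commute_of_prime [Finite G] (h : IsFPF A V) (hV : V ≠ ⊥) {p q : ℕ} (hp : p.Prime)
    (hq : q.Prime) {a b : G} (ha : a ∈ A) (hb : b ∈ A) (hao : orderOf a = p) (hbo : orderOf b = q)
    (hnorm : b ∈ Subgroup.normalizer (Subgroup.zpowers a : Set G)) : a * b = b * a := by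
  by_cases hba : b ∈ Subgroup.zpowers a
  · obtain ⟨k, hk⟩ := Subgroup.mem_zpowers_iff.1 hba
    exact hk ▸ (Commute.zpow_right (Commute.refl a) k)
  by_contra hne
  have hord : ∀ i : ℕ, orderOf (a ^ i * b) = q := by
    intro i
    have hz : (a ^ i * b) ^ q ∈ Subgroup.zpowers a := by
      have key : ∀ j, (a ^ i * b) ^ j * (b ^ j)⁻¹ ∈ Subgroup.zpowers a := by
        intro j
        induction j with
        | zero => simp
        | succ j ih =>
          rw [show (a ^ i * b) ^ (j + 1) * (b ^ (j + 1))⁻¹ =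
            (a ^ i * b) ^ j * (b ^ j)⁻¹ * (b ^ j * a ^ i * (b ^ j)⁻¹) by
              rw [pow_succ, pow_succ]; group]
          exact mul_mem ih ((Subgroup.mem_normalizer_iff.1 (pow_mem hnorm j) _).1
            (pow_mem (Subgroup.mem_zpowers a) i))
      have := key q
      rwa [show b ^ q = 1 by rw [← hbo]; exact pow_orderOf_eq_one b, inv_one, mul_one] at this
    have hq1 : (a ^ i * b) ^ q = 1 := by
      by_contra hz1
      -- otherwise it generates `⟨a⟩` and commutes with `a ^ i * b`
      have hgen : Subgroup.zpowers ((a ^ i * b) ^ q) = Subgroup.zpowers a := by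
        refine Subgroup.eq_of_le_of_card_ge (Subgroup.zpowers_le.2 hz) ?_
        rw [Nat.card_zpowers, Nat.card_zpowers, hao]
        have h2 : orderOf ((a ^ i * b) ^ q) ∣ p := by
          have := Subgroup.orderOf_dvd_natCard _ hz
          rwa [Nat.card_zpowers, hao] at this
        exact (((Nat.dvd_prime hp).1 h2).resolve_left fun e => hz1 (orderOf_eq_one_iff.1 e)).ge
      obtain ⟨m, hm⟩ := Subgroup.mem_zpowers_iff.1 (hgen.ge (Subgroup.mem_zpowers a))
      have hcomm : Commute a (a ^ i * b) := by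
        have := ((Commute.self_pow (a ^ i * b) q).symm.zpow_left m)
        rwa [hm] at this
      refine hne ?_
      have := ((Commute.self_pow a i).inv_right).mul_right hcomm
      simpa using this.eq
    refine ((Nat.dvd_prime hq).1 (orderOf_dvd_of_pow_eq_one hq1)).resolve_left fun e => hba ?_
    rw [orderOf_eq_one_iff] at e
    rw [eq_inv_of_mul_eq_one_right e]
    exact inv_mem (pow_mem (Subgroup.mem_zpowers a) i)
  -- pass to an invariant abelian subgroup of `V`
  set E := Subgroup.zpowers b ⊔ Subgroup.zpowers a with hE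
  have hEA : E ≤ A := sup_le (Subgroup.zpowers_le.2 hb) (Subgroup.zpowers_le.2 ha)
  have hsolv : Group.IsSolvable E := by
    have hn : Subgroup.zpowers b ≤ Subgroup.normalizer (Subgroup.zpowers a : Set G) :=
      Subgroup.zpowers_le.2 hnorm
    haveI : ((Subgroup.zpowers a).subgroupOf E).Normal :=
      Subgroup.normal_subgroupOf_of_le_normalizer (sup_le hn Subgroup.le_normalizer)
    refine (Group.isSolvable_iff_subgroup_quotient ((Subgroup.zpowers a).subgroupOf E)).2 ⟨?_, ?_⟩
    · exact Group.isSolvable_of_surjective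
        (f := (Subgroup.subgroupOfEquivOfLe (le_sup_right : Subgroup.zpowers a ≤ E)).symm.toMonoidHom)
        (MulEquiv.surjective _)
    · refine Group.isSolvable_of_surjective (G := Subgroup.zpowers b)
        (f := (QuotientGroup.mk' _).comp (Subgroup.inclusion (le_sup_left : Subgroup.zpowers b ≤ E)))
        fun X => ?_
      obtain ⟨⟨x, hx⟩, rfl⟩ := QuotientGroup.mk'_surjective _ X
      obtain ⟨y, hy, z, hz, rfl⟩ := (CfsgLib.Coprime.mem_sup_iff_of_le_normalizer hn).1 hx
      refine ⟨⟨y, hy⟩, (QuotientGroup.mk'_eq_mk' _).2 ⟨⟨z, le_sup_right (a := Subgroup.zpowers b) hz⟩,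
        Subgroup.mem_subgroupOf.2 hz, rfl⟩⟩
  obtain ⟨r, hr, hrd⟩ := Nat.exists_prime_and_dvd
    (fun e => hV (V.eq_bot_of_card_eq e))
  haveI := Fact.mk hr
  obtain ⟨P, hP⟩ := CfsgLib.Coprime.exists_invariant_sylow (p := r) (h.mono hEA).1
    (h.mono hEA).coprime (Or.inl hsolv)
  set PG := (P : Subgroup V).map V.subtype with hPG
  set Z := (Subgroup.center PG).map PG.subtype with hZ
  haveI : IsMulCommutative Z :=
    ⟨⟨by
      rintro ⟨_, x, hx, rfl⟩ ⟨_, y, _, rfl⟩
      exact Subtype.ext (congrArg Subtype.val (Subgroup.mem_center_iff.1 hx y)).symm⟩⟩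
  have hPne : (P : Subgroup V) ≠ ⊥ := P.ne_bot_of_dvd_card hrd
  have hPG' : IsPGroup r PG := P.isPGroup'.map _
  haveI : Nontrivial PG := (Subgroup.nontrivial_iff_ne_bot _).2 fun e =>
    hPne ((Subgroup.map_eq_bot_iff_of_injective _ V.subtype_injective).1 e)
  have hZne : Z ≠ ⊥ := fun e => (Subgroup.nontrivial_iff_ne_bot _).1 hPG'.center_nontrivial
    ((Subgroup.map_eq_bot_iff_of_injective _ PG.subtype_injective).1 e)
  have hZV : Z ≤ V := (Subgroup.map_subtype_le _).trans (Subgroup.map_subtype_le _)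
  have hfin := (h.mono hEA).mono_right hZV (hP.trans (normalizer_le_normalizer_map_subtype PG _))
  exact false_of_pq_abelian hfin hZne hp hq (le_sup_right (a := Subgroup.zpowers b) (Subgroup.mem_zpowers a))
    (le_sup_left (b := Subgroup.zpowers a) (Subgroup.mem_zpowers b)) hao hnorm hba hord

/-- Two commuting elements of the same prime order generate the same subgroup. -/
theorem mem_zpowers_of_commute [Finite G] (h : IsFPF A V) (hV : V ≠ ⊥) {p : ℕ} (hp : p.Prime)
    {a b : G} (ha : a ∈ A) (hb : b ∈ A) (hao : orderOf a = p) (hbp : b ^ p = 1)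
    (hc : a * b = b * a) : b ∈ Subgroup.zpowers a := by
  by_contra hba
  obtain ⟨v, hv, hv1⟩ := (Subgroup.bot_or_exists_ne_one V).resolve_left hV
  have hcomm : ∀ x ∈ Subgroup.zpowers a, b * x = x * b := by
    intro x hx
    obtain ⟨k, rfl⟩ := Subgroup.mem_zpowers_iff.1 hx
    exact ((Commute.symm hc).zpow_right k).eq
  have hnorm : b ∈ Subgroup.normalizer (Subgroup.zpowers a : Set G) := by
    refine Subgroup.mem_normalizer_iff.2 fun x => ⟨fun hx => ?_, fun hx => ?_⟩
    · rw [hcomm x hx, mul_inv_cancel_right]; exact hx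
    · have h' := hcomm _ hx
      have : x = b * x * b⁻¹ := by
        have h2 : b * x * b⁻¹ * b = b * x := by group
        calc x = b⁻¹ * (b * x * b⁻¹ * b) := by group
          _ = b⁻¹ * (b * (b * x * b⁻¹)) := by rw [h']
          _ = b * x * b⁻¹ := by group
      rw [this]; exact hx
  have hord : ∀ i : ℕ, orderOf (a ^ i * b) = p := by
    intro i
    have h1 : (a ^ i * b) ^ p = 1 := by
      rw [((Commute.pow_left hc i) : Commute (a ^ i) b).mul_pow, ← pow_mul, mul_comm, pow_mul,
        ← hao, pow_orderOf_eq_one, hao, hbp, one_pow, one_mul]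
    refine ((Nat.dvd_prime hp).1 (orderOf_dvd_of_pow_eq_one h1)).resolve_left fun e => hba ?_
    rw [orderOf_eq_one_iff] at e
    rw [eq_inv_of_mul_eq_one_right e]
    exact inv_mem (pow_mem (Subgroup.mem_zpowers a) i)
  -- pass to an invariant abelian subgroup of `V`
  set E := Subgroup.closure ({a, b} : Set G) with hE
  have haE : a ∈ E := Subgroup.subset_closure (by simp)
  have hbE : b ∈ E := Subgroup.subset_closure (by simp)
  have hEA : E ≤ A := (Subgroup.closure_le _).2 (by
    rintro x (rfl | rfl) <;> assumption)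
  haveI : IsMulCommutative E := Subgroup.isMulCommutative_closure (by
    rintro x (rfl | rfl) y (rfl | rfl) <;> first | rfl | exact hc | exact hc.symm)
  have hsolv : Group.IsSolvable E :=
    Group.isSolvable_of_comm fun x y => (inferInstance : IsMulCommutative E).is_comm.comm x y
  obtain ⟨r, hr, hrd⟩ := Nat.exists_prime_and_dvd
    (fun e => hV (V.eq_bot_of_card_eq e))
  haveI := Fact.mk hr
  obtain ⟨P, hP⟩ := CfsgLib.Coprime.exists_invariant_sylow (p := r) (h.mono hEA).1
    (h.mono hEA).coprime (Or.inl hsolv)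
  set PG := (P : Subgroup V).map V.subtype with hPG
  set Z := (Subgroup.center PG).map PG.subtype with hZ
  haveI : IsMulCommutative Z :=
    ⟨⟨by
      rintro ⟨_, x, hx, rfl⟩ ⟨_, y, _, rfl⟩
      exact Subtype.ext (congrArg Subtype.val (Subgroup.mem_center_iff.1 hx y)).symm⟩⟩
  have hPne : (P : Subgroup V) ≠ ⊥ := P.ne_bot_of_dvd_card hrd
  have hPG' : IsPGroup r PG := P.isPGroup'.map _
  haveI : Nontrivial PG := (Subgroup.nontrivial_iff_ne_bot _).2 fun e =>
    hPne ((Subgroup.map_eq_bot_iff_of_injective _ V.subtype_injective).1 e)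
  have hZne : Z ≠ ⊥ := fun e => (Subgroup.nontrivial_iff_ne_bot _).1 hPG'.center_nontrivial
    ((Subgroup.map_eq_bot_iff_of_injective _ PG.subtype_injective).1 e)
  have hZV : Z ≤ V := (Subgroup.map_subtype_le _).trans (Subgroup.map_subtype_le _)
  exact false_of_pq_abelian ((h.mono hEA).mono_right hZV
    (hP.trans (normalizer_le_normalizer_map_subtype PG _))) hZne hp hp haE hbE hao hnorm hba hord

/-- Sylow subgroups of a fixed-point-free group are cyclic or generalised quaternion. -/
theorem isCyclic_or_quaternion [Finite G] (h : IsFPF A V) (hV : V ≠ ⊥) {p : ℕ} [hp : Fact p.Prime]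
    (P : Subgroup A) (hP : IsPGroup p P) :
    IsCyclic P ∨ (p = 2 ∧ ∃ n : ℕ, 1 ≤ n ∧ Nonempty (P ≃* QuaternionGroup (2 ^ n))) := by
  rcases subsingleton_or_nontrivial P with hs | hs
  · exact Or.inl inferInstance
  obtain ⟨z, hz, hz1⟩ := (Subgroup.bot_or_exists_ne_one (Subgroup.center P)).resolve_left
    ((Subgroup.nontrivial_iff_ne_bot _).1 hP.center_nontrivial)
  obtain ⟨n, hn⟩ := IsPGroup.iff_orderOf.1 hP z
  have hn0 : n ≠ 0 := by
    rintro rfl
    rw [pow_zero, orderOf_eq_one_iff] at hn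
    exact hz1 hn
  set z₀ := z ^ p ^ (n - 1) with hz₀
  have hz₀o : orderOf z₀ = p := by
    rw [hz₀, orderOf_pow' _ (pow_ne_zero _ hp.out.ne_zero), hn,
      Nat.gcd_eq_right (pow_dvd_pow p (Nat.sub_le n 1)), Nat.pow_div (Nat.sub_le n 1) hp.out.pos,
      show n - (n - 1) = 1 by omega, pow_one]
  refine CfsgLib.PGroups.isCyclic_or_quaternion_of_unique hP (z := z₀)
    (by rw [← hz₀o]; exact pow_orderOf_eq_one _) fun y hy => ?_
  have hzc : z₀ ∈ Subgroup.center P := pow_mem hz _
  have hcy : ((z₀ : A) : G) * ((y : A) : G) = ((y : A) : G) * ((z₀ : A) : G) :=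
    (congrArg (fun w : P => ((w : A) : G)) (Subgroup.mem_center_iff.1 hzc y)).symm
  have hm := mem_zpowers_of_commute h hV hp.out (z₀ : A).2 (y : A).2
    (by rw [Subgroup.orderOf_coe, Subgroup.orderOf_coe, hz₀o])
    (by rw [← SubmonoidClass.coe_pow, ← SubmonoidClass.coe_pow, hy]; simp) hcy
  obtain ⟨k, hk⟩ := Subgroup.mem_zpowers_iff.1 hm
  exact Subgroup.mem_zpowers_iff.2 ⟨k, Subtype.ext (Subtype.ext (by simpa using hk))⟩

/-- An abelian fixed-point-free group is cyclic. -/
theorem isCyclic_of_comm [Finite G] (h : IsFPF A V) (hV : V ≠ ⊥) [hA : IsMulCommutative A] :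
    IsCyclic A := by
  have hz : IsZGroup A := ⟨fun p hp P => by
    haveI := Fact.mk hp
    refine (isCyclic_or_quaternion h hV (P : Subgroup A) P.isPGroup').resolve_right ?_
    rintro ⟨-, n, hn1, ⟨e⟩⟩
    haveI : NeZero (2 ^ n) := ⟨pow_ne_zero n two_ne_zero⟩
    have hc : QuaternionGroup.a (1 : ZMod (2 * 2 ^ n)) * QuaternionGroup.xa 0 =
        QuaternionGroup.xa 0 * QuaternionGroup.a 1 := by
      refine e.symm.injective ?_
      rw [map_mul, map_mul]
      exact Subtype.ext (hA.is_comm.comm _ _)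
    simp only [QuaternionGroup.a_mul_xa, QuaternionGroup.xa_mul_a, QuaternionGroup.xa.injEq] at hc
    have h2 : ((2 : ℕ) : ZMod (2 * 2 ^ n)) = 0 := by
      push_cast
      linear_combination -hc
    rw [ZMod.natCast_eq_zero_iff] at h2
    have hle := Nat.le_of_dvd (by norm_num) h2
    have : 2 ≤ 2 ^ n := Nat.le_self_pow (by omega) 2
    omega⟩
  letI : CommGroup A :=
    { (inferInstance : Group A) with mul_comm := fun x y => hA.is_comm.comm x y }
  exact IsCyclic.iff_exponent_eq_card.2 (IsZGroup.exponent_eq_card A)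

/-- An involution acting without fixed points inverts. -/
theorem conj_eq_inv [Finite G] (h : IsFPF A V) {t : G} (ht : t ∈ A) (ht1 : t ≠ 1)
    (ht2 : t * t = 1) {v : G} (hv : v ∈ V) : t * v * t⁻¹ = v⁻¹ := by
  let f : V → V := fun w => ⟨(w : G)⁻¹ * (t * w * t⁻¹), V.mul_mem (V.inv_mem w.2) (h.conj_mem ht w.2)⟩
  have hf : Function.Injective f := by
    intro x y hxy
    have he : (x : G)⁻¹ * (t * x * t⁻¹) = (y : G)⁻¹ * (t * y * t⁻¹) := congrArg Subtype.val hxy
    have := h.eq_one_of_commute ht ht1 (V.mul_mem y.2 (V.inv_mem x.2)) (by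
      have h2 : (y : G) * (x : G)⁻¹ = t * (y * (x : G)⁻¹) * t⁻¹ := by
        calc (y : G) * (x : G)⁻¹
            = y * ((x : G)⁻¹ * (t * x * t⁻¹)) * (t * (x : G)⁻¹ * t⁻¹) := by group
          _ = y * ((y : G)⁻¹ * (t * y * t⁻¹)) * (t * (x : G)⁻¹ * t⁻¹) := by rw [he]
          _ = t * (y * (x : G)⁻¹) * t⁻¹ := by group
      conv_rhs => rw [h2]
      group)
    exact Subtype.ext (mul_inv_eq_one.1 this).symm
  obtain ⟨w, hw⟩ := (Finite.injective_iff_surjective.1 hf) ⟨v, hv⟩
  rw [← show (w : G)⁻¹ * (t * w * t⁻¹) = v from congrArg Subtype.val hw]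
  have hti : t⁻¹ = t := inv_eq_of_mul_eq_one_left ht2
  calc t * ((w : G)⁻¹ * (t * w * t⁻¹)) * t⁻¹ = t * (w : G)⁻¹ * t * w * (t⁻¹ * t⁻¹) := by group
    _ = t * (w : G)⁻¹ * t * w := by rw [hti, ht2, mul_one]
    _ = ((w : G)⁻¹ * (t * w * t⁻¹))⁻¹ := by rw [mul_inv_rev, hti]; group; simp [hti]

theorem involution_unique [Finite G] (h : IsFPF A V) (hV : V ≠ ⊥) {s t : G} (hs : s ∈ A)
    (hs1 : s ≠ 1) (hs2 : s * s = 1) (ht : t ∈ A) (ht1 : t ≠ 1) (ht2 : t * t = 1) : s = t := by
  obtain ⟨v, hv, hv1⟩ := (Subgroup.bot_or_exists_ne_one V).resolve_left hV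
  by_contra hne
  refine hv1 (h.eq_one_of_commute (A.mul_mem (A.inv_mem hs) ht)
    (fun e => hne (inv_mul_eq_one.1 e)) hv ?_)
  have h1 := h.conj_eq_inv hs hs1 hs2 hv
  have h2 := h.conj_eq_inv ht ht1 ht2 hv
  calc s⁻¹ * t * v = s⁻¹ * (t * v * t⁻¹) * t := by group
    _ = s⁻¹ * (s * v * s⁻¹) * t := by rw [h2, h1]
    _ = v * (s⁻¹ * t) := by group

/-- A nontrivial fixed-point-free group has nontrivial centre. -/
theorem center_ne_bot [Finite G] (h : IsFPF A V) (hV : V ≠ ⊥) (hA : A ≠ ⊥) :
    Subgroup.center A ≠ ⊥ := by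
  haveI : Nontrivial A := (Subgroup.nontrivial_iff_ne_bot A).2 hA
  suffices hex : ∃ z : A, z ≠ 1 ∧ ∀ x : A, x * z = z * x by
    obtain ⟨z, hz, hzc⟩ := hex
    exact fun e => hz (Subgroup.mem_bot.1 (e ▸ Subgroup.mem_center_iff.2 hzc))
  by_cases heven : 2 ∣ Nat.card A
  · haveI := Fact.mk Nat.prime_two
    obtain ⟨t, ht⟩ := exists_prime_orderOf_dvd_card' 2 heven
    have key : ∀ s : A, orderOf s = 2 → (s : G) ≠ 1 ∧ (s : G) * s = 1 := fun s hs =>
      ⟨fun e => by rw [show s = 1 from Subtype.ext e, orderOf_one] at hs; omega, by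
        rw [← pow_two, ← hs, ← Subgroup.orderOf_coe]; exact pow_orderOf_eq_one _⟩
    obtain ⟨ht1, ht2⟩ := key t ht
    refine ⟨t, fun e => ht1 (by rw [e]; rfl), fun x => ?_⟩
    have ho : orderOf (x * t * x⁻¹) = 2 := by
      rw [← ht]; exact MulEquiv.orderOf_eq (MulAut.conj x) t
    obtain ⟨h1, h2⟩ := key _ ho
    have := involution_unique h hV (x * t * x⁻¹).2 h1 h2 t.2 ht1 ht2
    exact mul_inv_eq_iff_eq_mul.1 (Subtype.ext this)
  -- all Sylow subgroups are cyclic
  haveI : IsZGroup A := ⟨fun p hp P => by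
    haveI := Fact.mk hp
    refine (isCyclic_or_quaternion h hV (P : Subgroup A) P.isPGroup').resolve_right ?_
    rintro ⟨-, n, -, ⟨e⟩⟩
    haveI : NeZero (2 ^ n) := ⟨pow_ne_zero n two_ne_zero⟩
    refine heven (dvd_trans ?_ (Subgroup.card_subgroup_dvd_card (P : Subgroup A)))
    rw [Nat.card_congr e.toEquiv, Nat.card_eq_fintype_card, QuaternionGroup.card]
    exact Dvd.intro _ (by ring : 2 * (2 * 2 ^ n) = 4 * 2 ^ n)⟩
  haveI := IsZGroup.isCyclic_commutator (G := A)
  have hcop : (Nat.card (commutator A)).Coprime (commutator A).index :=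
    IsZGroup.coprime_commutator_index A
  obtain ⟨B, hB⟩ := Subgroup.exists_right_complement'_of_coprime hcop
  have hBcomm : ∀ x ∈ B, ∀ y ∈ B, x * y = y * x := by
    intro x hx y hy
    have hd : x⁻¹ * y⁻¹ * x * y ∈ commutator A := by
      rw [← QuotientGroup.eq_one_iff]
      have := (Abelianization.commGroup A).mul_comm
      show Abelianization.of (x⁻¹ * y⁻¹ * x * y) = 1
      simp only [map_mul, map_inv]
      rw [mul_comm (Abelianization.of x)⁻¹, mul_assoc (Abelianization.of y)⁻¹,
        inv_mul_cancel, mul_one, inv_mul_cancel]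
    have hd1 := Subgroup.mem_bot.1 (hB.disjoint.le_bot
      ⟨hd, B.mul_mem (B.mul_mem (B.mul_mem (B.inv_mem hx) (B.inv_mem hy)) hx) hy⟩)
    calc x * y = y * x * (x⁻¹ * y⁻¹ * x * y) := by group
      _ = y * x := by rw [hd1, mul_one]
  have hBne : B ≠ ⊥ := fun e => (IsZGroup.commutator_lt (G := A)).ne (by
    have := hB.sup_eq_top
    rwa [e, sup_bot_eq] at this)
  obtain ⟨r, hr, hrd⟩ := Nat.exists_prime_and_dvd (fun e => hBne (B.eq_bot_of_card_eq e))
  haveI := Fact.mk hr
  obtain ⟨b', hb'⟩ := exists_prime_orderOf_dvd_card' r hrd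
  set b : A := (b' : A) with hbdef
  have hbo : orderOf b = r := by rw [hbdef, Subgroup.orderOf_coe, hb']
  refine ⟨b, fun e => hr.one_lt.ne (by rw [← hbo, e, orderOf_one]), ?_⟩
  -- `b` centralises the commutator subgroup
  haveI hcycc : IsMulCommutative (commutator A) :=
    ⟨⟨fun x y => by
      obtain ⟨g, hg⟩ := IsCyclic.exists_generator (α := commutator A)
      obtain ⟨i, rfl⟩ := Subgroup.mem_zpowers_iff.1 (hg x)
      obtain ⟨j, rfl⟩ := Subgroup.mem_zpowers_iff.1 (hg y)
      exact (Commute.zpow_zpow_self g i j).eq⟩⟩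
  have hbC : Subgroup.zpowers b ≤ Subgroup.centralizer ((commutator A : Subgroup A) : Set A) := by
    have hn : Subgroup.zpowers b ≤ Subgroup.normalizer ((commutator A : Subgroup A) : Set A) :=
      Subgroup.le_normalizer_of_normal
    have hc : (Nat.card (Subgroup.zpowers b)).Coprime (Nat.card (commutator A)) := by
      rw [Nat.card_zpowers, hbo, hr.coprime_iff_not_dvd]
      intro hd
      have h1 : r ∣ (commutator A).index := by
        rw [hB.symm.index_eq_card]; exact hrd
      exact hr.one_lt.ne' (Nat.eq_one_of_dvd_coprimes hcop hd h1)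
    have hbot : ⁅commutator A, Subgroup.zpowers b⁆ = ⊥ := by
      by_contra hne
      obtain ⟨q, hq, hqd⟩ := Nat.exists_prime_and_dvd fun e => hne ((Subgroup.eq_bot_of_card_eq _) e)
      haveI := Fact.mk hq
      obtain ⟨w', hw'⟩ := exists_prime_orderOf_dvd_card' q hqd
      have hw : orderOf (w' : A) = q := by rw [Subgroup.orderOf_coe, hw']
      have hwC : (w' : A) ∈ commutator A := Subgroup.commutator_le_left _ _ w'.2
      -- the subgroup generated by `w'` is normal
      have hnw : (b : G) ∈ Subgroup.normalizer (Subgroup.zpowers ((w' : A) : G) : Set G) := by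
        have hc2 : ((Subgroup.zpowers (w' : A))).Normal := by
          have hle : Subgroup.zpowers (w' : A) ≤ commutator A := Subgroup.zpowers_le.2 hwC
          haveI : ((Subgroup.zpowers (w' : A)).subgroupOf (commutator A)).Characteristic := by
            refine Subgroup.characteristic_iff_map_eq.2 fun e => ?_
            haveI : IsCyclic (⊤ : Subgroup (commutator A)) := Subgroup.topEquiv.isCyclic.2 inferInstance
            exact CfsgLib.OddOrder.eq_of_card_eq_of_isCyclic le_top le_top
              (Subgroup.card_map_of_injective e.injective)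
          have := normal_map_subtype ((Subgroup.zpowers (w' : A)).subgroupOf (commutator A))
          rwa [Subgroup.map_subgroupOf_eq_of_le hle] at this
        have := Subgroup.le_normalizer_map A.subtype
          (⟨b, by rw [SetLike.mem_coe, Subgroup.normalizer_eq_top_iff.2 hc2]; trivial, rfl⟩ :
            (b : G) ∈ (Subgroup.normalizer (Subgroup.zpowers (w' : A) : Set A)).map A.subtype)
        rwa [MonoidHom.map_zpowers] at this
      have hcomm := commute_of_prime h hV hq hr (w' : A).2 b.2 (by rw [Subgroup.orderOf_coe, hw])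
        (by rw [Subgroup.orderOf_coe, hbo]) hnw
      have hmem : (w' : A) ∈
          (commutator A ⊓ Subgroup.centralizer ((Subgroup.zpowers b : Subgroup A) : Set A)) ⊓
            ⁅commutator A, Subgroup.zpowers b⁆ := by
        refine ⟨⟨hwC, Subgroup.mem_centralizer_iff.2 fun x hx => ?_⟩, w'.2⟩
        obtain ⟨k, rfl⟩ := Subgroup.mem_zpowers_iff.1 hx
        exact ((show Commute b (w' : A) from Subtype.ext hcomm.symm).zpow_left k).eq
      rw [CfsgLib.Coprime.centralizer_inf_commutator_eq_bot hn hc, Subgroup.mem_bot] at hmem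
      rw [hmem, orderOf_one] at hw
      exact hq.one_lt.ne hw
    exact Subgroup.le_centralizer_iff.1 (Subgroup.commutator_eq_bot_iff_le_centralizer.1 hbot)
  intro x
  obtain ⟨c, hc, d, hd, rfl⟩ : x ∈ ((commutator A : Subgroup A) : Set A) * (B : Set A) := by
    rw [hB.mul_eq]; exact Set.mem_univ x
  have h1 := Subgroup.mem_centralizer_iff.1 (hbC (Subgroup.mem_zpowers b)) c hc
  calc c * d * b = c * (d * b) := mul_assoc c d b
    _ = c * (b * d) := by rw [hBcomm d hd b b'.2]
    _ = b * c * d := by rw [← mul_assoc, h1]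
    _ = b * (c * d) := mul_assoc b c d

end IsFPF

end CfsgLib.Base
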