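import Cfsg.Agent.Lib.Base.Frobenius
import Cfsg.Agent.Lib.Base.FPF
import Cfsg.Agent.Lib.CharsMore.Frobenius

/-!
Any two Frobenius complements of a finite group are conjugate.
-/

set_option autoImplicit false
set_option linter.style.haveILetI false

namespace CfsgLib.Base.Frobenius

open Cfsg
open scoped Pointwise

variable {G : Type*} [Group G] [Finite G]

omit [Finite G] in
theorem subgroupOf_isFrobeniusComplement {H M : Subgroup G} (hH : IsFrobeniusComplement H)
    (hne : H ⊓ M ≠ ⊥) (hle : ¬ M ≤ H) : IsFrobeniusComplement (H.subgroupOf M) := by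
  refine ⟨fun e => hne ?_, fun e => hle (Subgroup.subgroupOf_eq_top.1 e), fun g hg => ?_⟩
  · rw [← disjoint_iff]; exact Subgroup.subgroupOf_eq_bot.1 e
  · rw [Subgroup.eq_bot_iff_forall]
    intro x hxx
    obtain ⟨hx, hx'⟩ := Subgroup.mem_inf.1 hxx
    rw [mem_conj_iff] at hx'
    by_contra hx1
    exact hg (Subgroup.mem_subgroupOf.2 (conj_mem_of_conj_mem hH (x := (x : G)) hx
      (fun e => hx1 (Subtype.ext e)) (by simpa [Subgroup.mem_subgroupOf] using hx')))

/-- Two Frobenius complements have conjugates with nontrivial intersection. -/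
theorem exists_conj_mem {A B : Subgroup G} (hA : IsFrobeniusComplement A)
    (hB : IsFrobeniusComplement B) : ∃ x g : G, x ≠ 1 ∧ x ∈ A ∧ g⁻¹ * x * g ∈ B := by
  by_contra hno
  push Not at hno
  have hsub : ((frobeniusKernel A)ᶜ : Set G) ⊆ frobeniusKernel B \ {1} := by
    intro x hx
    rw [Set.mem_compl_iff, mem_frobeniusKernel_iff] at hx
    push Not at hx
    obtain ⟨hx1, a, ha⟩ := hx
    have hy1 : a⁻¹ * x * a ≠ 1 := fun e => hx1 (by
      simpa [mul_assoc] using congrArg (fun v => a * v * a⁻¹) e)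
    refine ⟨mem_frobeniusKernel_iff.2 (Or.inr fun b hb => ?_), hx1⟩
    exact hno (a⁻¹ * x * a) (a⁻¹ * b) hy1 ha (by simpa [mul_assoc] using hb)
  have h := Set.ncard_le_ncard hsub (Set.toFinite _)
  rw [Set.ncard_sdiff_singleton_of_mem (one_mem_frobeniusKernel B), ← Nat.card_coe_set_eq,
    ← Nat.card_coe_set_eq, card_compl_frobeniusKernel hA, card_frobeniusKernel hB] at h
  have hB2 : 2 ≤ Nat.card B := (Subgroup.one_lt_card_iff_ne_bot B).2 hB.1
  have hA2 : 2 ≤ Nat.card A := (Subgroup.one_lt_card_iff_ne_bot A).2 hA.1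
  have e1 := B.index_mul_card
  have e2 := A.index_mul_card
  have hBpos : 0 < B.index := Nat.pos_of_ne_zero Subgroup.index_ne_zero_of_finite
  obtain ⟨k, hk⟩ : ∃ k, Nat.card A = k + 2 := ⟨Nat.card A - 2, by omega⟩
  rw [hk, show k + 2 - 1 = k + 1 by omega] at h
  rw [hk] at e2
  have h3 : B.index * 2 ≤ Nat.card G := e1 ▸ Nat.mul_le_mul_left _ hB2
  have h4 : A.index * (k + 2) ≤ 2 * (A.index * (k + 1)) := by nlinarith
  omega

/-- The smaller of two Frobenius complements is conjugate into the larger. -/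
theorem exists_conj_le {H H₀ : Subgroup G} (hH : IsFrobeniusComplement H)
    (hH₀ : IsFrobeniusComplement H₀) (hle : Nat.card H₀ ≤ Nat.card H) :
    ∃ g : G, MulAut.conj g • H₀ ≤ H := by
  obtain ⟨x, g, hx1, hx, hgx⟩ := exists_conj_mem hH₀ hH
  set M := MulAut.conj g⁻¹ • H₀ with hM
  have hMc : IsFrobeniusComplement M := isFrobeniusComplement_conj hH₀ _
  have hxM : g⁻¹ * x * g ∈ M := mem_conj_iff.2 (by simpa [mul_assoc] using hx)
  have hy1 : g⁻¹ * x * g ≠ 1 := fun e => hx1 (by
    simpa [mul_assoc] using congrArg (fun v => g * v * g⁻¹) e)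
  by_contra hno
  push Not at hno
  have hnle : ∀ a : G, ¬ M ≤ MulAut.conj a • H := fun a hMa => hno (a⁻¹ * g⁻¹) fun y hy => by
    rw [mem_conj_iff] at hy
    have hm : g⁻¹ * ((a⁻¹ * g⁻¹)⁻¹ * y * (a⁻¹ * g⁻¹)) * g ∈ M :=
      mem_conj_iff.2 (by simpa [mul_assoc] using hy)
    have := mem_conj_iff.1 (hMa hm)
    simpa [mul_assoc] using this
  have hD : IsFrobeniusComplement (H.subgroupOf M) := by
    refine subgroupOf_isFrobeniusComplement hH (fun e => hy1 ?_) ?_
    · exact Subgroup.mem_bot.1 (e.le ⟨hgx, hxM⟩)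
    · simpa using hnle 1
  obtain ⟨k, hk, hk1⟩ : ∃ k : M, k ∈ frobeniusKernel (H.subgroupOf M) ∧ k ≠ 1 := by
    by_contra hall
    push Not at hall
    have hsub : frobeniusKernel (H.subgroupOf M) ⊆ {1} := fun y hy => hall y hy
    have h := Set.ncard_le_ncard hsub (Set.toFinite _)
    rw [Set.ncard_singleton, ← Nat.card_coe_set_eq, card_frobeniusKernel hD] at h
    have := Subgroup.one_lt_index_of_ne_top hD.2.1
    omega
  have hkG : (k : G) ≠ 1 := fun e => hk1 (Subtype.ext e)
  have hkH : (k : G) ∈ frobeniusKernel H := by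
    refine mem_frobeniusKernel_iff.2 (Or.inr fun a ha => ?_)
    have hD' : IsFrobeniusComplement ((MulAut.conj a • H).subgroupOf M) :=
      subgroupOf_isFrobeniusComplement (isFrobeniusComplement_conj hH a)
        (fun e => hkG (Subgroup.mem_bot.1 (e.le ⟨mem_conj_iff.2 ha, k.2⟩))) (hnle a)
    obtain ⟨y, c, hy, hyD, hcy⟩ := exists_conj_mem hD hD'
    have hcy' : a⁻¹ * ((c : G)⁻¹ * y * c) * a ∈ H :=
      mem_conj_iff.1 (by simpa [Subgroup.mem_subgroupOf] using hcy)
    have hca : (c : G) * a ∈ H := conj_mem_of_conj_mem hH (x := (y : G)) hyD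
      (fun e => hy (Subtype.ext e)) (by simpa [mul_assoc] using hcy')
    have hmem : (c : G) * k * (c : G)⁻¹ ∈ H := by
      have := H.mul_mem (H.mul_mem hca ha) (H.inv_mem hca)
      simpa [mul_assoc] using this
    exact (mem_frobeniusKernel_iff.1 hk).resolve_left hk1 c⁻¹ (by
      simpa [Subgroup.mem_subgroupOf] using hmem)
  let f : G ⧸ M → ↥(frobeniusKernel H \ {1} : Set G) := fun q =>
    ⟨q.out * (k : G) * q.out⁻¹, conj_mem_frobeniusKernel hkH _, fun e => hkG (by
      simpa [mul_assoc] using congrArg (fun v => q.out⁻¹ * v * q.out) e)⟩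
  have hf : Function.Injective f := by
    intro c d he
    have he' : c.out * (k : G) * c.out⁻¹ = d.out * k * d.out⁻¹ := congrArg Subtype.val he
    rw [← QuotientGroup.out_eq' c, ← QuotientGroup.out_eq' d, eq_comm, QuotientGroup.eq]
    refine mem_of_conj_mem hMc k.2 hkG ?_
    rw [show d.out⁻¹ * c.out * k * (d.out⁻¹ * c.out)⁻¹ = d.out⁻¹ * (c.out * k * c.out⁻¹) * d.out by
      group, he']
    simp [mul_assoc]
  have h := Nat.card_le_card_of_injective f hf
  rw [← Subgroup.index, Nat.card_coe_set_eq,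
    Set.ncard_sdiff_singleton_of_mem (one_mem_frobeniusKernel H), ← Nat.card_coe_set_eq,
    card_frobeniusKernel hH] at h
  have hcM : Nat.card M = Nat.card H₀ :=
    (Nat.card_congr (Subgroup.equivSMul (MulAut.conj g⁻¹) H₀).toEquiv).symm
  have hidx : H.index ≤ M.index := by
    refine Nat.le_of_mul_le_mul_right ?_ (Nat.card_pos (α := H))
    rw [H.index_mul_card, ← M.index_mul_card, hcM]
    exact Nat.mul_le_mul_left _ hle
  have hpos : 0 < H.index := Nat.pos_of_ne_zero Subgroup.index_ne_zero_of_finite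
  omega

/-- A Frobenius complement acts on the kernel without fixed points. -/
theorem exists_isFPF {H : Subgroup G} (hH : IsFrobeniusComplement H) :
    ∃ N : Subgroup G, (N : Set G) = frobeniusKernel H ∧ N.Normal ∧
      Subgroup.IsComplement' N H ∧ N ≠ ⊥ ∧ IsFPF H N := by
  obtain ⟨N, hN, hn, hc⟩ := CfsgLib.CharsMore.exists_frobenius_kernel_of_complement H hH
  haveI := hn
  have hNne : N ≠ ⊥ := fun e => hH.2.1 (Subgroup.isComplement'_bot_left.1 (e ▸ hc))
  exact ⟨N, hN, hn, hc, hNne, le_top.trans (Subgroup.normalizer_eq_top_iff.2 hn).ge,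
    (isFrobeniusComplement_iff N H hc hNne hH.1).1 hH⟩

/-- Any two Frobenius complements are conjugate. -/
theorem exists_conj_eq {H H₀ : Subgroup G} (hH : IsFrobeniusComplement H)
    (hH₀ : IsFrobeniusComplement H₀) : ∃ g : G, MulAut.conj g • H₀ = H := by
  wlog hle : Nat.card H₀ ≤ Nat.card H generalizing H H₀ with W
  · obtain ⟨g, hg⟩ := W hH₀ hH (le_of_not_ge hle)
    exact ⟨g⁻¹, by rw [← hg, smul_smul, ← map_mul, inv_mul_cancel, map_one, one_smul]⟩
  obtain ⟨g, hg⟩ := exists_conj_le hH hH₀ hle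
  refine ⟨g, le_antisymm hg fun h hh => ?_⟩
  have hM := isFrobeniusComplement_conj hH₀ g
  obtain ⟨N, -, -, -, hNne, hfpf⟩ := exists_isFPF hH
  obtain ⟨z, hz, hz1⟩ := (Subgroup.bot_or_exists_ne_one _).resolve_left
    (hfpf.center_ne_bot hNne hH.1)
  have hzc : ∀ y ∈ H, y * (z : G) = (z : G) * y := fun y hy =>
    congrArg Subtype.val (Subgroup.mem_center_iff.1 hz ⟨y, hy⟩)
  obtain ⟨m, hm, hm1⟩ := (Subgroup.bot_or_exists_ne_one _).resolve_left hM.1
  have hzM : (z : G) ∈ MulAut.conj g • H₀ := mem_of_commute hM hm hm1 (hzc m (hg hm)).symm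
  exact mem_of_commute hM hzM (fun e => hz1 (Subtype.ext e)) (hzc h hh)

end CfsgLib.Base.Frobenius
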