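import Cfsg.Agent.Lib.Base.FPFNilpotent
import Cfsg.Agent.Lib.Base.FrobeniusConj
import Cfsg.Agent.Lib.Transfer.ThompsonComplement

/-!
Thompson's theorem on fixed-point-free automorphisms of prime order, and nilpotency of Frobenius
kernels.
-/

set_option autoImplicit false
set_option linter.style.haveILetI false

universe u

namespace CfsgLib.Base

open Cfsg

variable {G : Type u} [Group G] [Finite G]

/-- A finite group with a fixed-point-free automorphism `φ` with `φ ^ p = 1`, `p` prime, is
nilpotent. -/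
theorem isNilpotent_of_fixedPointFree (φ : MulAut G) (hφ : MonoidHom.FixedPointFree (φ : G → G))
    {p : ℕ} (hp : p.Prime) (hφp : φ ^ p = 1) : Group.IsNilpotent G :=
  FPFAut.isNilpotent_of_criterion
    (fun _ _ _ _ _ Q hq hJ hZ => CfsgLib.Transfer.hasNormalPComplement_of_thompson hq Q hJ hZ)
    φ hφ hp hφp

/-- A group normalised by a nontrivial subgroup acting without fixed points is nilpotent. -/
theorem IsFPF.isNilpotent {A V : Subgroup G} (h : IsFPF A V) (hA : A ≠ ⊥) :
    Group.IsNilpotent V := by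
  obtain ⟨p, hp, hd⟩ := Nat.exists_prime_and_dvd (fun e => hA (A.eq_bot_of_card_eq e))
  haveI := Fact.mk hp
  obtain ⟨a, ha⟩ := exists_prime_orderOf_dvd_card' p hd
  have hne : (a : G) ≠ 1 := fun e => hp.one_lt.ne (by
    rw [← ha, show a = 1 from Subtype.ext e, orderOf_one])
  let ψ : MulAut G := MulAut.conj (a : G)
  have hVi : V.map ψ.toMonoidHom = V := map_conj_eq_self_iff.2 (h.1 a.2)
  refine isNilpotent_of_fixedPointFree (FPFAut.restrict ψ hVi) (fun v hv => Subtype.ext ?_) hp
    (FPFAut.restrict_pow_eq_one hVi ?_)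
  · have he : (a : G) * (v : G) * (a : G)⁻¹ = (v : G) := congrArg Subtype.val hv
    exact h.eq_one_of_commute a.2 hne v.2 (mul_inv_eq_iff_eq_mul.1 he)
  · rw [show ψ = MulAut.conj (a : G) from rfl, ← map_pow, ← SubmonoidClass.coe_pow, ← ha,
      pow_orderOf_eq_one, OneMemClass.coe_one, map_one]

/-- The Frobenius kernel is nilpotent. -/
theorem Frobenius.exists_nilpotent_kernel {H : Subgroup G} (hH : IsFrobeniusComplement H) :
    ∃ N : Subgroup G, (N : Set G) = frobeniusKernel H ∧ N.Normal ∧
      Subgroup.IsComplement' N H ∧ Group.IsNilpotent N := by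
  obtain ⟨N, h1, h2, h3, -, h5⟩ := exists_isFPF hH
  exact ⟨N, h1, h2, h3, h5.isNilpotent hH.1⟩

end CfsgLib.Base
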