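import Mathlib
import Cfsg.Agent.Lib.Base.Transport
import Cfsg.Agent.Lib.PGroups.Basic

/-!
The Burnside basis theorem.
-/

set_option autoImplicit false
set_option linter.style.haveILetI false

namespace CfsgLib.Base

variable {G : Type*} [Group G]

/-- The index grows by a factor dividing `p` when one element is adjoined to `Φ(G) ⊔ ⟨T⟩`. -/
theorem index_frattini_sup_step [Finite G] {p : ℕ} [hp : Fact p.Prime] (hG : IsPGroup p G)
    (K : Subgroup G) (hK : frattini G ≤ K) (x : G) :
    K.relIndex (K ⊔ Subgroup.zpowers x) ∣ p ∧ (x ∉ K → K.relIndex (K ⊔ Subgroup.zpowers x) = p) := by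
  haveI : K.Normal :=
    Subgroup.Normal.of_commutator_le G ((CfsgLib.PGroups.commutator_le_frattini hG).trans hK)
  have h1 : K.relIndex (K ⊔ Subgroup.zpowers x) = orderOf (QuotientGroup.mk' K x) := by
    rw [Subgroup.relIndex_sup_left, ← Nat.card_zpowers, ← MonoidHom.map_zpowers]
    conv_lhs => rw [← QuotientGroup.ker_mk' K]
    exact Subgroup.relIndex_ker _ _
  have h2 : orderOf (QuotientGroup.mk' K x) ∣ p :=
    orderOf_dvd_of_pow_eq_one (by
      rw [← map_pow]
      exact (QuotientGroup.eq_one_iff _).2 (hK (CfsgLib.PGroups.pow_mem_frattini hG x)))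
  refine ⟨h1 ▸ h2, fun hx => h1 ▸ ((Nat.dvd_prime hp.out).1 h2).resolve_left fun h => hx ?_⟩
  exact (QuotientGroup.eq_one_iff x).1 (orderOf_eq_one_iff.1 h)

open Classical in
theorem burnside_basis [Finite G] (p n : ℕ) [hp : Fact p.Prime]
    (hG : IsPGroup p G) (hn : (frattini G).index = p ^ n) :
    (∀ S : Finset G, Subgroup.closure (S : Set G) = ⊤ →
      ∃ T : Finset G, T ⊆ S ∧ T.card = n ∧ Subgroup.closure (T : Set G) = ⊤) ∧
    (∀ T : Finset G, Subgroup.closure (T : Set G) = ⊤ → n ≤ T.card) := by
  let Φ := frattini G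
  have hins : ∀ (a : G) (T : Finset G), Φ ⊔ Subgroup.closure ((insert a T : Finset G) : Set G) =
      (Φ ⊔ Subgroup.closure (T : Set G)) ⊔ Subgroup.zpowers a := fun a T => by
    rw [Finset.coe_insert, Set.insert_eq, Subgroup.closure_union, ← Subgroup.zpowers_eq_closure,
      sup_assoc, sup_comm (Subgroup.zpowers a)]
  have upper : ∀ T : Finset G,
      Φ.relIndex (Φ ⊔ Subgroup.closure (T : Set G)) ∣ p ^ T.card := by
    intro T
    induction T using Finset.induction_on with
    | empty => simp
    | insert a T ha ih =>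
      rw [hins, Finset.card_insert_of_notMem ha,
        ← Subgroup.relIndex_mul_relIndex Φ _ _ le_sup_left le_sup_left, pow_succ]
      exact mul_dvd_mul ih (index_frattini_sup_step hG _ le_sup_left a).1
  refine ⟨fun S hS => ?_, fun T hT => ?_⟩
  · have : ∀ S' : Finset G, S' ⊆ S → ∃ T ⊆ S',
        Φ ⊔ Subgroup.closure (T : Set G) = Φ ⊔ Subgroup.closure (S' : Set G) ∧
        Φ.relIndex (Φ ⊔ Subgroup.closure (T : Set G)) = p ^ T.card := by
      intro S'
      induction S' using Finset.induction_on with
      | empty => exact fun _ => ⟨∅, subset_rfl, rfl, by simp⟩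
      | insert a S' ha ih =>
        intro hsub
        obtain ⟨T, hT, heq, hidx⟩ := ih ((Finset.subset_insert a S').trans hsub)
        by_cases hmem : a ∈ Φ ⊔ Subgroup.closure (T : Set G)
        · refine ⟨T, hT.trans (Finset.subset_insert a S'), ?_, hidx⟩
          rw [hins, ← heq, sup_eq_left.2 (Subgroup.zpowers_le.2 hmem)]
        · have haT : a ∉ T := fun h => ha (hT h)
          refine ⟨insert a T, Finset.insert_subset_insert a hT, by rw [hins, hins, heq], ?_⟩
          rw [hins, Finset.card_insert_of_notMem haT,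
            ← Subgroup.relIndex_mul_relIndex Φ _ _ le_sup_left le_sup_left, hidx, pow_succ,
            (index_frattini_sup_step hG _ le_sup_left a).2 hmem]
    obtain ⟨T, hTS, heq, hidx⟩ := this S subset_rfl
    rw [hS, sup_top_eq] at heq
    rw [heq, Subgroup.relIndex_top_right, hn] at hidx
    exact ⟨T, hTS, (Nat.pow_right_injective hp.out.two_le hidx).symm,
      frattini_nongenerating (by rw [sup_comm]; exact heq)⟩
  · have := upper T
    rw [hT, sup_top_eq, Subgroup.relIndex_top_right, hn] at this
    exact (Nat.pow_dvd_pow_iff_le_right hp.out.one_lt).1 this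

end CfsgLib.Base
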