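import Mathlib
import Cfsg.Agent.Lib.Base.Transport
import Cfsg.Agent.Lib.Base.MinimalNormal

/-!
Core-free maximal subgroups and minimal normal subgroups.
-/

set_option autoImplicit false
set_option linter.style.haveILetI false

namespace CfsgLib.Base.CoreFree

variable {G : Type*} [Group G] {U : Subgroup G}

/-- A normal subgroup inside a core-free subgroup is trivial. -/
theorem eq_bot_of_le (hcore : U.normalCore = ⊥) {N : Subgroup G} [N.Normal] (h : N ≤ U) :
    N = ⊥ :=
  le_bot_iff.1 (hcore ▸ Subgroup.normal_le_normalCore.2 h)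

theorem sup_eq_top (hU : IsCoatom U) (hcore : U.normalCore = ⊥) {N : Subgroup G} [N.Normal]
    (hN : N ≠ ⊥) : U ⊔ N = ⊤ :=
  hU.2 _ (lt_of_le_of_ne le_sup_left fun e => hN (eq_bot_of_le hcore (e ▸ le_sup_right)))

/-- A subgroup normalised by `U` and centralised by a normal supplement is normal. -/
theorem normal_inf (hU : IsCoatom U) (hcore : U.normalCore = ⊥) {N K : Subgroup G} [N.Normal]
    [K.Normal] (hN : N ≠ ⊥) (hNK : N ≤ Subgroup.centralizer (K : Set G)) : K ⊓ U = ⊥ := by
  have hnorm : (⊤ : Subgroup G) ≤ Subgroup.normalizer ((K ⊓ U : Subgroup G) : Set G) := by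
    rw [← sup_eq_top hU hcore hN, sup_le_iff]
    constructor
    · intro u hu
      refine map_conj_eq_self_iff.1 ?_
      rw [Subgroup.map_inf _ _ _ (MulAut.conj u).injective,
        map_conj_eq_self_iff.2 (by rw [Subgroup.normalizer_eq_top_iff.2 ‹K.Normal›]; trivial),
        map_conj_eq_self_iff.2 (Subgroup.le_normalizer hu)]
    · exact (hNK.trans (Subgroup.centralizer_le inf_le_left)).trans
        (Subgroup.centralizer_le_normalizer _)
  haveI := Subgroup.normalizer_eq_top_iff.1 (top_le_iff.1 hnorm)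
  exact eq_bot_of_le hcore inf_le_right

/-- Elements of a normal supplement. -/
theorem exists_mul (hU : IsCoatom U) (hcore : U.normalCore = ⊥) {N : Subgroup G} [N.Normal]
    (hN : N ≠ ⊥) (g : G) : ∃ n ∈ N, ∃ u ∈ U, g = n * u := by
  have h := (sup_eq_top hU hcore hN).ge (Subgroup.mem_top g)
  rw [sup_comm] at h
  obtain ⟨n, hn, u, hu, e⟩ := Subgroup.mem_sup_of_normal_left.1 h
  exact ⟨n, hn, u, hu, e.symm⟩

theorem isComplement' (hU : IsCoatom U) (hcore : U.normalCore = ⊥) {N : Subgroup G} [N.Normal]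
    (hN : N ≠ ⊥) (hNU : N ⊓ U = ⊥) : Subgroup.IsComplement' N U :=
  Subgroup.isComplement'_of_disjoint_and_mul_eq_univ (disjoint_iff.2 hNU)
    (Set.eq_univ_of_forall fun g => by
      obtain ⟨n, hn, u, hu, rfl⟩ := exists_mul hU hcore hN g
      exact ⟨n, hn, u, hu, rfl⟩)

/-- A normal subgroup meeting `U` trivially and containing a nontrivial normal `N` equals `N`. -/
theorem eq_of_inf_eq_bot (hU : IsCoatom U) (hcore : U.normalCore = ⊥) {N K : Subgroup G}
    [N.Normal] (hN : N ≠ ⊥) (hNK : N ≤ K) (hKU : K ⊓ U = ⊥) : K = N := by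
  refine le_antisymm (fun k hk => ?_) hNK
  obtain ⟨n, hn, u, hu, rfl⟩ := exists_mul hU hcore hN k
  have : u ∈ K ⊓ U := ⟨by simpa using K.mul_mem (K.inv_mem (hNK hn)) hk, hu⟩
  rw [hKU, Subgroup.mem_bot] at this
  rwa [this, mul_one]

end CfsgLib.Base.CoreFree
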