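import Mathlib
import Cfsg.Prelude.Def_PLocal
import Cfsg.Agent.Lib.Base.Transport
import Cfsg.Agent.Lib.Base.Fitting
import Cfsg.Agent.Lib.PLocal.Thompson
import Cfsg.Agent.Lib.Base.Nilpotent
import Cfsg.Agent.Lib.Coprime.SchurZassenhaus

/-!
Finite groups with a fixed-point-free automorphism of prime order.
-/

set_option autoImplicit false
set_option linter.style.haveILetI false

universe u

namespace CfsgLib.Base

open Cfsg

variable {G : Type u} [Group G]

namespace FPFAut

/-- Restriction of an automorphism to an invariant subgroup. -/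
noncomputable def restrict (φ : MulAut G) {H : Subgroup G} (hH : H.map φ.toMonoidHom = H) :
    MulAut H :=
  (φ.subgroupMap H).trans (MulEquiv.subgroupCongr hH)

theorem coe_restrict (φ : MulAut G) {H : Subgroup G} (hH : H.map φ.toMonoidHom = H) (x : H) :
    (restrict φ hH x : G) = φ x := rfl

theorem coe_restrict_pow (φ : MulAut G) {H : Subgroup G} (hH : H.map φ.toMonoidHom = H) (x : H)
    (n : ℕ) : ((restrict φ hH ^ n) x : G) = (φ ^ n) x := by
  induction n with
  | zero => rfl
  | succ n ih => rw [pow_succ', pow_succ', MulAut.mul_apply, MulAut.mul_apply, coe_restrict, ih]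

theorem restrict_pow_eq_one {φ : MulAut G} {H : Subgroup G} (hH : H.map φ.toMonoidHom = H) {p : ℕ}
    (hp : φ ^ p = 1) : restrict φ hH ^ p = 1 :=
  MulEquiv.ext fun x => Subtype.ext (by rw [coe_restrict_pow, hp]; rfl)

theorem restrict_fixedPointFree {φ : MulAut G} {H : Subgroup G} (hH : H.map φ.toMonoidHom = H)
    (hφ : MonoidHom.FixedPointFree (φ : G → G)) :
    MonoidHom.FixedPointFree (restrict φ hH : H → H) :=
  fun x hx => Subtype.ext (hφ x (congrArg Subtype.val hx))

theorem map_pow_eq_self {φ : MulAut G} {H : Subgroup G} (hH : H.map φ.toMonoidHom = H) {x : G}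
    (hx : x ∈ H) (n : ℕ) : (φ ^ n) x ∈ H := by
  have := (restrict φ hH ^ n) ⟨x, hx⟩
  have h2 : ((restrict φ hH ^ n) ⟨x, hx⟩ : G) = (φ ^ n) x := coe_restrict_pow φ hH ⟨x, hx⟩ n
  exact h2 ▸ ((restrict φ hH ^ n) ⟨x, hx⟩).2

theorem inv_mul_surjective [Finite G] {φ : MulAut G} (hφ : MonoidHom.FixedPointFree (φ : G → G)) :
    Function.Surjective fun x : G => x⁻¹ * φ x := fun g => by
  obtain ⟨y, hy⟩ := hφ.commutatorMap_surjective g
  refine ⟨y⁻¹, ?_⟩
  simpa [div_eq_mul_inv] using hy

/-- An invariant Sylow subgroup. -/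
theorem exists_invariant_sylow [Finite G] {φ : MulAut G}
    (hφ : MonoidHom.FixedPointFree (φ : G → G)) (q : ℕ) [Fact q.Prime] :
    ∃ Q : Sylow q G, (Q : Subgroup G).map φ.toMonoidHom = Q := by
  obtain ⟨Q⟩ := (inferInstance : Nonempty (Sylow q G))
  obtain ⟨g, hg⟩ := MulAction.exists_smul_eq G Q (Q.mapSurjective (f := φ.toMonoidHom) φ.surjective)
  obtain ⟨x, hx⟩ := inv_mul_surjective hφ g⁻¹
  refine ⟨x • Q, ?_⟩
  have hg' : (Q : Subgroup G).map (MulAut.conj g).toMonoidHom =
      (Q : Subgroup G).map φ.toMonoidHom := congrArg (fun S : Sylow q G => (S : Subgroup G)) hg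
  have hkey : φ x * g = x := by
    have : x⁻¹ * φ x = g⁻¹ := hx
    rw [← inv_inv g, ← this]; group
  show ((Q : Subgroup G).map (MulAut.conj x).toMonoidHom).map φ.toMonoidHom =
    (Q : Subgroup G).map (MulAut.conj x).toMonoidHom
  have hcomp : φ.toMonoidHom.comp (MulAut.conj x).toMonoidHom =
      (MulAut.conj (φ x)).toMonoidHom.comp φ.toMonoidHom := by
    ext y; simp
  rw [Subgroup.map_map, hcomp, ← Subgroup.map_map, ← hg', Subgroup.map_map]
  congr 1
  ext y
  conv_rhs => rw [← hkey]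
  simp [mul_assoc]

theorem eq_one_of_pow_apply_eq {φ : MulAut G} (hφ : MonoidHom.FixedPointFree (φ : G → G)) {p : ℕ}
    (hp : p.Prime) (hφp : φ ^ p = 1) {j : ℕ} (hj : 0 < j) (hjp : j < p) {w : G}
    (hw : (φ ^ j) w = w) : w = 1 := by
  refine hφ w ?_
  have hit : ∀ n : ℕ, ((φ : G → G))^[n] w = (φ ^ n) w := fun n => by
    induction n with
    | zero => rfl
    | succ n ih => rw [Function.iterate_succ_apply', ih, pow_succ', MulAut.mul_apply]
  have h1 : Function.IsPeriodicPt (φ : G → G) j w := (hit j).trans hw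
  have h2 : Function.IsPeriodicPt (φ : G → G) p w := (hit p).trans (by rw [hφp]; rfl)
  have h3 := h1.gcd h2
  rwa [Nat.Coprime.gcd_eq_one ((hp.coprime_iff_not_dvd.2
    (Nat.not_dvd_of_pos_of_lt hj hjp)).symm)] at h3

/-- An invariant subgroup centralises an invariant abelian subgroup of coprime order that it
normalises. -/
theorem commute_of_coprime [Finite G] {φ : MulAut G}
    (hφ : MonoidHom.FixedPointFree (φ : G → G)) {p : ℕ} (hp : p.Prime) (hφp : φ ^ p = 1)
    {S V : Subgroup G} [hV : IsMulCommutative V] (hSV : S ≤ Subgroup.normalizer (V : Set G))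
    (hS : S.map φ.toMonoidHom = S) (hVi : V.map φ.toMonoidHom = V)
    (hcop : (Nat.card S).Coprime (Nat.card V)) {s v : G} (hs : s ∈ S) (hv : v ∈ V) :
    s * v = v * s := by
  classical
  haveI := Fintype.ofFinite G
  letI : CommGroup V :=
    { (inferInstance : Group V) with mul_comm := fun a b => hV.is_comm.comm a b }
  let ψ : MulAut V := restrict φ hVi
  have hψ := restrict_fixedPointFree hVi hφ
  have hψp := restrict_pow_eq_one hVi hφp
  let α : S →* MulAut V :=
    { toFun := fun x => restrict (MulAut.conj (x : G)) (map_conj_eq_self_iff.2 (hSV x.2))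
      map_one' := MulEquiv.ext fun w => Subtype.ext (by simp [coe_restrict])
      map_mul' := fun a b => MulEquiv.ext fun w => Subtype.ext (by
        simp [coe_restrict, MulAut.mul_apply, mul_assoc]) }
  have hα : ∀ (x : S) (w : V), (α x w : G) = (x : G) * w * (x : G)⁻¹ := fun x w => rfl
  have hzero : ∀ w : V, ∏ j ∈ Finset.range p, (ψ ^ j) w = 1 := by
    intro w
    refine hψ _ ?_
    rw [map_prod]
    have h2 : ∏ j ∈ Finset.range p, ψ ((ψ ^ j) w) = ∏ j ∈ Finset.range p, (ψ ^ (j + 1)) w :=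
      Finset.prod_congr rfl fun j _ => by rw [pow_succ', MulAut.mul_apply]
    rw [h2]
    have h3 := Finset.prod_range_succ' (fun j => (ψ ^ j) w) p
    rw [Finset.prod_range_succ] at h3
    simp only [pow_zero, show ψ ^ p = 1 from hψp, MulAut.one_apply] at h3
    exact (mul_right_cancel h3).symm
  let σ : ℕ → S → S := fun j x => x⁻¹ * (restrict φ hS ^ j) x
  have hσ : ∀ (j : ℕ) (x : S) (w : V),
      α x⁻¹ ((ψ ^ j) (α x w)) = α (σ j x) ((ψ ^ j) w) := fun j x w => Subtype.ext (by
    simp only [ψ]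
    rw [hα, hα (σ j x), coe_restrict_pow, coe_restrict_pow, hα]
    simp only [σ, Subgroup.coe_mul, Subgroup.coe_inv, coe_restrict_pow, map_mul, map_inv]
    group)
  have hsum : ∏ j ∈ Finset.range p, ∏ x : S, α (σ j x) ((ψ ^ j) ⟨v, hv⟩) = 1 := by
    rw [Finset.prod_comm]
    refine Finset.prod_eq_one fun x _ => ?_
    rw [← Finset.prod_congr rfl (fun j _ => hσ j x ⟨v, hv⟩), ← map_prod, hzero, map_one]
  set T : V → V := fun w => ∏ x : S, α x w with hT
  have hfix : ∀ (t : S) (w : V), α t (T w) = T w := fun t w => by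
    simp only [hT, map_prod, ← MulAut.mul_apply, ← map_mul]
    exact Fintype.prod_equiv (Equiv.mulLeft t) _ _ fun x => rfl
  have hcol : ∀ j ∈ (Finset.range p).erase 0,
      ∏ x : S, α (σ j x) ((ψ ^ j) ⟨v, hv⟩) = T ((ψ ^ j) ⟨v, hv⟩) := fun j hj => by
    obtain ⟨hj0, hjp⟩ := Finset.mem_erase.1 hj
    have hb : Function.Bijective (σ j) := by
      refine Finite.injective_iff_bijective.1 fun a b hab => ?_
      have h1 : (restrict φ hS ^ j) (a * b⁻¹) = a * b⁻¹ := by
        have h2 : (restrict φ hS ^ j) a = a * (σ j a) := by simp [σ]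
        rw [map_mul, map_inv, h2, hab]
        simp [σ, mul_assoc]
      exact mul_inv_eq_one.1 (eq_one_of_pow_apply_eq (restrict_fixedPointFree hS hφ) hp
        (restrict_pow_eq_one hS hφp) (Nat.pos_of_ne_zero hj0) (Finset.mem_range.1 hjp) h1)
    exact Fintype.prod_bijective (σ j) hb _ _ fun x => rfl
  rw [← Finset.mul_prod_erase _ _ (Finset.mem_range.2 hp.pos), Finset.prod_congr rfl hcol] at hsum
  have h0 : ∀ x : S, σ 0 x = 1 := fun x => by simp [σ]
  simp only [h0, map_one, pow_zero, MulAut.one_apply, Finset.prod_const, Finset.card_univ] at hsum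
  set t : S := ⟨s, hs⟩
  have hpowfix : α t ((⟨v, hv⟩ : V) ^ Fintype.card S) = (⟨v, hv⟩ : V) ^ Fintype.card S := by
    rw [eq_inv_of_mul_eq_one_left hsum, map_inv, map_prod]
    simp only [hfix]
  rw [map_pow] at hpowfix
  have hinj : Function.Injective fun w : V => w ^ Fintype.card S := by
    rw [← Nat.card_eq_fintype_card]
    exact (powCoprime (hcop.symm)).injective
  have := congrArg Subtype.val (hinj hpowfix)
  rw [hα] at this
  exact mul_inv_eq_iff_eq_mul.1 this

theorem map_centralizer_eq {φ : MulAut G} {H : Subgroup G} (hH : H.map φ.toMonoidHom = H) :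
    (Subgroup.centralizer (H : Set G)).map φ.toMonoidHom = Subgroup.centralizer (H : Set G) := by
  rw [map_centralizer_mulEquiv]
  conv_rhs => rw [← hH, Subgroup.coe_map]
  rfl

theorem map_normalizer_eq {φ : MulAut G} {H : Subgroup G} (hH : H.map φ.toMonoidHom = H) :
    (Subgroup.normalizer (H : Set G)).map φ.toMonoidHom = Subgroup.normalizer (H : Set G) := by
  rw [Subgroup.map_normalizer_eq_of_bijective _ φ.bijective, hH]

/-- A nontrivial abelian invariant normal subgroup forces a nontrivial centre. -/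
theorem center_ne_bot_of_abelian [Finite G] {φ : MulAut G}
    (hφ : MonoidHom.FixedPointFree (φ : G → G)) {p : ℕ} (hp : p.Prime) (hφp : φ ^ p = 1)
    {N : Subgroup G} [hN : N.Normal] [IsMulCommutative N] (hNi : N.map φ.toMonoidHom = N)
    (hne : N ≠ ⊥) : Subgroup.center G ≠ ⊥ := by
  obtain ⟨r, hr, hrd⟩ := Nat.exists_prime_and_dvd (fun e => hne (N.eq_bot_of_card_eq e))
  haveI := Fact.mk hr
  set V := omegaOne r N with hV
  have hVN : V ≤ N := CfsgLib.PLocal.omegaOne_le r N
  have hea : IsElementaryAbelian r V :=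
    CfsgLib.PLocal.isElementaryAbelian_omegaOne N.le_centralizer
  haveI := hea.1
  have hVi : V.map φ.toMonoidHom = V := by
    rw [hV, CfsgLib.PLocal.map_omegaOne φ.injective, hNi]
  haveI hVn : V.Normal := normal_of_map_conj_le fun g => by
    rw [hV, CfsgLib.PLocal.map_omegaOne (MulAut.conj g).injective,
      map_conj_eq_self_iff.2 (by rw [Subgroup.normalizer_eq_top_iff.2 hN]; trivial)]
  have hVne : V ≠ ⊥ := by
    obtain ⟨x, hx⟩ := exists_prime_orderOf_dvd_card' r hrd
    intro e
    have : (x : G) ∈ V := CfsgLib.PLocal.mem_omegaOne x.2 (by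
      rw [← hx, ← Subgroup.orderOf_coe]; exact pow_orderOf_eq_one _)
    rw [e, Subgroup.mem_bot] at this
    rw [show x = 1 from Subtype.ext this, orderOf_one] at hx
    exact hr.one_lt.ne hx
  have hVp : IsPGroup r V := CfsgLib.PLocal.isPGroup_of_isElementaryAbelian hea
  choose Q hQ using fun q : Nat.Primes =>
    haveI := Fact.mk q.2; exists_invariant_sylow hφ (q : ℕ)
  set R : Sylow r G := Q ⟨r, hr⟩ with hR
  have hVR : V ≤ (R : Subgroup G) := by
    obtain ⟨P', hP'⟩ := hVp.exists_le_sylow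
    obtain ⟨g, hg⟩ := MulAction.exists_smul_eq G P' R
    intro x hx
    rw [← hg]
    refine ⟨g⁻¹ * x * g, hP' (by simpa using hVn.conj_mem x hx g⁻¹), ?_⟩
    simp [mul_assoc]
  have hRp : IsPGroup r (R : Subgroup G) := R.isPGroup'
  haveI := hRp.isNilpotent
  have hne' : V.subgroupOf (R : Subgroup G) ≠ ⊥ := fun e =>
    hVne (by rwa [Subgroup.subgroupOf_eq_bot, disjoint_iff, inf_eq_left.2 hVR] at e)
  obtain ⟨z, hz, hz1⟩ := (Subgroup.bot_or_exists_ne_one _).resolve_left
    (inf_center_ne_bot_of_isNilpotent hne')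
  suffices h : ⊤ ≤ Subgroup.centralizer {((z : (R : Subgroup G)) : G)} by
    refine fun e => hz1 (Subtype.ext (Subgroup.mem_bot.1 (e.le ?_)))
    exact Subgroup.mem_center_iff.2 fun g =>
      (Subgroup.mem_centralizer_iff.1 (h (Subgroup.mem_top g)) _ rfl).symm
  rw [← iSup_sylow_eq_top Q]
  refine iSup_le fun q x hx => Subgroup.mem_centralizer_iff.2 ?_
  rintro _ rfl
  by_cases hq : q = ⟨r, hr⟩
  · subst hq
    exact (congrArg Subtype.val (Subgroup.mem_center_iff.1 hz.2 ⟨x, hx⟩)).symm
  · refine (commute_of_coprime hφ hp hφp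
      (le_top.trans (Subgroup.normalizer_eq_top_iff.2 hVn).ge) (hQ q) hVi ?_ hx
      (Subgroup.mem_subgroupOf.1 hz.1)).symm
    haveI := Fact.mk q.2
    obtain ⟨m, hm⟩ := IsPGroup.iff_card.1 (Q q).isPGroup'
    obtain ⟨k, hk⟩ := IsPGroup.iff_card.1 hVp
    rw [hm, hk]
    exact ((Nat.coprime_primes q.2 hr).2 fun e => hq (Subtype.ext e)).pow m k

/-- Nilpotency, granted a nontrivial invariant abelian normal subgroup in every group at hand. -/
theorem isNilpotent_of_exists_abelian
    (h : ∀ (H : Type u) [Group H] [Finite H] (φ : MulAut H) (p : ℕ), Nontrivial H →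
      MonoidHom.FixedPointFree (φ : H → H) → p.Prime → φ ^ p = 1 →
      (∀ (K : Type u) [Group K] [Finite K] (ψ : MulAut K), Nat.card K < Nat.card H →
        MonoidHom.FixedPointFree (ψ : K → K) → ψ ^ p = 1 → Group.IsNilpotent K) →
      ∃ N : Subgroup H, N.Normal ∧ IsMulCommutative N ∧ N.map φ.toMonoidHom = N ∧ N ≠ ⊥)
    (n : ℕ) : ∀ (H : Type u) [Group H] [Finite H] (φ : MulAut H) (p : ℕ), Nat.card H = n →
      MonoidHom.FixedPointFree (φ : H → H) → p.Prime → φ ^ p = 1 → Group.IsNilpotent H := by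
  induction n using Nat.strong_induction_on with
  | _ n ih =>
  intro H _ _ φ p hn hφ hp hφp
  subst hn
  rcases subsingleton_or_nontrivial H with hs | hs
  · infer_instance
  have ih' : ∀ (K : Type u) [Group K] [Finite K] (ψ : MulAut K), Nat.card K < Nat.card H →
      MonoidHom.FixedPointFree (ψ : K → K) → ψ ^ p = 1 → Group.IsNilpotent K :=
    fun K _ _ ψ hlt h1 h2 => ih _ hlt K ψ p rfl h1 hp h2
  obtain ⟨N, hN, hNc, hNi, hNne⟩ := h H φ p hs hφ hp hφp ih'
  haveI := hN
  haveI := hNc
  have hZ := center_ne_bot_of_abelian hφ hp hφp hNi hNne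
  set Z := Subgroup.center H with hZdef
  let ψ : MulAut (H ⧸ Z) := QuotientGroup.congr Z Z φ
    (Subgroup.characteristic_iff_map_eq.1 inferInstance φ)
  have hψ : ∀ x : H, ψ (x : H ⧸ Z) = ((φ x : H) : H ⧸ Z) := fun x => rfl
  refine Group.of_quotient_center_nilpotent (ih' _ ψ (CfsgLib.Coprime.card_quotient_lt hZ) ?_ ?_)
  · have hsurj : Function.Surjective fun y : H ⧸ Z => y⁻¹ * ψ y := fun y => by
      obtain ⟨g, rfl⟩ := QuotientGroup.mk_surjective y
      obtain ⟨x, hx⟩ := inv_mul_surjective hφ g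
      exact ⟨(x : H ⧸ Z), by
        show (x : H ⧸ Z)⁻¹ * ψ x = g
        rw [hψ, ← hx]
        rfl⟩
    intro y hy
    refine Finite.injective_iff_surjective.2 hsurj ?_
    show y⁻¹ * ψ y = 1⁻¹ * ψ 1
    rw [hy, map_one, inv_mul_cancel, inv_one, one_mul]
  · have hpow : ∀ (k : ℕ) (x : H), (ψ ^ k) (x : H ⧸ Z) = (((φ ^ k) x : H) : H ⧸ Z) := by
      intro k
      induction k with
      | zero => intro x; rfl
      | succ k ihk =>
        intro x
        rw [pow_succ', pow_succ', MulAut.mul_apply, MulAut.mul_apply, ihk, hψ]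
    ext y
    obtain ⟨x, rfl⟩ := QuotientGroup.mk_surjective y
    rw [hpow, hφp]
    rfl

end FPFAut

end CfsgLib.Base
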