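import Cfsg.Agent.Lib.Base.FPFAut
import Cfsg.Agent.Lib.Transfer.Control

/-!
Nilpotency of a group with a fixed-point-free automorphism of prime order, from the normal
`p`-complement criterion by the Thompson subgroup.
-/

set_option autoImplicit false
set_option linter.style.haveILetI false

universe u

namespace CfsgLib.Base.FPFAut

open Cfsg

variable {G : Type u} [Group G]

theorem inf_centralizer_ne_bot [Finite G] {q : ℕ} [Fact q.Prime] {A : Subgroup G}
    (hA : IsPGroup q A) (hne : A ≠ ⊥) : A ⊓ Subgroup.centralizer (A : Set G) ≠ ⊥ := by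
  haveI : Nontrivial A := (Subgroup.nontrivial_iff_ne_bot A).2 hne
  intro e
  refine (Subgroup.nontrivial_iff_ne_bot _).1 hA.center_nontrivial
    ((Subgroup.eq_bot_iff_forall _).2 fun z hz => Subtype.ext (Subgroup.mem_bot.1 (e.le ⟨z.2, ?_⟩)))
  exact Subgroup.mem_centralizer_iff.2 fun a ha =>
    congrArg Subtype.val (Subgroup.mem_center_iff.1 hz ⟨a, ha⟩)

theorem inf_centralizer_isMulCommutative (A : Subgroup G) :
    IsMulCommutative ↥(A ⊓ Subgroup.centralizer (A : Set G)) :=
  ⟨⟨fun x y => Subtype.ext (Subgroup.mem_centralizer_iff.1 y.2.2 x x.2.1)⟩⟩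

/-- Thompson's theorem, from his normal `p`-complement theorem. -/
theorem isNilpotent_of_criterion
    (hT : ∀ (H : Type u) [Group H] [Finite H] (q : ℕ) [Fact q.Prime] (Q : Sylow q H), q ≠ 2 →
      HasNormalPComplement q
        (Subgroup.normalizer (thompsonSubgroupOf q (Q : Subgroup H) : Set H)) →
      HasNormalPComplement q (Subgroup.centralizer
        (((Q : Subgroup H) ⊓ Subgroup.centralizer (Q : Set H)) : Set H)) →
      HasNormalPComplement q H)
    [Finite G] (φ : MulAut G) (hφ : MonoidHom.FixedPointFree (φ : G → G)) {p : ℕ} (hp : p.Prime)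
    (hφp : φ ^ p = 1) : Group.IsNilpotent G := by
  refine isNilpotent_of_exists_abelian ?_ _ G φ p rfl hφ hp hφp
  intro H _ _ ψ p hnt hψ hp hψp ih
  by_cases hpg : ∃ q : ℕ, q.Prime ∧ IsPGroup q H
  · obtain ⟨q, hq, hqH⟩ := hpg
    haveI := Fact.mk hq
    exact ⟨Subgroup.center H, inferInstance, inferInstance,
      Subgroup.characteristic_iff_map_eq.1 inferInstance ψ,
      (Subgroup.nontrivial_iff_ne_bot _).1 hqH.center_nontrivial⟩
  obtain ⟨q, hq, hq2, hqd⟩ : ∃ q : ℕ, q.Prime ∧ q ≠ 2 ∧ q ∣ Nat.card H := by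
    by_contra hno
    push Not at hno
    refine hpg ⟨2, Nat.prime_two, IsPGroup.of_card (n := (Nat.card H).primeFactorsList.length) ?_⟩
    exact Nat.eq_prime_pow_of_unique_prime_dvd Nat.card_pos.ne' fun {d} hd hdd =>
      by_contra fun hd2 => hno d hd hd2 hdd
  haveI := Fact.mk hq
  obtain ⟨Q, hQ⟩ := exists_invariant_sylow hψ q
  have hQne : (Q : Subgroup H) ≠ ⊥ := Q.ne_bot_of_dvd_card hqd
  set J := thompsonSubgroupOf q (Q : Subgroup H) with hJdef
  have hJ : J.map ψ.toMonoidHom = J := by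
    rw [hJdef, CfsgLib.PLocal.map_thompsonSubgroupOf ψ.injective, hQ]
  have hJle : J ≤ (Q : Subgroup H) := CfsgLib.PLocal.thompsonSubgroupOf_le q _
  have hJne : J ≠ ⊥ := by
    intro e
    obtain ⟨A, hA⟩ := CfsgLib.PLocal.maxEAOf_nonempty q (Q : Subgroup H)
    have hAbot : A = ⊥ := le_bot_iff.1 (e ▸ CfsgLib.PLocal.le_thompsonSubgroupOf hA)
    obtain ⟨x, hx⟩ := exists_prime_orderOf_dvd_card' q
      (G := (Q : Subgroup H)) (Sylow.dvd_card_of_dvd_card Q hqd)
    have hE : IsElementaryAbelian q (Subgroup.zpowers (x : H)) := by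
      refine ⟨inferInstance, fun a ha => ?_⟩
      obtain ⟨k, rfl⟩ := Subgroup.mem_zpowers_iff.1 ha
      have hxq : (x : H) ^ q = 1 := by
        have := pow_orderOf_eq_one (x : H)
        rwa [Subgroup.orderOf_coe, hx] at this
      rw [← zpow_natCast, ← zpow_mul, mul_comm, zpow_mul, zpow_natCast, hxq, one_zpow]
    have h := hA.2.2 _ (Subgroup.zpowers_le.2 x.2) hE
    rw [hAbot, Subgroup.card_bot, Nat.card_zpowers, Subgroup.orderOf_coe, hx] at h
    exact hq.one_lt.not_ge h
  by_cases hN : Subgroup.normalizer (J : Set H) = ⊤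
  · haveI := Subgroup.normalizer_eq_top_iff.1 hN
    refine ⟨J ⊓ Subgroup.centralizer (J : Set H), inferInstance,
      inf_centralizer_isMulCommutative J, ?_,
      inf_centralizer_ne_bot (Q.isPGroup'.to_le hJle) hJne⟩
    rw [Subgroup.map_inf _ _ _ ψ.injective, map_centralizer_eq hJ, hJ]
  set Z := (Q : Subgroup H) ⊓ Subgroup.centralizer ((Q : Subgroup H) : Set H) with hZdef
  have hZ : Z.map ψ.toMonoidHom = Z := by
    rw [hZdef, Subgroup.map_inf _ _ _ ψ.injective, map_centralizer_eq hQ, hQ]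
  by_cases hC : Subgroup.centralizer (Z : Set H) = ⊤
  · exact ⟨Z, normal_of_le_center (Subgroup.centralizer_eq_top_iff_subset.1 hC),
      inf_centralizer_isMulCommutative _, hZ, inf_centralizer_ne_bot Q.isPGroup' hQne⟩
  have hlocal : ∀ U : Subgroup H, U ≠ ⊤ → U.map ψ.toMonoidHom = U → Group.IsNilpotent U :=
    fun U hU hUi => ih U (restrict ψ hUi) (CfsgLib.Coprime.card_lt_of_ne_top hU)
      (restrict_fixedPointFree hUi hψ) (restrict_pow_eq_one hUi hψp)
  have h1 := @CfsgLib.Transfer.hasNormalPComplement_of_isNilpotent _ _ q _ _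
    (hlocal _ hN (map_normalizer_eq hJ))
  have h2 := @CfsgLib.Transfer.hasNormalPComplement_of_isNilpotent _ _ q _ _
    (hlocal _ hC (map_centralizer_eq hZ))
  have hcomp : HasNormalPComplement q H := hT H q Q hq2 h1 h2
  set M := pResidual q H with hMdef
  haveI := CfsgLib.Transfer.pResidual_characteristic (G := H) (p := q)
  have hc := CfsgLib.Transfer.isComplement'_pResidual hcomp Q
  have hMne : M ≠ ⊥ := fun e => by
    rw [← hMdef, e, Subgroup.isComplement'_bot_left] at hc
    exact hpg ⟨q, hq, (hc ▸ Q.isPGroup').of_equiv Subgroup.topEquiv⟩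
  have hMtop : M ≠ ⊤ := fun e => by
    rw [← hMdef, e, Subgroup.isComplement'_top_left] at hc
    exact hQne hc
  have hMi : M.map ψ.toMonoidHom = M := Subgroup.characteristic_iff_map_eq.1 inferInstance ψ
  haveI := hlocal M hMtop hMi
  haveI : Nontrivial M := (Subgroup.nontrivial_iff_ne_bot M).2 hMne
  refine ⟨M ⊓ Subgroup.centralizer (M : Set H), inferInstance,
    inf_centralizer_isMulCommutative M, ?_, fun e => ?_⟩
  · rw [Subgroup.map_inf _ _ _ ψ.injective, map_centralizer_eq hMi, hMi]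
  · refine Group.IsNilpotent.center_ne_bot (G := M) ((Subgroup.eq_bot_iff_forall _).2 fun z hz =>
      Subtype.ext (Subgroup.mem_bot.1 (e.le ⟨z.2, ?_⟩)))
    exact Subgroup.mem_centralizer_iff.2 fun a ha =>
      congrArg Subtype.val (Subgroup.mem_center_iff.1 hz ⟨a, ha⟩)

end CfsgLib.Base.FPFAut
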