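import Cfsg.Agent.Lib.Base.FrobeniusConj

/-!
Normal subgroups and quotients of Frobenius groups.
-/

set_option autoImplicit false
set_option linter.style.haveILetI false

namespace CfsgLib.Base.Frobenius

open Cfsg
open scoped Pointwise

variable {G : Type*} [Group G]

theorem isFrobeniusComplement_map {G' : Type*} [Group G'] (e : G ≃* G') {H : Subgroup G}
    (hH : IsFrobeniusComplement H) : IsFrobeniusComplement (H.map e.toMonoidHom) := by
  refine ⟨fun h => hH.1 ((Subgroup.map_eq_bot_iff_of_injective _ e.injective).1 h),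
    fun h => hH.2.1 ?_, fun g hg => ?_⟩
  · rwa [← Subgroup.map_top_of_surjective e.toMonoidHom e.surjective,
      (Subgroup.map_injective (f := e.toMonoidHom) e.injective).eq_iff] at h
  · rw [Subgroup.eq_bot_iff_forall]
    intro x hx
    obtain ⟨h1, h2⟩ := Subgroup.mem_inf.1 hx
    rw [mem_conj_iff] at h2
    obtain ⟨a, ha, rfl⟩ := h1
    obtain ⟨b, hb, hbe⟩ := h2
    obtain ⟨u, rfl⟩ := e.surjective g
    by_contra hx1
    refine hg ⟨u, conj_mem_of_conj_mem hH ha (fun e' => hx1 (by rw [e', map_one])) ?_, rfl⟩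
    have : e.toMonoidHom b = e.toMonoidHom (u⁻¹ * a * u) := by simpa using hbe
    rw [← e.injective this]
    exact hb

variable [Finite G] {H : Subgroup G}

omit [Finite G] in
/-- An element of the kernel commutes with no element outside the kernel. -/
theorem not_commute_of_mem_frobeniusKernel (hH : IsFrobeniusComplement H) {x y : G}
    (hx : x ∈ frobeniusKernel H) (hx1 : x ≠ 1) (hy : y ∉ frobeniusKernel H) : ¬ Commute x y := by
  intro hc
  rw [mem_frobeniusKernel_iff] at hy hx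
  push Not at hy
  obtain ⟨hy1, g, hg⟩ := hy
  refine hx.resolve_left hx1 g (mem_of_commute hH hg (fun e => hy1 ?_) ?_)
  · simpa [mul_assoc] using congrArg (fun v => g * v * g⁻¹) e
  · calc g⁻¹ * x * g * (g⁻¹ * y * g) = g⁻¹ * (x * y) * g := by group
      _ = g⁻¹ * (y * x) * g := by rw [hc.eq]
      _ = g⁻¹ * y * g * (g⁻¹ * x * g) := by group

/-- A normal subgroup contains the kernel or is contained in it. -/
theorem le_or_le_of_normal (hH : IsFrobeniusComplement H) {K : Subgroup G} [hKn : K.Normal]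
    (hK : (K : Set G) = frobeniusKernel H) (N : Subgroup G) [hN : N.Normal] : N ≤ K ∨ K ≤ N := by
  by_contra h
  push Not at h
  obtain ⟨hnK, hKN⟩ := h
  obtain ⟨y, hy, hyK⟩ := SetLike.not_le_iff_exists.1 hnK
  have hyk : y ∉ frobeniusKernel H := hK ▸ hyK
  let f : K → K := fun k => ⟨(k : G)⁻¹ * (y * k * y⁻¹), K.mul_mem (K.inv_mem k.2) (hKn.conj_mem _ k.2 y)⟩
  have hf : Function.Injective f := by
    intro a b hab
    have he : (a : G)⁻¹ * (y * a * y⁻¹) = (b : G)⁻¹ * (y * b * y⁻¹) := congrArg Subtype.val hab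
    by_contra hne
    have hmem : (b : G) * (a : G)⁻¹ ∈ frobeniusKernel H := by
      rw [← hK]; exact K.mul_mem b.2 (K.inv_mem a.2)
    refine not_commute_of_mem_frobeniusKernel hH hmem (fun e => hne ?_) hyk ?_
    · exact (Subtype.ext (mul_inv_eq_one.1 e)).symm
    · have h1 : (b : G) * (a : G)⁻¹ * y = y * ((b : G) * (a : G)⁻¹) := by
        calc (b : G) * (a : G)⁻¹ * y = b * ((a : G)⁻¹ * (y * a * y⁻¹)) * (y * (a : G)⁻¹) := by group
          _ = b * ((b : G)⁻¹ * (y * b * y⁻¹)) * (y * (a : G)⁻¹) := by rw [he]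
          _ = y * ((b : G) * (a : G)⁻¹) := by group
      exact h1
  refine hKN fun k hk => ?_
  obtain ⟨k', hk'⟩ := (Finite.injective_iff_surjective.1 hf) ⟨k, hk⟩
  have hk'' : (k' : G)⁻¹ * (y * k' * y⁻¹) = k := congrArg Subtype.val hk'
  rw [← hk'', show (k' : G)⁻¹ * (y * k' * y⁻¹) = ((k' : G)⁻¹ * y * k') * y⁻¹ by group]
  exact N.mul_mem (by simpa using hN.conj_mem y hy (k' : G)⁻¹) (N.inv_mem hy)

/-- A quotient by a normal subgroup not containing the kernel is a Frobenius group. -/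
theorem quotient (hH : IsFrobeniusComplement H) (N : Subgroup G) [N.Normal]
    (hKN : ¬ frobeniusKernel H ⊆ N) :
    IsFrobeniusComplement (H.map (QuotientGroup.mk' N)) ∧
      frobeniusKernel (H.map (QuotientGroup.mk' N)) =
        QuotientGroup.mk' N '' frobeniusKernel H := by
  obtain ⟨K, hK, hKn, hc, hKne, hfpf⟩ := exists_isFPF hH
  haveI := hKn
  have hKN' : ¬ K ≤ N := fun h => hKN (hK ▸ h)
  have hNK : N ≤ K := (le_or_le_of_normal hH hK N).resolve_right hKN'
  set π := QuotientGroup.mk' N with hπ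
  have hπs := QuotientGroup.mk'_surjective N
  haveI hKbn : (K.map π).Normal := hKn.map π hπs
  have hdisj : K.map π ⊓ H.map π = ⊥ := by
    rw [Subgroup.eq_bot_iff_forall]
    rintro x ⟨⟨k, hk, rfl⟩, ⟨r, hr, hre⟩⟩
    rw [hπ, QuotientGroup.mk'_apply, QuotientGroup.mk'_apply, eq_comm, QuotientGroup.eq] at hre
    have : r ∈ K ⊓ H := ⟨by simpa using K.mul_mem hk (hNK hre), hr⟩
    rw [hc.disjoint.eq_bot, Subgroup.mem_bot] at this
    rw [this, mul_one] at hre
    exact (QuotientGroup.eq_one_iff k).2 (by simpa using hre)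
  have hcb : Subgroup.IsComplement' (K.map π) (H.map π) := by
    refine Subgroup.isComplement'_of_disjoint_and_mul_eq_univ (disjoint_iff.2 hdisj)
      (Set.eq_univ_of_forall fun x => ?_)
    obtain ⟨g, rfl⟩ := hπs x
    obtain ⟨k, hk, r, hr, rfl⟩ : g ∈ (K : Set G) * (H : Set G) := by
      rw [hc.mul_eq]; exact Set.mem_univ g
    exact ⟨π k, ⟨k, hk, rfl⟩, π r, ⟨r, hr, rfl⟩, (map_mul π k r).symm⟩
  have hKbne : K.map π ≠ ⊥ := fun e => hKN' (map_mk'_eq_bot_iff.1 e)
  have hHbne : H.map π ≠ ⊥ := fun e => hH.1 (le_bot_iff.1 (hc.disjoint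
    ((map_mk'_eq_bot_iff.1 e).trans hNK) le_rfl))
  have hF : IsFrobeniusComplement (H.map π) := by
    refine (isFrobeniusComplement_iff _ _ hcb hKbne hHbne).2 ?_
    rintro _ ⟨r, hr, rfl⟩ hr1
    rw [Subgroup.eq_bot_iff_forall]
    rintro _ ⟨⟨k, hk, rfl⟩, hkc⟩
    have hr' : r ≠ 1 := fun e => hr1 (by rw [e, map_one])
    have he := Subgroup.mem_centralizer_iff.1 hkc (π r) rfl
    let f : N → N := fun n => ⟨(n : G)⁻¹ * (r * n * r⁻¹),
      N.mul_mem (N.inv_mem n.2) ((inferInstance : N.Normal).conj_mem _ n.2 r)⟩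
    have key : ∀ a b : G, a ∈ K → b ∈ K →
        a⁻¹ * (r * a * r⁻¹) = b⁻¹ * (r * b * r⁻¹) → a = b := by
      intro a b ha hb he'
      refine (mul_inv_eq_one.1 (hfpf.eq_one_of_commute hr hr' (K.mul_mem hb (K.inv_mem ha)) ?_)).symm
      calc r * (b * a⁻¹) = b * (b⁻¹ * (r * b * r⁻¹)) * (r * a⁻¹) := by group
        _ = b * (a⁻¹ * (r * a * r⁻¹)) * (r * a⁻¹) := by rw [he']
        _ = b * a⁻¹ * r := by group
    have hf : Function.Injective f := fun a b hab =>
      Subtype.ext (key a b (hNK a.2) (hNK b.2) (congrArg Subtype.val hab))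
    have hmem : k⁻¹ * (r * k * r⁻¹) ∈ N := by
      refine (QuotientGroup.eq_one_iff _).1 ?_
      show π (k⁻¹ * (r * k * r⁻¹)) = 1
      rw [map_mul, map_mul, map_mul, he, map_inv, map_inv]
      group
    obtain ⟨n, hn⟩ := (Finite.injective_iff_surjective.1 hf) ⟨_, hmem⟩
    rw [← key n k (hNK n.2) hk (congrArg Subtype.val hn)]
    exact (QuotientGroup.eq_one_iff _).2 n.2
  exact ⟨hF, by rw [frobeniusKernel_eq hF (K.map π) hcb, Subgroup.coe_map, hK]⟩

end CfsgLib.Base.Frobenius
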