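import Mathlib

/-!
Frobenius' theorem on the number of solutions of `x ^ n = c`.
-/

set_option autoImplicit false
set_option linter.style.haveILetI false

universe u

namespace CfsgLib.Base.Solutions

variable {G : Type u} [Group G]

theorem card_conjClass (v : G) :
    Nat.card (ConjClasses.mk v).carrier = (Subgroup.centralizer ({v} : Set G)).index := by
  have h := MulAction.index_stabilizer (ConjAct G) v
  rw [ConjAct.orbit_eq_carrier_conjClasses, ← Nat.card_coe_set_eq] at h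
  rw [← h]
  refine congrArg Subgroup.index ?_
  rw [ConjAct.stabilizer_eq_centralizer]
  rfl

variable [Finite G]

/-- A class-invariant weight summed over a normal set: divisibility class by class. -/
theorem dvd_sum_of_conj_invariant [Fintype G] {s : Finset G} {f : G → ℕ} {D : ℕ}
    (hs : ∀ v w : G, IsConj v w → v ∈ s → w ∈ s) (hf : ∀ v w : G, IsConj v w → f v = f w)
    (h : ∀ v ∈ s, D ∣ (Subgroup.centralizer ({v} : Set G)).index * f v) : D ∣ ∑ v ∈ s, f v := by
  classical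
  rw [← Finset.sum_fiberwise_of_maps_to (t := s.image ConjClasses.mk) (g := ConjClasses.mk)
    (fun v hv => Finset.mem_image_of_mem _ hv)]
  refine Finset.dvd_sum fun C hC => ?_
  obtain ⟨v, hv, rfl⟩ := Finset.mem_image.1 hC
  have hfib : ∀ w ∈ s.filter (fun w => ConjClasses.mk w = ConjClasses.mk v), f w = f v :=
    fun w hw => hf w v (ConjClasses.mk_eq_mk_iff_isConj.1 (Finset.mem_filter.1 hw).2)
  rw [Finset.sum_congr rfl hfib, Finset.sum_const, smul_eq_mul]
  suffices hc : (s.filter (fun w => ConjClasses.mk w = ConjClasses.mk v)).card =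
      (Subgroup.centralizer ({v} : Set G)).index by
    rw [hc]; exact h v hv
  rw [← card_conjClass, Nat.card_coe_set_eq, ← Set.ncard_coe_finset]
  congr 1
  ext w
  simp only [Finset.coe_filter, Set.mem_ofPred_eq, ConjClasses.mem_carrier_iff_mk_eq]
  exact ⟨fun hw => hw.2, fun hw => ⟨hs v w (ConjClasses.mk_eq_mk_iff_isConj.1 hw).symm hv, hw⟩⟩

section PrimeFixed

variable {p : ℕ} [hp : Fact p.Prime]

/-- For a `p`-element `z ≠ 1`, the solutions of `u ^ p ^ e = z` come in sets of `p ^ e`. -/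
theorem dvd_card_pow_eq_of_ne_one {z : G} (hz1 : z ≠ 1) {j : ℕ} (hz : z ^ p ^ j = 1) (e : ℕ) :
    p ^ e ∣ Nat.card {u : G // u ^ p ^ e = z} := by
  classical
  haveI := Fintype.ofFinite G
  haveI := Fintype.ofFinite (Subgroup G)
  obtain ⟨b, -, hb⟩ := (Nat.dvd_prime_pow hp.out).1 (orderOf_dvd_of_pow_eq_one hz)
  have hb0 : b ≠ 0 := fun h => hz1 (orderOf_eq_one_iff.1 (by rw [hb, h, pow_zero]))
  have hord : ∀ u : G, u ^ p ^ e = z → orderOf u = p ^ (e + b) := by
    intro u hu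
    have hd : orderOf u ∣ p ^ (e + b) := orderOf_dvd_of_pow_eq_one (by
      rw [pow_add, pow_mul, hu, ← hb, pow_orderOf_eq_one])
    obtain ⟨c, hc, hce⟩ := (Nat.dvd_prime_pow hp.out).1 hd
    rw [hce]
    refine congrArg _ (le_antisymm hc ?_)
    by_contra hlt
    push Not at hlt
    rcases Nat.lt_or_ge c e with h1 | h1
    · refine hz1 ?_
      rw [← hu, ← orderOf_dvd_iff_pow_eq_one, hce]
      exact pow_dvd_pow p h1.le
    · have h2 : orderOf z ∣ p ^ (c - e) := orderOf_dvd_of_pow_eq_one (by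
        rw [← hu, ← pow_mul, ← pow_add, Nat.add_sub_cancel' h1, ← hce, pow_orderOf_eq_one])
      rw [hb] at h2
      have := (Nat.pow_dvd_pow_iff_le_right hp.out.one_lt).1 h2
      omega
  rw [← Nat.card_congr (Equiv.sigmaFiberEquiv (fun u : {u : G // u ^ p ^ e = z} =>
    Subgroup.zpowers (u : G))), Nat.card_sigma]
  refine Finset.dvd_sum fun C _ => ?_
  rcases isEmpty_or_nonempty {u : {u : G // u ^ p ^ e = z} // Subgroup.zpowers (u : G) = C} with h | h
  · rw [Nat.card_of_isEmpty]; exact dvd_zero _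
  obtain ⟨⟨⟨u₀, hu₀⟩, rfl⟩⟩ := h
  set D := Subgroup.zpowers (u₀ ^ p ^ b)
  have hDc : Nat.card D = p ^ e := by
    rw [Nat.card_zpowers, orderOf_pow' _ (pow_ne_zero _ hp.out.ne_zero), hord u₀ hu₀,
      Nat.gcd_eq_right (pow_dvd_pow p (Nat.le_add_left b e)),
      Nat.pow_div (Nat.le_add_left b e) hp.out.pos, Nat.add_sub_cancel]
  have hDle : D ≤ Subgroup.zpowers u₀ := Subgroup.zpowers_le.2 (pow_mem (Subgroup.mem_zpowers u₀) _)
  have hDpow : ∀ w ∈ D, w ^ p ^ e = 1 := fun w hw =>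
    orderOf_dvd_iff_pow_eq_one.1 (hDc ▸ Subgroup.orderOf_dvd_natCard D hw)
  have hpowmul : ∀ w ∈ D, (u₀ * w) ^ p ^ e = z := fun w hw => by
    obtain ⟨i, rfl⟩ := Subgroup.mem_zpowers_iff.1 (hDle hw)
    rw [(Commute.self_zpow u₀ i).mul_pow, hDpow _ hw, mul_one, hu₀]
  have hzp : ∀ w ∈ D, Subgroup.zpowers (u₀ * w) = Subgroup.zpowers u₀ := fun w hw => by
    refine Subgroup.eq_of_le_of_card_ge
      (Subgroup.zpowers_le.2 (mul_mem (Subgroup.mem_zpowers u₀) (hDle hw))) ?_
    rw [Nat.card_zpowers, Nat.card_zpowers, hord _ hu₀, hord _ (hpowmul w hw)]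
  have hmem : ∀ u : G, u ^ p ^ e = z → Subgroup.zpowers u = Subgroup.zpowers u₀ → u₀⁻¹ * u ∈ D := by
    intro u hu hue
    obtain ⟨i, hi⟩ := Subgroup.mem_zpowers_iff.1 (hue ▸ Subgroup.mem_zpowers u)
    have h1 : (u₀ ^ (i - 1)) ^ p ^ e = 1 := by
      rw [zpow_sub_one, hi, (Commute.inv_right (hi ▸ (Commute.zpow_self u₀ i))).mul_pow, hu, inv_pow,
        hu₀, mul_inv_cancel]
    rw [← zpow_natCast, ← zpow_mul, ← orderOf_dvd_iff_zpow_eq_one, hord u₀ hu₀] at h1
    push_cast at h1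
    rw [pow_add, mul_comm ((p : ℤ) ^ e)] at h1
    have hpe : ((p : ℤ) ^ e) ≠ 0 := pow_ne_zero _ (by exact_mod_cast hp.out.ne_zero)
    obtain ⟨t, ht⟩ := (mul_dvd_mul_iff_right hpe).1 h1
    refine Subgroup.mem_zpowers_iff.2 ⟨t, ?_⟩
    rw [← hi, ← zpow_natCast, ← zpow_mul, ← zpow_neg_one, ← zpow_add]
    congr 1
    push_cast
    omega
  let e' : {u : {u : G // u ^ p ^ e = z} // Subgroup.zpowers (u : G) = Subgroup.zpowers u₀} ≃ D :=
    { toFun := fun u => ⟨u₀⁻¹ * u.1.1, hmem u.1.1 u.1.2 u.2⟩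
      invFun := fun w => ⟨⟨u₀ * w, hpowmul w w.2⟩, hzp w w.2⟩
      left_inv := fun u => by ext; simp
      right_inv := fun w => by ext; simp }
  show p ^ e ∣ Nat.card {u : {u : G // u ^ p ^ e = z} // Subgroup.zpowers (u : G) = Subgroup.zpowers u₀}
  rw [Nat.card_congr e', hDc]

variable (p) in
/-- The two exponents splitting an element into its `p`-part and its `p'`-part. -/
theorem exists_exponents (G : Type u) [Group G] [Finite G] :
    ∃ A M E E' : ℕ, Nat.card G = p ^ A * M ∧ ¬ p ∣ M ∧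
      (∀ x : G, (x ^ E) ^ M = 1) ∧ (∀ x : G, (x ^ E') ^ p ^ A = 1) ∧
      (∀ x : G, x ^ E' * x ^ E = x) ∧ (∀ x : G, x ^ M = 1 → x ^ E = x ∧ x ^ E' = 1) ∧
      (∀ x : G, x ^ p ^ A = 1 → x ^ E' = x ∧ x ^ E = 1) := by
  obtain ⟨A, M, hM, hN⟩ := Nat.exists_eq_pow_mul_and_not_dvd (Nat.card_pos (α := G)).ne' p hp.out.ne_one
  have hcop : Nat.Coprime M (p ^ A) := ((hp.out.coprime_iff_not_dvd.2 hM).symm).pow_right A
  obtain ⟨E, hE1, hE0⟩ := Nat.chineseRemainder hcop 1 0
  obtain ⟨E', hE'0, hE'1⟩ := Nat.chineseRemainder hcop 0 1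
  have hcard : ∀ x : G, orderOf x ∣ M * p ^ A := fun x => by
    rw [mul_comm, ← hN]; exact orderOf_dvd_natCard x
  refine ⟨A, M, E, E', hN, hM, fun x => ?_, fun x => ?_, fun x => ?_, fun x hx => ⟨?_, ?_⟩,
    fun x hx => ⟨?_, ?_⟩⟩
  · rw [← pow_mul, ← orderOf_dvd_iff_pow_eq_one]
    refine (hcard x).trans ?_
    rw [mul_comm]
    exact Nat.mul_dvd_mul_right (Nat.modEq_zero_iff_dvd.1 hE0) M
  · rw [← pow_mul, ← orderOf_dvd_iff_pow_eq_one]
    refine (hcard x).trans (Nat.mul_dvd_mul_right (Nat.modEq_zero_iff_dvd.1 hE'0) _)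
  · rw [← pow_add]
    conv_rhs => rw [← pow_one x]
    refine pow_eq_pow_iff_modEq.2 (Nat.ModEq.of_dvd (hcard x) ?_)
    exact (Nat.modEq_and_modEq_iff_modEq_mul hcop).1 ⟨hE'0.add hE1, hE'1.add hE0⟩
  · conv_rhs => rw [← pow_one x]
    exact pow_eq_pow_iff_modEq.2 (hE1.of_dvd (orderOf_dvd_of_pow_eq_one hx))
  · rw [← pow_zero x]
    exact pow_eq_pow_iff_modEq.2 (hE'0.of_dvd (orderOf_dvd_of_pow_eq_one hx))
  · conv_rhs => rw [← pow_one x]
    exact pow_eq_pow_iff_modEq.2 (hE'1.of_dvd (orderOf_dvd_of_pow_eq_one hx))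
  · rw [← pow_zero x]
    exact pow_eq_pow_iff_modEq.2 (hE0.of_dvd (orderOf_dvd_of_pow_eq_one hx))

theorem pow_pow_eq_one {A M : ℕ} (hN : Nat.card G = p ^ A * M) (hM : ¬ p ∣ M) {u : G} {k : ℕ}
    (hu : u ^ p ^ k = 1) : u ^ p ^ A = 1 := by
  refine orderOf_dvd_iff_pow_eq_one.1 ?_
  obtain ⟨j, -, hj⟩ := (Nat.dvd_prime_pow hp.out).1 (orderOf_dvd_of_pow_eq_one hu)
  have h := orderOf_dvd_natCard u
  rw [hN, hj] at h
  rw [hj]
  exact ((hp.out.coprime_iff_not_dvd.2 hM).pow_left j).dvd_of_dvd_mul_right h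

theorem card_pElements_aux (n : ℕ) : ∀ (G : Type u) [Group G] [Finite G], Nat.card G = n →
    ∀ a : ℕ, p ^ a ∣ Nat.card G → p ^ a ∣ Nat.card {u : G // ∃ k, u ^ p ^ k = 1} := by
  induction n using Nat.strong_induction_on with
  | _ n ih =>
  intro G _ _ hn a ha
  subst hn
  classical
  haveI := Fintype.ofFinite G
  obtain ⟨A, M, E, E', hN, hM, hEM, hEA, hsum, hidM, hidA⟩ := exists_exponents p G
  let f : G → ℕ := fun v => Nat.card {u : G // Commute u v ∧ ∃ k, u ^ p ^ k = 1}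
  set V := Finset.univ.filter (fun v : G => v ^ M = 1) with hV
  have hsplit : Nat.card G = ∑ v ∈ V, f v := by
    have e : G ≃ Σ v : {v : G // v ∈ V}, {u : G // Commute u v.1 ∧ ∃ k, u ^ p ^ k = 1} :=
      { toFun := fun x => ⟨⟨x ^ E, by simp [hV, hEM]⟩, ⟨x ^ E',
          Commute.pow_pow_self x _ _, A, hEA x⟩⟩
        invFun := fun s => s.2.1 * s.1.1
        left_inv := fun x => hsum x
        right_inv := fun ⟨⟨v, hv⟩, ⟨u, huv, k, hu⟩⟩ => by
          have hvM : v ^ M = 1 := by simpa [hV] using hv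
          have huA := pow_pow_eq_one hN hM hu
          have h1 : (u * v) ^ E = v := by
            rw [huv.mul_pow, (hidA u huA).2, (hidM v hvM).1, one_mul]
          have h2 : (u * v) ^ E' = u := by
            rw [huv.mul_pow, (hidA u huA).1, (hidM v hvM).2, mul_one]
          refine Sigma.subtype_ext (Subtype.ext h1) ?_
          exact h2 }
    rw [Nat.card_congr e, Nat.card_sigma, ← Finset.sum_coe_sort V]
  have hrest : p ^ a ∣ ∑ v ∈ V.filter (fun v => v ∉ Subgroup.center G), f v := by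
    refine dvd_sum_of_conj_invariant ?_ ?_ ?_
    · intro v w hvw hv
      obtain ⟨g, rfl⟩ := isConj_iff.1 hvw
      simp only [hV, Finset.mem_filter, Finset.mem_univ, true_and] at hv ⊢
      refine ⟨by rw [conj_pow, hv.1]; simp, fun hc => hv.2 ?_⟩
      simpa [mul_assoc] using (inferInstance : (Subgroup.center G).Normal).conj_mem _ hc g⁻¹
    · intro v w hvw
      obtain ⟨g, rfl⟩ := isConj_iff.1 hvw
      exact Nat.card_congr ((MulAut.conj g).toEquiv.subtypeEquiv fun u => by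
        show _ ↔ Commute (g * u * g⁻¹) (g * v * g⁻¹) ∧ ∃ k, (g * u * g⁻¹) ^ p ^ k = 1
        simp only [conj_pow, conj_eq_one_iff]
        exact and_congr_left' ⟨fun h => h.map (MulAut.conj g).toMonoidHom, fun h => by
          simpa [mul_assoc] using h.map (MulAut.conj g⁻¹).toMonoidHom⟩)
    · intro v hv
      simp only [Finset.mem_filter] at hv
      set C := Subgroup.centralizer ({v} : Set G) with hC
      have hCne : C ≠ ⊤ := fun e => hv.2 (Subgroup.mem_center_iff.2 fun g =>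
        (Subgroup.mem_centralizer_iff.1 (e.ge (Subgroup.mem_top g)) v rfl).symm)
      have hlt : Nat.card C < Nat.card G := by
        rcases (Subgroup.card_le_card_group C).lt_or_eq with h | h
        · exact h
        · exact absurd ((Subgroup.card_eq_iff_eq_top C).1 h) hCne
      have hfC : f v = Nat.card {u : C // ∃ k, u ^ p ^ k = 1} :=
        Nat.card_congr (
          { toFun := fun u => ⟨⟨u.1, Subgroup.mem_centralizer_iff.2 (by
                rintro _ rfl; exact u.2.1.symm.eq)⟩, by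
              obtain ⟨k, hk⟩ := u.2.2; exact ⟨k, Subtype.ext hk⟩⟩
            invFun := fun u => ⟨u.1.1,
              ((Subgroup.mem_centralizer_iff.1 u.1.2 v rfl).symm : u.1.1 * v = v * u.1.1), by
              obtain ⟨k, hk⟩ := u.2; exact ⟨k, congrArg Subtype.val hk⟩⟩
            left_inv := fun u => rfl
            right_inv := fun u => rfl })
      rw [hfC]
      obtain ⟨i, hi, hCi⟩ := (Nat.dvd_prime_pow hp.out).1 (Nat.gcd_dvd_left (p ^ a) (Nat.card C))
      have h1 : p ^ i ∣ Nat.card {u : C // ∃ k, u ^ p ^ k = 1} :=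
        ih _ hlt C rfl i (hCi ▸ Nat.gcd_dvd_right _ _)
      refine dvd_trans ?_ (Nat.mul_dvd_mul_left _ h1)
      rw [← hCi, ← Nat.gcd_mul_left, C.index_mul_card]
      exact Nat.dvd_gcd (dvd_mul_left _ _) ha
  have hcent : ∑ v ∈ V.filter (fun v => v ∈ Subgroup.center G), f v =
      (V.filter (fun v => v ∈ Subgroup.center G)).card * Nat.card {u : G // ∃ k, u ^ p ^ k = 1} := by
    rw [Finset.sum_const_nat]
    intro v hv
    simp only [Finset.mem_filter] at hv
    exact Nat.card_congr (Equiv.subtypeEquivRight fun u =>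
      and_iff_right (Subgroup.mem_center_iff.1 hv.2 u))
  let R : Subgroup G :=
    { carrier := {v | v ∈ Subgroup.center G ∧ v ^ M = 1}
      one_mem' := ⟨one_mem _, one_pow M⟩
      mul_mem' := fun {x y} hx hy => ⟨mul_mem hx.1 hy.1, by
        rw [Commute.mul_pow (Subgroup.mem_center_iff.1 hy.1 x), hx.2, hy.2, one_mul]⟩
      inv_mem' := fun {x} hx => ⟨inv_mem hx.1, by rw [inv_pow, hx.2, inv_one]⟩ }
  have hR : (V.filter (fun v => v ∈ Subgroup.center G)).card = Nat.card R := by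
    rw [← Set.ncard_coe_finset, ← SetLike.coe_sort_coe, Nat.card_coe_set_eq]
    congr 1
    ext v
    simp [hV, R, and_comm]
  have hRp : ¬ p ∣ Nat.card R := fun hd => by
    obtain ⟨x, hx⟩ := exists_prime_orderOf_dvd_card' p hd
    refine hM (hx ▸ orderOf_dvd_of_pow_eq_one (Subtype.ext ?_))
    exact x.2.2
  have htot := Finset.sum_filter_add_sum_filter_not V (fun v => v ∈ Subgroup.center G) f
  rw [← hsplit, hcent, hR] at htot
  have h2 : p ^ a ∣ Nat.card R * Nat.card {u : G // ∃ k, u ^ p ^ k = 1} := by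
    have := htot ▸ ha
    exact (Nat.dvd_add_left hrest).1 this
  exact ((hp.out.coprime_iff_not_dvd.2 hRp).pow_left a).dvd_of_dvd_mul_left h2

/-- The number of `p`-elements is divisible by the `p`-part of the group order. -/
theorem pow_dvd_card_pElements {a : ℕ} (ha : p ^ a ∣ Nat.card G) :
    p ^ a ∣ Nat.card {u : G // ∃ k, u ^ p ^ k = 1} :=
  card_pElements_aux _ G rfl a ha

/-- If `p ^ a` divides the group order it divides the number of solutions of `u ^ p ^ a = 1`. -/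
theorem pow_dvd_card_pow_eq_one {a : ℕ} (ha : p ^ a ∣ Nat.card G) :
    p ^ a ∣ Nat.card {u : G // u ^ p ^ a = 1} := by
  classical
  haveI := Fintype.ofFinite G
  obtain ⟨A, M, hM, hN⟩ := Nat.exists_eq_pow_mul_and_not_dvd (Nat.card_pos (α := G)).ne' p hp.out.ne_one
  have haA : a ≤ A := by
    rw [hN] at ha
    exact (Nat.pow_dvd_pow_iff_le_right hp.out.one_lt).1
      (((hp.out.coprime_iff_not_dvd.2 hM).pow_left a).dvd_of_dvd_mul_right ha)
  clear ha
  induction haA using Nat.decreasingInduction with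
  | self =>
    have h : Nat.card {u : G // u ^ p ^ A = 1} = Nat.card {u : G // ∃ k, u ^ p ^ k = 1} :=
      Nat.card_congr (Equiv.subtypeEquivRight fun u =>
        ⟨fun hu => ⟨A, hu⟩, fun ⟨k, hk⟩ => pow_pow_eq_one hN hM hk⟩)
    rw [h]
    exact pow_dvd_card_pElements (Dvd.intro _ hN.symm)
  | of_succ k hk ih =>
    set Z := Finset.univ.filter (fun z : G => z ^ p = 1) with hZ
    have hsplit : Nat.card {u : G // u ^ p ^ (k + 1) = 1} =
        ∑ z ∈ Z, Nat.card {u : G // u ^ p ^ k = z} := by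
      have e : {u : G // u ^ p ^ (k + 1) = 1} ≃ Σ z : {z : G // z ∈ Z}, {u : G // u ^ p ^ k = z.1} :=
        { toFun := fun u => ⟨⟨u.1 ^ p ^ k, by simp [hZ, ← pow_mul, ← pow_succ, u.2]⟩, ⟨u.1, rfl⟩⟩
          invFun := fun s => ⟨s.2.1, by
            have h1 : s.1.1 ^ p = 1 := (Finset.mem_filter.1 s.1.2).2
            rw [pow_succ, pow_mul, s.2.2, h1]⟩
          left_inv := fun u => rfl
          right_inv := fun ⟨⟨z, hz⟩, ⟨u, hu⟩⟩ => Sigma.subtype_ext (Subtype.ext hu) rfl }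
      rw [Nat.card_congr e, Nat.card_sigma, ← Finset.sum_coe_sort Z]
    have h1 : p ^ k ∣ ∑ z ∈ Z.erase 1, Nat.card {u : G // u ^ p ^ k = z} :=
      Finset.dvd_sum fun z hz => by
        obtain ⟨hz1, hz2⟩ := Finset.mem_erase.1 hz
        exact dvd_card_pow_eq_of_ne_one hz1 (j := 1) (by simpa [hZ] using hz2) k
    rw [← Finset.add_sum_erase Z _ (show (1 : G) ∈ Z by simp [hZ])] at hsplit
    exact (Nat.dvd_add_left h1).1 (hsplit ▸ (pow_dvd_pow p (Nat.le_succ k)).trans ih)

theorem gcd_dvd_card_pow_eq {z : G} {j : ℕ} (hz : z ^ p ^ j = 1) (e : ℕ) :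
    Nat.gcd (p ^ e) (Nat.card G) ∣ Nat.card {u : G // u ^ p ^ e = z} := by
  rcases eq_or_ne z 1 with rfl | hz1
  · obtain ⟨s, hse, hs⟩ := (Nat.dvd_prime_pow hp.out).1 (Nat.gcd_dvd_left (p ^ e) (Nat.card G))
    have hsd : p ^ s ∣ Nat.card G := hs ▸ Nat.gcd_dvd_right _ _
    rw [hs]
    rcases hse.eq_or_lt with rfl | hlt
    · exact pow_dvd_card_pow_eq_one hsd
    · have : Nat.card {u : G // u ^ p ^ e = 1} = Nat.card {u : G // ∃ k, u ^ p ^ k = 1} := by
        refine Nat.card_congr (Equiv.subtypeEquivRight fun u => ⟨fun h => ⟨e, h⟩, fun ⟨k, hk⟩ => ?_⟩)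
        obtain ⟨i, -, hi⟩ := (Nat.dvd_prime_pow hp.out).1 (orderOf_dvd_of_pow_eq_one hk)
        refine orderOf_dvd_iff_pow_eq_one.1 (hi ▸ pow_dvd_pow p ?_)
        by_contra hei
        push Not at hei
        have h2 : p ^ e ∣ Nat.card G :=
          (pow_dvd_pow p hei.le).trans (hi ▸ orderOf_dvd_natCard u)
        rw [Nat.gcd_eq_left h2] at hs
        exact hlt.ne ((Nat.pow_right_injective hp.out.two_le) hs.symm)
      rw [this]
      exact pow_dvd_card_pElements hsd
  · exact (Nat.gcd_dvd_left _ _).trans (dvd_card_pow_eq_of_ne_one hz1 hz e)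

theorem pow_dvd_card_pow_eq_central {c : G} (hc : c ∈ Subgroup.center G) {n r : ℕ} (hn0 : n ≠ 0)
    (hrn : p ^ r ∣ n) (hrG : p ^ r ∣ Nat.card G) :
    p ^ r ∣ Nat.card {x : G // x ^ n = c} := by
  classical
  haveI := Fintype.ofFinite G
  obtain ⟨A, M, E, E', hN, hM, hEM, hEA, hsum, hidM, hidA⟩ := exists_exponents p G
  obtain ⟨e₀, k, hk, hne⟩ := Nat.exists_eq_pow_mul_and_not_dvd hn0 p hp.out.ne_one
  obtain ⟨k', hk'⟩ : ∃ k', k * k' ≡ 1 [MOD p ^ A] := by
    have hcop : Nat.Coprime k (p ^ A) := ((hp.out.coprime_iff_not_dvd.2 hk).symm).pow_right A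
    refine ⟨k ^ (Nat.totient (p ^ A) - 1), ?_⟩
    rw [← pow_succ', Nat.sub_add_cancel (Nat.totient_pos.2 (pow_pos hp.out.pos A))]
    exact Nat.ModEq.pow_totient hcop
  have hre : ∀ w : G, w ^ p ^ A = 1 → w ^ (k * k') = w := fun w hw => by
    conv_rhs => rw [← pow_one w]
    exact pow_eq_pow_iff_modEq.2 (hk'.of_dvd (orderOf_dvd_of_pow_eq_one hw))
  set z := (c ^ E') ^ k' with hz
  have hzc : z ∈ Subgroup.center G := pow_mem (pow_mem hc _) _
  have hzA : z ^ p ^ A = 1 := by rw [hz, ← pow_mul, mul_comm, pow_mul, hEA, one_pow]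
  set V := Finset.univ.filter (fun v : G => v ^ M = 1 ∧ v ^ n = c ^ E) with hV
  let f : G → ℕ := fun v => Nat.card {u : G // Commute u v ∧ u ^ p ^ e₀ = z}
  have hsplit : Nat.card {x : G // x ^ n = c} = ∑ v ∈ V, f v := by
    have e : {x : G // x ^ n = c} ≃
        Σ v : {v : G // v ∈ V}, {u : G // Commute u v.1 ∧ u ^ p ^ e₀ = z} :=
      { toFun := fun x => ⟨⟨x.1 ^ E, Finset.mem_filter.2 ⟨Finset.mem_univ _, hEM _, by
            rw [← pow_mul, mul_comm, pow_mul, x.2]⟩⟩, ⟨x.1 ^ E', Commute.pow_pow_self x.1 _ _, by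
            have h1 : ((x.1 ^ E') ^ p ^ e₀) ^ p ^ A = 1 := by
              rw [← pow_mul, mul_comm (p ^ e₀), pow_mul, hEA, one_pow]
            rw [← hre _ h1, hz, pow_mul]
            congr 1
            rw [← pow_mul, ← hne, ← pow_mul, mul_comm, pow_mul, x.2]⟩⟩
        invFun := fun s => ⟨s.2.1 * s.1.1, by
          obtain ⟨-, -, hv⟩ := Finset.mem_filter.1 s.1.2
          rw [s.2.2.1.mul_pow, hv, hne, pow_mul, s.2.2.2, hz, ← pow_mul, mul_comm k',
            hre _ (hEA c), hsum]⟩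
        left_inv := fun x => Subtype.ext (hsum x.1)
        right_inv := fun ⟨⟨v, hv⟩, ⟨u, huv, hu⟩⟩ => by
          obtain ⟨-, hvM, -⟩ := Finset.mem_filter.1 hv
          have huA : u ^ p ^ A = 1 := pow_pow_eq_one hN hM (k := e₀ + A) (by
            rw [pow_add, pow_mul, hu, hzA])
          have h1 : (u * v) ^ E = v := by
            rw [huv.mul_pow, (hidA u huA).2, (hidM v hvM).1, one_mul]
          have h2 : (u * v) ^ E' = u := by
            rw [huv.mul_pow, (hidA u huA).1, (hidM v hvM).2, mul_one]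
          exact Sigma.subtype_ext (Subtype.ext h1) h2 }
    rw [Nat.card_congr e, Nat.card_sigma, ← Finset.sum_coe_sort V]
  rw [hsplit]
  refine dvd_sum_of_conj_invariant ?_ ?_ ?_
  · intro v w hvw hv
    obtain ⟨g, rfl⟩ := isConj_iff.1 hvw
    simp only [hV, Finset.mem_filter, Finset.mem_univ, true_and] at hv ⊢
    refine ⟨by rw [conj_pow, hv.1]; simp, ?_⟩
    rw [conj_pow, hv.2]
    exact mul_inv_eq_iff_eq_mul.2 (Subgroup.mem_center_iff.1 (pow_mem hc E) g)
  · intro v w hvw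
    obtain ⟨g, rfl⟩ := isConj_iff.1 hvw
    exact Nat.card_congr ((MulAut.conj g).toEquiv.subtypeEquiv fun u => by
      show _ ↔ Commute (g * u * g⁻¹) (g * v * g⁻¹) ∧ (g * u * g⁻¹) ^ p ^ e₀ = z
      rw [conj_pow]
      refine and_congr ⟨fun h => h.map (MulAut.conj g).toMonoidHom, fun h => by
          simpa [mul_assoc] using h.map (MulAut.conj g⁻¹).toMonoidHom⟩ ?_
      rw [mul_inv_eq_iff_eq_mul, ← Subgroup.mem_center_iff.1 hzc g]
      exact ⟨fun h => by rw [h], mul_left_cancel⟩)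
  · intro v hv
    set C := Subgroup.centralizer ({v} : Set G) with hC
    have hzC : z ∈ C := Subgroup.center_le_centralizer _ hzc
    have hfC : f v = Nat.card {u : C // u ^ p ^ e₀ = ⟨z, hzC⟩} :=
      Nat.card_congr (
        { toFun := fun u => ⟨⟨u.1, Subgroup.mem_centralizer_iff.2 (by
              rintro _ rfl; exact u.2.1.symm.eq)⟩, Subtype.ext u.2.2⟩
          invFun := fun u => ⟨u.1.1,
            ((Subgroup.mem_centralizer_iff.1 u.1.2 v rfl).symm : u.1.1 * v = v * u.1.1),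
            congrArg Subtype.val u.2⟩
          left_inv := fun u => rfl
          right_inv := fun u => rfl })
    rw [hfC]
    refine dvd_trans ?_ (Nat.mul_dvd_mul_left _
      (gcd_dvd_card_pow_eq (z := (⟨z, hzC⟩ : C)) (j := A) (Subtype.ext hzA) e₀))
    rw [← Nat.gcd_mul_left, C.index_mul_card]
    refine Nat.dvd_gcd (dvd_mul_of_dvd_right ?_ _) hrG
    rw [hne] at hrn
    exact (((hp.out.coprime_iff_not_dvd.2 hk).pow_left r).dvd_of_dvd_mul_right hrn)

end PrimeFixed

/-- Frobenius: for central `c`, the solutions of `x ^ n = c` number a multiple of `gcd n |G|`. -/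
theorem gcd_dvd_card_pow_eq_central {c : G} (hc : c ∈ Subgroup.center G) (n : ℕ) :
    Nat.gcd n (Nat.card G) ∣ Nat.card {x : G // x ^ n = c} := by
  rcases eq_or_ne n 0 with rfl | hn0
  · rcases eq_or_ne c 1 with rfl | hc1
    · rw [Nat.gcd_zero_left, Nat.card_congr (Equiv.subtypeUnivEquiv fun x : G => pow_zero x)]
    · haveI : IsEmpty {x : G // x ^ 0 = c} := ⟨fun x => hc1 (x.2.symm.trans (pow_zero x.1))⟩
      rw [Nat.card_of_isEmpty (α := {x : G // x ^ 0 = c})]
      exact dvd_zero _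
  rw [Nat.dvd_iff_prime_pow_dvd_dvd]
  intro p r hp hpr
  haveI := Fact.mk hp
  exact pow_dvd_card_pow_eq_central hc hn0 (hpr.trans (Nat.gcd_dvd_left _ _))
    (hpr.trans (Nat.gcd_dvd_right _ _))

/-- Frobenius' theorem. -/
theorem dvd_card_pow_eq_one {m : ℕ} (hm : m ∣ Nat.card G) :
    m ∣ Nat.card {g : G // g ^ m = 1} := by
  have := gcd_dvd_card_pow_eq_central (one_mem (Subgroup.center G)) m
  rwa [Nat.gcd_eq_left hm] at this

/-- Frobenius' theorem for a conjugacy class. -/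
theorem gcd_dvd_card_pow_isConj (c : G) (n : ℕ) :
    Nat.gcd (Nat.card {y : G // IsConj c y} * n) (Nat.card G) ∣
      Nat.card {x : G // IsConj c (x ^ n)} := by
  classical
  haveI := Fintype.ofFinite G
  set Z := Subgroup.centralizer ({c} : Set G) with hZ
  have hh : Nat.card {y : G // IsConj c y} = Z.index := by
    rw [hZ, ← card_conjClass]
    exact Nat.card_congr (Equiv.subtypeEquivRight fun y => by
      rw [ConjClasses.mem_carrier_iff_mk_eq, ConjClasses.mk_eq_mk_iff_isConj]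
      exact isConj_comm)
  have hcZ : c ∈ Z := Subgroup.mem_centralizer_iff.2 (by rintro _ rfl; rfl)
  have hcc : (⟨c, hcZ⟩ : Z) ∈ Subgroup.center Z :=
    Subgroup.mem_center_iff.2 fun g => Subtype.ext (Subgroup.mem_centralizer_iff.1 g.2 c rfl).symm
  set m := Nat.card {x : Z // x ^ n = ⟨c, hcZ⟩} with hm
  have hfib : ∀ y : {y : G // IsConj c y}, Nat.card {x : G // x ^ n = y.1} = m := by
    rintro ⟨y, hy⟩
    obtain ⟨g, rfl⟩ := isConj_iff.1 hy
    have e1 : {x : G // x ^ n = c} ≃ {x : Z // x ^ n = ⟨c, hcZ⟩} :=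
      { toFun := fun x => ⟨⟨x.1, Subgroup.mem_centralizer_iff.2 (by
            intro v hv
            have h := (Commute.pow_self x.1 n).eq
            rw [x.2] at h
            rw [Set.mem_singleton_iff.1 hv]
            exact h)⟩, Subtype.ext x.2⟩
        invFun := fun x => ⟨x.1.1, congrArg Subtype.val x.2⟩
        left_inv := fun x => rfl
        right_inv := fun x => rfl }
    rw [hm, ← Nat.card_congr e1]
    refine (Nat.card_congr ((MulAut.conj g).toEquiv.subtypeEquiv fun x => ?_)).symm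
    show x ^ n = c ↔ (g * x * g⁻¹) ^ n = g * c * g⁻¹
    rw [conj_pow]
    exact ⟨fun h => by rw [h], fun h => mul_left_cancel (mul_right_cancel h)⟩
  have e : {x : G // IsConj c (x ^ n)} ≃ Σ y : {y : G // IsConj c y}, {x : G // x ^ n = y.1} :=
    { toFun := fun x => ⟨⟨x.1 ^ n, x.2⟩, ⟨x.1, rfl⟩⟩
      invFun := fun s => ⟨s.2.1, s.2.2.symm ▸ s.1.2⟩
      left_inv := fun x => rfl
      right_inv := fun ⟨⟨y, hy⟩, ⟨x, hx⟩⟩ => Sigma.subtype_ext (Subtype.ext hx) rfl }
  rw [Nat.card_congr e, Nat.card_sigma, Finset.sum_congr rfl (fun y _ => hfib y), Finset.sum_const,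
    Finset.card_univ, ← Nat.card_eq_fintype_card, smul_eq_mul, hh, ← Z.index_mul_card,
    Nat.gcd_mul_left]
  exact Nat.mul_dvd_mul_left _ (gcd_dvd_card_pow_eq_central hcc n)

end CfsgLib.Base.Solutions
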