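import Mathlib
import Cfsg.Agent.S0007
import Cfsg.Agent.Lib.Base.MinimalNormal
import Cfsg.Agent.Lib.Coprime.Hall
import Cfsg.Agent.Lib.Chars.Burnside

/-!
Wielandt's solubility criterion for factorised groups, Hall's converse (Hall `p`-complements for
all primes imply solubility), and Sylow systems.
-/

set_option autoImplicit false
set_option linter.style.haveILetI false

namespace CfsgLib.Base

open scoped Pointwise

universe u

theorem isSolvable_of_normal {G : Type u} [Group G] (N : Subgroup G) [N.Normal]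
    (h : Group.IsSolvable N) (h' : Group.IsSolvable (G ⧸ N)) : Group.IsSolvable G := by
    exact (Group.isSolvable_iff_subgroup_quotient N).2 ⟨h, h'⟩

theorem isSolvable_map' {G L : Type*} [Group G] [Group L] (f : G →* L) {H : Subgroup G}
    (h : Group.IsSolvable H) : Group.IsSolvable (H.map f) := by
  haveI := h
  exact Group.isSolvable_of_surjective (f.subgroupMap_surjective H)

theorem isSolvable_of_le' {G : Type*} [Group G] {H K : Subgroup G} (hle : H ≤ K)
    (h : Group.IsSolvable K) : Group.IsSolvable H := by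
  haveI := h
  exact Group.isSolvable_of_isSolvable_injective (Subgroup.inclusion_injective hle)

/-- If `G = H₁H₂ = H₁H₃` with solvable factors and `H₂`, `H₃` of coprime index then `G` is
solvable. -/
theorem isSolvable_of_factorisations {G : Type u} [Group G] [Finite G] (H₁ H₂ H₃ : Subgroup G)
    (h₁ : Group.IsSolvable H₁) (h₂ : Group.IsSolvable H₂) (h₃ : Group.IsSolvable H₃)
    (h12 : ∀ g : G, ∃ x ∈ H₁, ∃ y ∈ H₂, g = x * y)
    (h13 : ∀ g : G, ∃ x ∈ H₁, ∃ y ∈ H₃, g = x * y)
    (hcop : H₂.index.Coprime H₃.index) : Group.IsSolvable G := by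
  induction hn : Nat.card G using Nat.strong_induction_on generalizing G with
  | _ n ih =>
  subst hn
  suffices h : ∃ N : Subgroup G, N.Normal ∧ Group.IsSolvable N ∧ (N ≠ ⊥ ∨ Group.IsSolvable G) by
    obtain ⟨N, hN, hs, h | h⟩ := h
    · haveI := hN
      refine isSolvable_of_normal N hs ?_
      have hlt : Nat.card (G ⧸ N) < Nat.card G := by
        rw [← card_mul_card_quotient N]
        exact lt_mul_of_one_lt_left Nat.card_pos ((Subgroup.one_lt_card_iff_ne_bot N).2 h)
      have himg : ∀ K : Subgroup G, (∀ g : G, ∃ x ∈ H₁, ∃ y ∈ K, g = x * y) →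
          ∀ g : G ⧸ N, ∃ x ∈ H₁.map (QuotientGroup.mk' N),
            ∃ y ∈ K.map (QuotientGroup.mk' N), g = x * y := by
        intro K hK g
        obtain ⟨g, rfl⟩ := QuotientGroup.mk'_surjective N g
        obtain ⟨x, hx, y, hy, rfl⟩ := hK g
        exact ⟨_, ⟨x, hx, rfl⟩, _, ⟨y, hy, rfl⟩, map_mul _ _ _⟩
      exact ih _ hlt _ _ _ (isSolvable_map' _ h₁) (isSolvable_map' _ h₂) (isSolvable_map' _ h₃)
        (himg _ h12) (himg _ h13)
        ((hcop.coprime_dvd_left (Subgroup.index_map_dvd _ (QuotientGroup.mk'_surjective N))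
          ).coprime_dvd_right (Subgroup.index_map_dvd _ (QuotientGroup.mk'_surjective N))) rfl
    · exact h
  by_cases hH1 : H₁ = ⊥
  · refine ⟨⊥, inferInstance, inferInstance, Or.inr ?_⟩
    have : H₂ = ⊤ := by
      rw [eq_top_iff]
      intro g _
      obtain ⟨x, hx, y, hy, rfl⟩ := h12 g
      rw [hH1, Subgroup.mem_bot] at hx
      subst hx
      simpa using hy
    rw [this] at h₂
    haveI := h₂
    exact Group.isSolvable_of_surjective (f := (⊤ : Subgroup G).subtype) fun x => ⟨⟨x, trivial⟩, rfl⟩
  haveI : Nontrivial H₁ := (Subgroup.nontrivial_iff_ne_bot H₁).2 hH1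
  haveI := h₁
  obtain ⟨A', hA'⟩ := exists_isMinimalNormal (G := H₁)
  haveI := hA'.normal
  obtain ⟨p, hp, -, -, hP'⟩ := hA'.exists_prime inferInstance
  haveI := Fact.mk hp
  let A := A'.map H₁.subtype
  have hAne : A ≠ ⊥ := fun h => hA'.ne_bot
    ((Subgroup.map_eq_bot_iff_of_injective _ H₁.subtype_injective).1 h)
  have hA1 : H₁ ≤ Subgroup.normalizer (A : Set G) := by
    intro x hx
    rw [← map_conj_eq_self_iff]
    have h := (map_conj_eq_self_iff (g := (⟨x, hx⟩ : H₁)) (H := A')).2
      (Subgroup.normalizer_eq_top (H := A') ▸ Subgroup.mem_top _)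
    conv_rhs => rw [show A = A'.map H₁.subtype from rfl, ← h, Subgroup.map_map]
    rw [Subgroup.map_map]
    rfl
  suffices key : ∀ K : Subgroup G, Group.IsSolvable K →
      (∀ g : G, ∃ x ∈ H₁, ∃ y ∈ K, g = x * y) → ¬ p ∣ K.index →
      ∃ N : Subgroup G, N.Normal ∧ Group.IsSolvable N ∧ (N ≠ ⊥ ∨ Group.IsSolvable G) by
    by_cases hd : p ∣ H₂.index
    · exact key H₃ h₃ h13 fun h =>
        hp.one_lt.ne' (Nat.eq_one_of_dvd_coprimes hcop hd h)
    · exact key H₂ h₂ h12 hd
  intro K hK hfac hdvd
  obtain ⟨S, hS⟩ := (hP'.map H₁.subtype).exists_le_sylow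
  obtain ⟨T⟩ := (inferInstance : Nonempty (Sylow p K))
  obtain ⟨T', hT'⟩ := T.exists_comap_subtype_eq
  have hT'K : (T' : Subgroup G) ≤ K := by
    have h2 : Nat.card T = Nat.card (T' : Subgroup G) := by
      rw [T.card_eq_multiplicity, T'.card_eq_multiplicity, ← K.card_mul_index,
        Nat.factorization_mul Nat.card_pos.ne' Subgroup.index_ne_zero_of_finite]
      simp [Nat.factorization_eq_zero_of_not_dvd hdvd]
    have h3 : (T : Subgroup K).map K.subtype = (T' : Subgroup G) := by
      refine Subgroup.eq_of_le_of_card_ge ?_ (by rw [card_map_subtype]; exact h2.ge)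
      rw [← hT']
      exact Subgroup.map_comap_le _ _
    rw [← h3]
    exact Subgroup.map_subtype_le _
  obtain ⟨g, hg⟩ := MulAction.exists_smul_eq G S T'
  have hAg : A.map (MulAut.conj g).toMonoidHom ≤ K := by
    refine (Subgroup.map_mono hS).trans (le_trans ?_ hT'K)
    rw [← hg]
    rfl
  have hall : ∀ h : G, A.map (MulAut.conj h).toMonoidHom ≤ K := by
    intro h
    obtain ⟨x, hx, y, hy, he⟩ := hfac g⁻¹
    obtain ⟨x', hx', y', hy', he'⟩ := hfac h⁻¹
    rintro _ ⟨a, ha, rfl⟩
    have hz := (Subgroup.mem_normalizer_iff.1 (hA1 (H₁.mul_mem hx (H₁.inv_mem hx'))) a).1 ha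
    have hmem : g * (x * x'⁻¹ * a * (x * x'⁻¹)⁻¹) * g⁻¹ ∈ K := hAg ⟨_, hz, rfl⟩
    have hg' : g = y⁻¹ * x⁻¹ := by
      rw [← inv_inv g, he, mul_inv_rev]
    have hh' : h = y'⁻¹ * x'⁻¹ := by
      rw [← inv_inv h, he', mul_inv_rev]
    have : (MulAut.conj h).toMonoidHom a =
        (y'⁻¹ * y) * (g * (x * x'⁻¹ * a * (x * x'⁻¹)⁻¹) * g⁻¹) * (y'⁻¹ * y)⁻¹ := by
      rw [MulEquiv.coe_toMonoidHom, MulAut.conj_apply, hg', hh']
      group
    rw [this]
    exact K.mul_mem (K.mul_mem (K.mul_mem (K.inv_mem hy') hy) hmem)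
      (K.inv_mem (K.mul_mem (K.inv_mem hy') hy))
  refine ⟨Subgroup.normalClosure (A : Set G), inferInstance, ?_, Or.inl ?_⟩
  · refine isSolvable_of_le' ?_ hK
    rw [Subgroup.normalClosure, Subgroup.closure_le]
    intro x hx
    obtain ⟨a, ha, hc⟩ := Group.mem_conjugatesOfSet_iff.1 hx
    obtain ⟨c, rfl⟩ := isConj_iff.1 hc
    exact hall c ⟨a, ha, rfl⟩
  · exact fun h => hAne (le_bot_iff.1 (h ▸ Subgroup.subset_normalClosure))

/-- The index of a Hall `p`-complement. -/
theorem index_eq_ordProj {G : Type*} [Group G] [Finite G] {p : ℕ} (hp : p.Prime) (H : Subgroup G)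
    (h1 : ∀ q : ℕ, q.Prime → q ∣ H.index → q = p) (h2 : ¬ p ∣ Nat.card H) :
    H.index = p ^ (Nat.card G).factorization p := by
  have h := Nat.eq_prime_pow_of_unique_prime_dvd (Subgroup.index_ne_zero_of_finite (H := H))
    fun {d} hd hdd => h1 d hd hdd
  generalize H.index.primeFactorsList.length = k at h
  rw [h, ← H.card_mul_index, h, Nat.factorization_mul Nat.card_pos.ne'
    (pow_ne_zero _ hp.ne_zero)]
  simp [Nat.factorization_eq_zero_of_not_dvd h2, hp.factorization_self]

/-- Hall's converse: a finite group with Hall `p`-complements for all `p` is solvable. -/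
theorem isSolvable_of_pComplements {G : Type u} [Group G] [Finite G]
    (h : ∀ p : ℕ, p.Prime → ∃ H : Subgroup G, H.index = p ^ (Nat.card G).factorization p) :
    Group.IsSolvable G := by
  induction hn : Nat.card G using Nat.strong_induction_on generalizing G with
  | _ n ih =>
  subst hn
  by_cases h3 : (Nat.card G).primeFactors.card ≤ 2
  · by_cases hG : (Nat.card G).primeFactors = ∅
    · refine CfsgLib.Chars.isSolvable_of_primeFactors_pair 2 2 fun r hr hd => ?_
      exact absurd (Nat.mem_primeFactors.2 ⟨hr, hd, Nat.card_pos.ne'⟩) (by simp [hG])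
    · obtain ⟨p, hp⟩ := Finset.nonempty_of_ne_empty hG
      obtain ⟨q, hq⟩ : ∃ q, (Nat.card G).primeFactors ⊆ {p, q} := by
        by_cases hs : (Nat.card G).primeFactors ⊆ {p}
        · exact ⟨p, hs.trans (by simp)⟩
        · obtain ⟨q, hq, hqp⟩ := Finset.not_subset.1 hs
          refine ⟨q, (Finset.eq_of_subset_of_card_le ?_ ?_).ge⟩
          · exact Finset.insert_subset hp (Finset.singleton_subset_iff.2 hq)
          · rw [Finset.card_pair]
            · exact h3
            · simpa [eq_comm] using hqp
      refine CfsgLib.Chars.isSolvable_of_primeFactors_pair p q fun r hr hd => ?_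
      simpa using hq (Nat.mem_primeFactors.2 ⟨hr, hd, Nat.card_pos.ne'⟩)
  have hsub : ∀ p : ℕ, p ∈ (Nat.card G).primeFactors → ∀ K : Subgroup G,
      K.index = p ^ (Nat.card G).factorization p → Group.IsSolvable K := by
    intro p hp K hK
    obtain ⟨hpp, hd, -⟩ := Nat.mem_primeFactors.1 hp
    have hpos : 0 < (Nat.card G).factorization p :=
      hpp.factorization_pos_of_dvd Nat.card_pos.ne' hd
    have hcard := K.card_mul_index
    rw [hK] at hcard
    have hlt : Nat.card K < Nat.card G := by
      rw [← hcard]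
      exact lt_mul_of_one_lt_right Nat.card_pos (Nat.one_lt_pow hpos.ne' hpp.one_lt)
    have hfac : ∀ q : ℕ, q ≠ p →
        (Nat.card K).factorization q = (Nat.card G).factorization q := by
      intro q hqp
      rw [← hcard, Nat.factorization_mul Nat.card_pos.ne' (pow_ne_zero _ hpp.ne_zero)]
      simp [hpp.factorization, Finsupp.single_apply, hqp.symm]
    have hfacp : (Nat.card K).factorization p = 0 := by
      have := congrArg (fun m => m.factorization p) hcard
      simp only [Nat.factorization_mul Nat.card_pos.ne' (pow_ne_zero _ hpp.ne_zero)] at this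
      simp [hpp.factorization_self] at this
      exact this
    refine ih _ hlt (fun q hq => ?_) rfl
    by_cases hqp : q = p
    · subst hqp
      exact ⟨⊤, by rw [hfacp, pow_zero, Subgroup.index_top]⟩
    · obtain ⟨L, hL⟩ := h q hq
      refine ⟨L.subgroupOf K, ?_⟩
      have hco : L.index.Coprime K.index := by
        rw [hL, hK]
        exact Nat.Coprime.pow _ _ ((Nat.coprime_primes hq hpp).2 hqp)
      have h7 := (Cfsg.Agent.S0007.result L K hco).1
      have hmul : (L ⊓ K).relIndex K * K.index = (L ⊓ K).index :=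
        Subgroup.relIndex_mul_index inf_le_right
      rw [Subgroup.inf_relIndex_right, h7] at hmul
      rw [hfac q hqp, ← hL]
      exact Nat.eq_of_mul_eq_mul_right (Nat.pos_of_ne_zero Subgroup.index_ne_zero_of_finite) hmul
  push Not at h3
  obtain ⟨p, q, r, hp, hq, hr, hpq, hpr, hqr⟩ := Finset.two_lt_card_iff.1 h3
  have hh := fun (s : ℕ) (hs : s ∈ (Nat.card G).primeFactors) => h s (Nat.prime_of_mem_primeFactors hs)
  obtain ⟨P, hP⟩ := hh p hp
  obtain ⟨Q, hQ⟩ := hh q hq
  obtain ⟨R, hR⟩ := hh r hr
  have hc : ∀ {a b : ℕ} {A B : Subgroup G}, a ∈ (Nat.card G).primeFactors →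
      b ∈ (Nat.card G).primeFactors → a ≠ b → A.index = a ^ (Nat.card G).factorization a →
      B.index = b ^ (Nat.card G).factorization b → A.index.Coprime B.index :=
    fun ha hb hab hA hB => by
      rw [hA, hB]
      exact Nat.Coprime.pow _ _ ((Nat.coprime_primes (Nat.prime_of_mem_primeFactors ha)
        (Nat.prime_of_mem_primeFactors hb)).2 hab)
  exact isSolvable_of_factorisations P Q R (hsub p hp P hP) (hsub q hq Q hQ) (hsub r hr R hR)
    (Cfsg.Agent.S0007.result P Q (hc hp hq hpq hP hQ)).2
    (Cfsg.Agent.S0007.result P R (hc hp hr hpr hP hR)).2 (hc hq hr hqr hQ hR)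

/-- Hall `p`-complements exist in finite solvable groups. -/
theorem exists_pComplement {G : Type u} [Group G] [Finite G] [Group.IsSolvable G] {p : ℕ}
    (hp : p.Prime) : ∃ H : Subgroup G, H.index = p ^ (Nat.card G).factorization p := by
  obtain ⟨H, ⟨h1, h2⟩, -⟩ := CfsgLib.Coprime.hallD_of_solvable (G := G) ({p}ᶜ : Set ℕ)
  refine ⟨H, index_eq_ordProj hp H (fun q hq hd => ?_) fun hd => h1 p hp hd rfl⟩
  by_contra hne
  exact h2 q hq hne hd

/-- Sylow systems give Hall `p`-complements. -/
theorem pComplement_of_sylowSystem {G : Type u} [Group G] [Finite G]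
    (S : (p : Nat.Primes) → Sylow (p : ℕ) G)
    (hS : ∀ p q : Nat.Primes, (S p : Set G) * (S q : Set G) = (S q : Set G) * (S p : Set G))
    (p : ℕ) (hp : p.Prime) :
    ∃ H : Subgroup G, H.index = p ^ (Nat.card G).factorization p := by
  classical
  have key : ∀ s : Finset Nat.Primes, ∃ K : Subgroup G,
      Nat.card K = ∏ q ∈ s, Nat.card (S q) ∧
      ∀ q : Nat.Primes, (S q : Set G) * (K : Set G) = (K : Set G) * (S q : Set G) := by
    intro s
    induction s using Finset.induction_on with
    | empty => exact ⟨⊥, by simp, fun q => by simp⟩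
    | insert a s ha ih =>
      obtain ⟨K, hK, hperm⟩ := ih
      let A : Subgroup G := S a
      let M : Subgroup G :=
        { carrier := (A : Set G) * (K : Set G)
          one_mem' := ⟨1, A.one_mem, 1, K.one_mem, one_mul 1⟩
          mul_mem' := fun {x y} hx hy => by
            have h : ((A : Set G) * (K : Set G)) * ((A : Set G) * (K : Set G)) =
                (A : Set G) * (K : Set G) :=
              calc (A : Set G) * (K : Set G) * ((A : Set G) * (K : Set G))
                  = (A : Set G) * ((K : Set G) * (A : Set G)) * (K : Set G) := by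
                    simp only [mul_assoc]
                _ = (A : Set G) * ((A : Set G) * (K : Set G)) * (K : Set G) := by
                    rw [show (K : Set G) * (A : Set G) = (A : Set G) * (K : Set G) from
                      (hperm a).symm]
                _ = ((A : Set G) * (A : Set G)) * ((K : Set G) * (K : Set G)) := by
                    simp only [mul_assoc]
                _ = _ := by rw [coe_mul_coe, coe_mul_coe]
            exact h ▸ Set.mul_mem_mul hx hy
          inv_mem' := fun {x} hx => by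
            obtain ⟨u, hu, v, hv, rfl⟩ := hx
            show (u * v)⁻¹ ∈ (A : Set G) * (K : Set G)
            rw [show (A : Set G) * (K : Set G) = (K : Set G) * (A : Set G) from hperm a]
            exact ⟨v⁻¹, K.inv_mem hv, u⁻¹, A.inv_mem hu, (mul_inv_rev u v).symm⟩ }
      refine ⟨M, ?_, fun q => ?_⟩
      · have hinf : A ⊓ K = ⊥ := inf_eq_bot_of_coprime (by
          rw [hK]
          refine Nat.Coprime.prod_right fun q hq => ?_
          haveI := Fact.mk a.2
          haveI := Fact.mk q.2
          exact IsPGroup.coprime_card_of_ne (a : ℕ) (q : ℕ)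
            (fun e => ha ((Subtype.ext e : a = q) ▸ hq)) (S a : Subgroup G) (S q : Subgroup G)
            (S a).isPGroup' (S q).isPGroup')
        rw [Finset.prod_insert ha, ← hK]
        rw [← Nat.card_prod A K]
        refine (Nat.card_congr (Equiv.ofBijective
          (fun x : A × K => (⟨x.1 * x.2, Set.mul_mem_mul x.1.2 x.2.2⟩ : M)) ⟨?_, ?_⟩)).symm
        · intro x y hxy
          exact Subgroup.mul_injective_of_disjoint (disjoint_iff.2 hinf) (congrArg Subtype.val hxy)
        · rintro ⟨_, u, hu, v, hv, rfl⟩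
          exact ⟨(⟨u, hu⟩, ⟨v, hv⟩), rfl⟩
      · show (S q : Set G) * ((S a : Set G) * (K : Set G)) =
          ((S a : Set G) * (K : Set G)) * (S q : Set G)
        rw [← mul_assoc, hS q a, mul_assoc, hperm q, ← mul_assoc]
  let T : Finset Nat.Primes := (Nat.card G).primeFactors.subtype Nat.Prime
  have hT : ∀ q : Nat.Primes, q ∈ T ↔ (q : ℕ) ∈ (Nat.card G).primeFactors := fun q =>
    Finset.mem_subtype
  obtain ⟨K, hK, -⟩ := key (T.erase ⟨p, hp⟩)
  have hprime : ∀ r : ℕ, r.Prime → r ∣ Nat.card K →
      r ∈ (Nat.card G).primeFactors ∧ r ≠ p := by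
    intro r hr hd
    rw [hK] at hd
    obtain ⟨q, hq, hqd⟩ := (Prime.dvd_finset_prod_iff hr.prime _).1 hd
    haveI := Fact.mk q.2
    rw [(S q).card_eq_multiplicity] at hqd
    have := (Nat.prime_dvd_prime_iff_eq hr q.2).1 (hr.dvd_of_dvd_pow hqd)
    obtain ⟨hq1, hq2⟩ := Finset.mem_erase.1 hq
    exact ⟨this ▸ (hT q).1 hq2, fun e => hq1 (Subtype.ext (this.symm.trans e))⟩
  refine ⟨K, index_eq_ordProj hp K (fun r hr hd => ?_) fun hd => (hprime p hp hd).2 rfl⟩
  by_contra hne
  haveI := Fact.mk hr
  have hr' : r ∣ Nat.card G := hd.trans (Subgroup.index_dvd_card K)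
  have h1 : Nat.card (S ⟨r, hr⟩) ∣ Nat.card K := by
    rw [hK]
    refine Finset.dvd_prod_of_mem (fun q : Nat.Primes => Nat.card (S q)) ?_
    exact Finset.mem_erase.2 ⟨fun e => hne (congrArg Subtype.val e),
      (hT _).2 (Nat.mem_primeFactors.2 ⟨hr, hr', Nat.card_pos.ne'⟩)⟩
  rw [Sylow.card_eq_multiplicity] at h1
  exact Nat.pow_succ_factorization_not_dvd Nat.card_pos.ne' hr
    (by rw [pow_succ, ← K.card_mul_index]; exact mul_dvd_mul (by simpa [K.card_mul_index] using h1) hd)

/-- Finite solvable groups have Sylow systems. -/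
theorem exists_sylowSystem {G : Type u} [Group G] [Finite G] [Group.IsSolvable G] :
    ∃ S : (p : Nat.Primes) → Sylow (p : ℕ) G,
      ∀ p q : Nat.Primes, (S p : Set G) * (S q : Set G) = (S q : Set G) * (S p : Set G) := by
  classical
  have hex : ∀ p : Nat.Primes, ∃ H : Subgroup G,
      H.index = (p : ℕ) ^ (Nat.card G).factorization p := fun p => exists_pComplement p.2
  choose K hK using hex
  let P : Finset Nat.Primes := (Nat.card G).primeFactors.subtype Nat.Prime
  have hP : ∀ q : Nat.Primes, q ∈ P ↔ (q : ℕ) ∈ (Nat.card G).primeFactors := fun q =>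
    Finset.mem_subtype
  let I : Finset Nat.Primes → Subgroup G := fun s => (P \ s).inf K
  have hidx : ∀ s : Finset Nat.Primes, (s.inf K).index =
      ∏ q ∈ s, (q : ℕ) ^ (Nat.card G).factorization q := by
    intro s
    induction s using Finset.induction_on with
    | empty => simp
    | insert a s ha ih =>
      rw [Finset.inf_insert, Finset.prod_insert ha, ← hK a, ← ih]
      refine (Cfsg.Agent.S0007.result _ _ ?_).1
      rw [ih, hK a]
      exact Nat.Coprime.prod_right fun q hq => Nat.Coprime.pow _ _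
        ((Nat.coprime_primes a.2 q.2).2 fun e => ha ((Subtype.ext e : a = q) ▸ hq))
  have hprod : ∀ s : Finset Nat.Primes,
      Nat.card (I s) = ∏ q ∈ P.filter (· ∈ s), (q : ℕ) ^ (Nat.card G).factorization q := by
    intro s
    have h := (I s).card_mul_index
    rw [show (I s).index = _ from hidx (P \ s)] at h
    have hall : Nat.card G = ∏ q ∈ P, (q : ℕ) ^ (Nat.card G).factorization q := by
      conv_lhs => rw [← Nat.prod_factorization_pow_eq_self Nat.card_pos.ne']
      rw [Finsupp.prod, Nat.support_factorization]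
      exact (Finset.prod_subtype_of_mem
        (fun x : ℕ => x ^ (Nat.card G).factorization x)
        (fun x hx => Nat.prime_of_mem_primeFactors hx)).symm
    have h := h.trans hall
    refine Nat.eq_of_mul_eq_mul_right ?_ (h.trans ?_)
    · exact Finset.prod_pos fun q _ => pow_pos q.2.pos _
    · rw [← Finset.prod_filter_mul_prod_filter_not P (· ∈ s)]
      congr 2
      ext q
      simp
  have hcard1 : ∀ p : Nat.Primes,
      Nat.card (I {p}) = (p : ℕ) ^ (Nat.card G).factorization p := by
    intro p
    rw [hprod]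
    by_cases hpP : p ∈ P
    · rw [show P.filter (· ∈ ({p} : Finset Nat.Primes)) = {p} by ext q; simp +contextual [hpP],
        Finset.prod_singleton]
    · have h0 : (Nat.card G).factorization p = 0 := by
        rw [← Finsupp.notMem_support_iff, Nat.support_factorization]
        exact fun h => hpP ((hP p).2 h)
      rw [show P.filter (· ∈ ({p} : Finset Nat.Primes)) = ∅ by
        ext q; simp only [Finset.mem_filter, Finset.mem_singleton, Finset.notMem_empty,
          iff_false, not_and]; rintro hq rfl; exact hpP hq, Finset.prod_empty, h0, pow_zero]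
  refine ⟨fun p => haveI := Fact.mk p.2; Sylow.ofCard (I {p}) (hcard1 p), fun p q => ?_⟩
  rcases eq_or_ne p q with rfl | hne
  · rfl
  have heq : ∀ a b : Nat.Primes, a ≠ b →
      (I {a} : Set G) * (I {b} : Set G) = (I ({a, b} : Finset _) : Set G) := by
    intro a b hab
    have hle : ∀ c ∈ ({a, b} : Finset Nat.Primes), I {c} ≤ I {a, b} := fun c hc =>
      Finset.inf_mono (by
        intro x hx
        simp only [Finset.mem_sdiff, Finset.mem_singleton] at hx ⊢
        exact ⟨hx.1, fun e => hx.2 (e ▸ hc)⟩)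
    have hsub : (I {a} : Set G) * (I {b} : Set G) ⊆ (I {a, b} : Set G) := by
      rintro _ ⟨x, hx, y, hy, rfl⟩
      exact mul_mem (hle a (by simp) hx) (hle b (by simp) hy)
    refine Set.eq_of_subset_of_ncard_le hsub ?_ (Set.toFinite _)
    rw [← Nat.card_coe_set_eq, ← Nat.card_coe_set_eq]
    refine le_of_eq ?_
    have hdis : Disjoint (I {a}) (I {b}) := by
      rw [disjoint_iff]
      refine inf_eq_bot_of_coprime ?_
      rw [hcard1, hcard1]
      exact Nat.Coprime.pow _ _ ((Nat.coprime_primes a.2 b.2).2 fun e => hab (Subtype.ext e))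
    rw [show Nat.card ((I {a} : Set G) * (I {b} : Set G) : Set G) =
        Nat.card (I {a}) * Nat.card (I {b}) by
      rw [← Nat.card_prod]
      refine (Nat.card_congr (Equiv.ofBijective (fun x : (I {a}) × (I {b}) =>
        (⟨x.1 * x.2, Set.mul_mem_mul x.1.2 x.2.2⟩ :
          ((I {a} : Set G) * (I {b} : Set G) : Set G))) ⟨?_, ?_⟩)).symm
      · intro x y hxy
        exact Subgroup.mul_injective_of_disjoint hdis (congrArg Subtype.val hxy)
      · rintro ⟨_, u, hu, v, hv, rfl⟩
        exact ⟨(⟨u, hu⟩, ⟨v, hv⟩), rfl⟩]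
    show Nat.card (I {a, b}) = _
    rw [hprod, hcard1, hcard1]
    have hpow : ∀ c : Nat.Primes, c ∉ P → (c : ℕ) ^ (Nat.card G).factorization c = 1 := by
      intro c hc
      have h0 : (Nat.card G).factorization c = 0 := by
        rw [← Finsupp.notMem_support_iff, Nat.support_factorization]
        exact fun h => hc ((hP c).2 h)
      rw [h0, pow_zero]
    rw [show P.filter (· ∈ ({a, b} : Finset Nat.Primes)) =
        ({a, b} : Finset Nat.Primes).filter (· ∈ P) by ext q; simp [and_comm],
      Finset.prod_filter_of_ne (fun c _ hc => by by_contra h; exact hc (hpow c h)),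
      Finset.prod_pair hab]
  show (I {p} : Set G) * (I {q} : Set G) = (I {q} : Set G) * (I {p} : Set G)
  rw [heq p q hne, heq q p hne.symm, Finset.pair_comm]

end CfsgLib.Base
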