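import Mathlib
import Cfsg.Agent.Lib.Base.Transport

/-!
Itô's theorem on products of two abelian subgroups, and Schmidt's solubility theorem.
-/

set_option autoImplicit false
set_option linter.style.haveILetI false

namespace CfsgLib.Base

universe u

section Ito

variable {G : Type*} [Group G]

/-- Itô: the derived subgroup of a product of two abelian subgroups is abelian. -/
theorem isSolvable_of_abelian_factorisation (A B : Subgroup G)
    [IsMulCommutative A] [IsMulCommutative B] (hAB : ∀ g : G, ∃ a ∈ A, ∃ b ∈ B, g = a * b) :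
    Group.IsSolvable G := by
  have hA : ∀ a ∈ A, ∀ a' ∈ A, a * a' = a' * a := fun a ha a' ha' =>
    congrArg Subtype.val ((inferInstance : IsMulCommutative A).is_comm.comm ⟨a, ha⟩ ⟨a', ha'⟩)
  have hB : ∀ b ∈ B, ∀ b' ∈ B, b * b' = b' * b := fun b hb b' hb' =>
    congrArg Subtype.val ((inferInstance : IsMulCommutative B).is_comm.comm ⟨b, hb⟩ ⟨b', hb'⟩)
  have hBA : ∀ g : G, ∃ b ∈ B, ∃ a ∈ A, g = b * a := fun g => by
    obtain ⟨a, ha, b, hb, he⟩ := hAB g⁻¹
    exact ⟨b⁻¹, B.inv_mem hb, a⁻¹, A.inv_mem ha, by rw [← mul_inv_rev, ← he, inv_inv]⟩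
  let c : G → G → G := fun x y => x⁻¹ * y⁻¹ * x * y
  let S : Set G := {x | ∃ a ∈ A, ∃ b ∈ B, x = c a b}
  -- the two conjugation rules
  have conjA : ∀ a ∈ A, ∀ a' ∈ A, ∀ b ∈ B, ∀ a₂ ∈ A, ∀ b₂ ∈ B, a'⁻¹ * b * a' = a₂ * b₂ →
      a'⁻¹ * c a b * a' = c a b₂ := by
    intro a ha a' ha' b _ a₂ ha₂ b₂ _ he
    have e1 : b * a' = a' * (a₂ * b₂) := by rw [← he]; group
    calc a'⁻¹ * c a b * a' = a'⁻¹ * a⁻¹ * b⁻¹ * a * (b * a') := by simp only [c]; group
      _ = (a'⁻¹ * a⁻¹) * b⁻¹ * (a * a') * (a₂ * b₂) := by rw [e1]; group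
      _ = (a * a')⁻¹ * b⁻¹ * (a * a') * (a₂ * b₂) := by rw [mul_inv_rev]
      _ = (a' * a)⁻¹ * b⁻¹ * (a' * a) * (a₂ * b₂) := by rw [hA a ha a' ha']
      _ = a⁻¹ * (a'⁻¹ * b * a')⁻¹ * (a * a₂) * b₂ := by group
      _ = a⁻¹ * (a₂ * b₂)⁻¹ * (a₂ * a) * b₂ := by rw [he, hA a ha a₂ ha₂]
      _ = c a b₂ := by simp only [c]; group
  have conjB : ∀ a ∈ A, ∀ b ∈ B, ∀ b' ∈ B, ∀ b₃ ∈ B, ∀ a₃ ∈ A, b'⁻¹ * a * b' = b₃ * a₃ →
      b'⁻¹ * c a b * b' = c a₃ b := by
    intro a _ b hb b' hb' b₃ hb₃ a₃ _ he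
    calc b'⁻¹ * c a b * b' = (b'⁻¹ * a⁻¹) * b⁻¹ * a * (b * b') := by simp only [c]; group
      _ = (b'⁻¹ * a⁻¹) * b⁻¹ * a * (b' * b) := by rw [hB b hb b' hb']
      _ = (b'⁻¹ * a * b')⁻¹ * (b * b')⁻¹ * (b' * (b'⁻¹ * a * b')) * b := by group
      _ = (b₃ * a₃)⁻¹ * (b' * b)⁻¹ * (b' * (b₃ * a₃)) * b := by rw [he, hB b hb b' hb']
      _ = a₃⁻¹ * b₃⁻¹ * (b⁻¹ * b₃) * a₃ * b := by group
      _ = a₃⁻¹ * b₃⁻¹ * (b₃ * b⁻¹) * a₃ * b := by rw [hB b⁻¹ (B.inv_mem hb) b₃ hb₃]
      _ = c a₃ b := by simp only [c]; group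
  have hcomm : ∀ x ∈ S, ∀ y ∈ S, x * y = y * x := by
    rintro _ ⟨a, ha, b, hb, rfl⟩ _ ⟨p, hp, q, hq, rfl⟩
    obtain ⟨a₂, ha₂, b₂, hb₂, he₂⟩ := hAB (p * b * p⁻¹)
    obtain ⟨b₃, hb₃, a₃, ha₃, he₃⟩ := hBA (q * a * q⁻¹)
    -- conjugate by `p⁻¹ q⁻¹` and by `q⁻¹ p⁻¹`
    have h1 := conjA a ha p⁻¹ (A.inv_mem hp) b hb a₂ ha₂ b₂ hb₂ (by rw [inv_inv, he₂])
    have h2 := conjB a ha b₂ hb₂ q⁻¹ (B.inv_mem hq) b₃ hb₃ a₃ ha₃ (by rw [inv_inv, he₃])
    have h3 := conjB a ha b hb q⁻¹ (B.inv_mem hq) b₃ hb₃ a₃ ha₃ (by rw [inv_inv, he₃])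
    have h4 := conjA a₃ ha₃ p⁻¹ (A.inv_mem hp) b hb a₂ ha₂ b₂ hb₂ (by rw [inv_inv, he₂])
    rw [inv_inv] at h1 h2 h3 h4
    have e : q * (p * c a b * p⁻¹) * q⁻¹ = p * (q * c a b * q⁻¹) * p⁻¹ := by
      rw [h1, h2, h3, h4]
    calc c a b * c p q
        = (q * p)⁻¹ * (q * (p * c a b * p⁻¹) * q⁻¹) * ((q * p) * c p q) := by group
      _ = (q * p)⁻¹ * (p * (q * c a b * q⁻¹) * p⁻¹) * ((q * p) * c p q) := by rw [e]
      _ = c p q * c a b := by simp only [c]; group
  set K := Subgroup.closure S with hK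
  have hKn : K.Normal := by
    have hgen : ∀ g : G, (∀ x ∈ S, g⁻¹ * x * g ∈ K) → ∀ x ∈ K, g⁻¹ * x * g ∈ K := by
      intro g hg x hx
      induction hx using Subgroup.closure_induction with
      | mem y hy => exact hg y hy
      | one => simp
      | mul y z _ _ hy hz =>
        rw [show g⁻¹ * (y * z) * g = (g⁻¹ * y * g) * (g⁻¹ * z * g) by group]
        exact K.mul_mem hy hz
      | inv y _ hy =>
        rw [show g⁻¹ * y⁻¹ * g = (g⁻¹ * y * g)⁻¹ by group]
        exact K.inv_mem hy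
    refine ⟨fun x hx g => ?_⟩
    obtain ⟨a', ha', b', hb', he⟩ := hAB g⁻¹
    rw [show g * x * g⁻¹ = b'⁻¹ * (a'⁻¹ * x * a') * b' by rw [he, ← inv_inv g, he]; group]
    refine hgen b' ?_ _ (hgen a' ?_ x hx)
    · rintro _ ⟨a, ha, b, hb, rfl⟩
      obtain ⟨b₃, hb₃, a₃, ha₃, he₃⟩ := hBA (b'⁻¹ * a * b')
      rw [conjB a ha b hb b' hb' b₃ hb₃ a₃ ha₃ he₃]
      exact Subgroup.subset_closure ⟨a₃, ha₃, b, hb, rfl⟩
    · rintro _ ⟨a, ha, b, hb, rfl⟩
      obtain ⟨a₂, ha₂, b₂, hb₂, he₂⟩ := hAB (a'⁻¹ * b * a')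
      rw [conjA a ha a' ha' b hb a₂ ha₂ b₂ hb₂ he₂]
      exact Subgroup.subset_closure ⟨a, ha, b₂, hb₂, rfl⟩
  haveI := hKn
  have hKc : ∀ x y : K, x * y = y * x := by
    haveI := Subgroup.isMulCommutative_closure hcomm
    exact fun x y => (inferInstance : IsMulCommutative K).is_comm.comm x y
  refine (Group.isSolvable_iff_subgroup_quotient K).2
    ⟨Group.isSolvable_of_comm hKc, Group.isSolvable_of_comm fun X Y => ?_⟩
  obtain ⟨x, rfl⟩ := QuotientGroup.mk'_surjective K X
  obtain ⟨y, rfl⟩ := QuotientGroup.mk'_surjective K Y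
  obtain ⟨a, ha, b, hb, rfl⟩ := hAB x
  obtain ⟨p, hp, q, hq, rfl⟩ := hAB y
  have hcAB : ∀ a ∈ A, ∀ b ∈ B, Commute (QuotientGroup.mk' K a) (QuotientGroup.mk' K b) := by
    intro a ha b hb
    have h : c a b ∈ K := Subgroup.subset_closure ⟨a, ha, b, hb, rfl⟩
    show QuotientGroup.mk' K a * QuotientGroup.mk' K b = QuotientGroup.mk' K b * QuotientGroup.mk' K a
    rw [← map_mul, ← map_mul]
    refine (QuotientGroup.eq.2 ?_).symm
    rw [show (b * a)⁻¹ * (a * b) = c a b by simp only [c]; group]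
    exact h
  have h1 : Commute (QuotientGroup.mk' K (a * b)) (QuotientGroup.mk' K (p * q)) := by
    simp only [map_mul]
    exact ((Commute.map (hA a ha p hp) (QuotientGroup.mk' K)).mul_right (hcAB a ha q hq)).mul_left
      ((hcAB p hp b hb).symm.mul_right (Commute.map (hB b hb q hq) (QuotientGroup.mk' K)))
  exact h1

end Ito

/-- Schmidt: if all maximal subgroups of a finite group are nilpotent, it is solvable. -/
theorem isSolvable_of_coatoms_nilpotent {G : Type u} [Group G] [Finite G]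
    (h : ∀ M : Subgroup G, IsCoatom M → Group.IsNilpotent M) : Group.IsSolvable G := by
  induction hn : Nat.card G using Nat.strong_induction_on generalizing G with
  | _ n ih =>
  subst hn
  have hproper : ∀ H : Subgroup G, H ≠ ⊤ → Group.IsNilpotent H := fun H hH => by
    obtain ⟨M, hM, hle⟩ := (IsCoatomic.eq_top_or_exists_le_coatom H).resolve_left hH
    haveI := h M hM
    exact Group.nilpotent_of_mulEquiv (Subgroup.subgroupOfEquivOfLe hle)
  by_cases hs : ∃ N : Subgroup G, N.Normal ∧ N ≠ ⊥ ∧ N ≠ ⊤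
  · obtain ⟨N, hN, hb, ht⟩ := hs
    haveI := hproper N ht
    have hlt : Nat.card (G ⧸ N) < Nat.card G := by
      rw [← card_mul_card_quotient N]
      exact lt_mul_of_one_lt_left Nat.card_pos ((Subgroup.one_lt_card_iff_ne_bot N).2 hb)
    refine (Group.isSolvable_iff_subgroup_quotient N).2 ⟨inferInstance, ih _ hlt (fun M hM => ?_) rfl⟩
    haveI := hproper (M.comap (QuotientGroup.mk' N)) fun e => hM.1 (by
      rw [← map_mk'_comap N M, e,
        Subgroup.map_top_of_surjective _ (QuotientGroup.mk'_surjective N)])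
    exact Group.nilpotent_of_surjective ((QuotientGroup.mk' N).subgroupComap M)
      ((QuotientGroup.mk' N).subgroupComap_surjective_of_surjective M
        (QuotientGroup.mk'_surjective N))
  push Not at hs
  -- `G` is simple
  by_contra hns
  classical
  haveI : Fintype G := Fintype.ofFinite G
  have hnn : ¬ Group.IsNilpotent G := fun hn => hns (haveI := hn; inferInstance)
  haveI : Nontrivial G := by
    by_contra hc
    rw [not_nontrivial_iff_subsingleton] at hc
    exact hns inferInstance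
  have hself : ∀ M : Subgroup G, IsCoatom M → M ≠ ⊥ → Subgroup.normalizer (M : Set G) = M := by
    intro M hM hMb
    refine ((hM.le_iff).1 Subgroup.le_normalizer).resolve_left fun e => ?_
    exact hM.1 (hs M (Subgroup.normalizer_eq_top_iff.1 e) hMb)
  -- distinct maximal subgroups meet trivially
  have hTI : ∀ D : Subgroup G, ∀ M₁ M₂ : Subgroup G, IsCoatom M₁ → IsCoatom M₂ → M₁ ≠ M₂ →
      M₁ ⊓ M₂ = D → D = ⊥ := by
    intro D
    induction D using WellFoundedGT.induction with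
    | ind D ihD =>
      intro M₁ M₂ h1 h2 hne hD
      by_contra hDb
      have hN : Subgroup.normalizer (D : Set G) ≠ ⊤ := fun e =>
        h1.1 (top_le_iff.1 (((hs D (Subgroup.normalizer_eq_top_iff.1 e) hDb).symm.trans hD.symm).le.trans
          inf_le_left))
      obtain ⟨M, hM, hle⟩ :=
        (IsCoatomic.eq_top_or_exists_le_coatom (Subgroup.normalizer (D : Set G))).resolve_left hN
      have hgrow : ∀ X : Subgroup G, IsCoatom X → D < X → M ≠ X → D < M ⊓ X := by
        intro X hX hDX _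
        haveI := h X hX
        have hl := Group.normalizerCondition_of_isNilpotent (D.subgroupOf X)
          (lt_top_iff_ne_top.2 fun e => hDX.not_ge (Subgroup.subgroupOf_eq_top.1 e))
        obtain ⟨y, hy, hyn⟩ := SetLike.exists_of_lt hl
        refine lt_of_le_not_ge (le_inf (Subgroup.le_normalizer.trans hle) hDX.le) fun hge => ?_
        refine hyn (Subgroup.mem_subgroupOf.2 (hge ⟨hle ?_, y.2⟩))
        rw [← map_conj_eq_self_iff] at hy ⊢
        have := congrArg (Subgroup.map X.subtype) hy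
        rw [Subgroup.map_map, Subgroup.map_subgroupOf_eq_of_le hDX.le] at this
        conv_rhs => rw [← this]
        conv_lhs => rw [← Subgroup.map_subgroupOf_eq_of_le hDX.le, Subgroup.map_map]
        rfl
      have hlt1 : D < M₁ := lt_of_le_of_ne (hD ▸ inf_le_left) fun e => by
        have : M₁ ≤ M₂ := e ▸ hD ▸ inf_le_right
        exact hne ((h1.le_iff.1 this).resolve_left h2.1).symm
      have hlt2 : D < M₂ := lt_of_le_of_ne (hD ▸ inf_le_right) fun e => by
        have : M₂ ≤ M₁ := e ▸ hD ▸ inf_le_left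
        exact hne ((h2.le_iff.1 this).resolve_left h1.1)
      have e1 : M = M₁ := by
        by_contra hc
        exact hDb (le_bot_iff.1 ((hgrow M₁ h1 hlt1 hc).le.trans
          (ihD _ (hgrow M₁ h1 hlt1 hc) M M₁ hM h1 hc rfl).le))
      have e2 : M = M₂ := by
        by_contra hc
        exact hDb (le_bot_iff.1 ((hgrow M₂ h2 hlt2 hc).le.trans
          (ihD _ (hgrow M₂ h2 hlt2 hc) M M₂ hM h2 hc rfl).le))
      exact hne (e1.symm.trans e2)
  -- every element lies in a maximal subgroup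
  have hcyc : ∀ x : G, ∃ M : Subgroup G, IsCoatom M ∧ x ∈ M := fun x => by
    have hz : Subgroup.zpowers x ≠ ⊤ := fun e => hns (by
      refine Group.isSolvable_of_comm fun a b => ?_
      obtain ⟨i, rfl⟩ := Subgroup.mem_zpowers_iff.1 (e ▸ Subgroup.mem_top a : a ∈ Subgroup.zpowers x)
      obtain ⟨j, rfl⟩ := Subgroup.mem_zpowers_iff.1 (e ▸ Subgroup.mem_top b : b ∈ Subgroup.zpowers x)
      exact Commute.zpow_zpow_self x i j)
    obtain ⟨M, hM, hle⟩ := (IsCoatomic.eq_top_or_exists_le_coatom _).resolve_left hz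
    exact ⟨M, hM, hle (Subgroup.mem_zpowers x)⟩
  let cls : Subgroup G → Finset G := fun M =>
    Finset.univ.filter fun x => x ≠ 1 ∧ ∃ g : G, g⁻¹ * x * g ∈ M
  have hconj : ∀ (M : Subgroup G) (g : G), IsCoatom M →
      IsCoatom (M.map (MulAut.conj g).toMonoidHom) := by
    intro M g hM
    exact (OrderIso.isCoatom_iff (MulEquiv.mapSubgroup (MulAut.conj g)) M).2 hM
  have hsize : ∀ M : Subgroup G, IsCoatom M → M ≠ ⊥ →
      Fintype.card G * (Nat.card M - 1) ≤ Nat.card M * (cls M).card := by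
    intro M hM hMb
    let s : Finset (G × M) := Finset.univ ×ˢ (Finset.univ.filter fun m : M => m ≠ 1)
    have hs' : s.card = Fintype.card G * (Nat.card M - 1) := by
      rw [Finset.card_product, Finset.card_univ, Finset.filter_ne', Finset.card_erase_of_mem
        (Finset.mem_univ _), Finset.card_univ, Nat.card_eq_fintype_card]
    rw [← hs']
    refine Finset.card_le_mul_card_image_of_maps_to (f := fun q : G × M => q.1 * q.2 * q.1⁻¹) ?_ _ ?_
    · rintro ⟨g, m⟩ hq
      simp only [s, Finset.mem_product, Finset.mem_univ, Finset.mem_filter, true_and] at hq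
      simp only [cls, Finset.mem_filter, Finset.mem_univ, true_and]
      refine ⟨fun e => hq (Subtype.ext ?_), g, by simp [mul_assoc]⟩
      have := congrArg (fun y => g⁻¹ * y * g) e
      simpa [mul_assoc] using this
    · intro x _
      rcases Finset.eq_empty_or_nonempty (s.filter fun q : G × M => q.1 * q.2 * q.1⁻¹ = x) with
        he | ⟨⟨g₀, m₀⟩, h0⟩
      · simp [he]
      refine le_trans (Finset.card_le_card_of_injOn (t := Finset.univ.filter fun k : G => k ∈ M)
        (fun q : G × M => g₀⁻¹ * q.1) ?_ ?_) ?_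
      · rintro ⟨g, m⟩ hq
        simp only [Finset.coe_filter, Set.mem_setOf_eq, s, Finset.mem_product, Finset.mem_univ,
          Finset.mem_filter, true_and] at hq h0 ⊢
        rw [← hself M hM hMb, ← map_conj_eq_self_iff]
        by_contra hne
        have hM' := hconj M (g₀⁻¹ * g) hM
        have hz := hTI _ M _ hM hM' (fun e => hne e.symm) rfl
        have hmem : (m₀ : G) ∈ M ⊓ M.map (MulAut.conj (g₀⁻¹ * g)).toMonoidHom := by
          refine ⟨m₀.2, ⟨m, m.2, ?_⟩⟩
          rw [MulEquiv.coe_toMonoidHom, MulAut.conj_apply, show g₀⁻¹ * g * m * (g₀⁻¹ * g)⁻¹ =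
            g₀⁻¹ * (g * m * g⁻¹) * g₀ by group, hq.2, ← h0.2]
          group
        rw [hz, Subgroup.mem_bot] at hmem
        exact h0.1 (Subtype.ext hmem)
      · rintro ⟨g, m⟩ hq ⟨g', m'⟩ hq' e
        simp only [mul_right_inj] at e
        subst e
        simp only [Finset.coe_filter, Set.mem_setOf_eq] at hq hq'
        have hmm : (m : G) = m' := mul_left_cancel (mul_right_cancel (hq.2.trans hq'.2.symm))
        rw [Subtype.ext hmm]
      · rw [Nat.card_eq_fintype_card, Fintype.card_subtype]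
  -- two classes of maximal subgroups cover too much
  have hcover : ∀ M : Subgroup G, IsCoatom M → M ≠ ⊥ → ∃ x : G, x ≠ 1 ∧ x ∉ cls M := by
    intro M hM hMb
    by_contra hc
    push Not at hc
    have hall : (Finset.univ : Finset G).erase 1 ⊆ cls M := fun x hx => hc x (Finset.ne_of_mem_erase hx)
    -- map `G ⧸ M × M^#` onto `G^#`
    have hsub : (cls M) ⊆ (Finset.univ.image fun q : (G ⧸ M) × M =>
        (Quotient.out q.1) * q.2 * (Quotient.out q.1)⁻¹).erase 1 := by
      intro x hx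
      simp only [cls, Finset.mem_filter, Finset.mem_univ, true_and] at hx
      obtain ⟨hx1, g, hg⟩ := hx
      obtain ⟨m, hm⟩ : ∃ m : M, Quotient.out (g : G ⧸ M) = g * m :=
        QuotientGroup.mk_out_eq_mul M g
      refine Finset.mem_erase.2 ⟨hx1, Finset.mem_image.2 ⟨((g : G ⧸ M),
        ⟨(m : G)⁻¹ * (g⁻¹ * x * g) * m, M.mul_mem (M.mul_mem (M.inv_mem m.2) hg) m.2⟩),
        Finset.mem_univ _, ?_⟩⟩
      simp only [hm]
      group
    have himg : (Finset.univ.image fun q : (G ⧸ M) × M =>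
        (Quotient.out q.1) * q.2 * (Quotient.out q.1)⁻¹).card ≤
          Fintype.card G - (Fintype.card (G ⧸ M) - 1) := by
      let t : Finset ((G ⧸ M) × M) :=
        (Finset.univ.filter fun q => q.2 ≠ 1) ∪ {(((1 : G) : G ⧸ M), (1 : M))}
      have hsubset : (Finset.univ.image fun q : (G ⧸ M) × M =>
          (Quotient.out q.1) * q.2 * (Quotient.out q.1)⁻¹) ⊆ t.image fun q : (G ⧸ M) × M =>
          (Quotient.out q.1) * q.2 * (Quotient.out q.1)⁻¹ := by
        intro x hx
        obtain ⟨q, -, rfl⟩ := Finset.mem_image.1 hx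
        refine Finset.mem_image.2 ?_
        by_cases hq : q.2 = 1
        · exact ⟨(((1 : G) : G ⧸ M), (1 : M)), Finset.mem_union_right _ (Finset.mem_singleton.2 rfl), by simp [hq]⟩
        · exact ⟨q, Finset.mem_union_left _ (by simp [hq]), rfl⟩
      refine (Finset.card_le_card hsubset).trans (Finset.card_image_le.trans ?_)
      refine (Finset.card_union_le _ _).trans ?_
      have hc1 : ((Finset.univ : Finset ((G ⧸ M) × M)).filter fun q => q.2 = 1).card =
          Fintype.card (G ⧸ M) := by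
        rw [← Finset.card_univ]
        exact Finset.card_nbij' (fun q => q.1) (fun c => (c, 1)) (by simp) (by simp)
          (by rintro ⟨a, b⟩ hq; simp_all) (fun _ _ => rfl)
      have hc2 := Finset.card_filter_add_card_filter_not
        (s := (Finset.univ : Finset ((G ⧸ M) × M))) (fun q => q.2 = 1)
      have hGc : Fintype.card G = Fintype.card ((G ⧸ M) × M) := by
        rw [Fintype.card_prod, ← Nat.card_eq_fintype_card, ← Nat.card_eq_fintype_card,
          ← Nat.card_eq_fintype_card, mul_comm]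
        exact (card_mul_card_quotient M).symm
      simp only [Finset.card_univ, Finset.card_singleton, ne_eq] at hc2 ⊢
      have hpos : 0 < Fintype.card (G ⧸ M) := Fintype.card_pos
      omega
    have hidx : 1 < Fintype.card (G ⧸ M) := by
      rw [← Nat.card_eq_fintype_card]
      exact M.one_lt_index_of_ne_top hM.1
    have h1 := Finset.card_le_card (hall.trans hsub)
    rw [Finset.card_erase_of_mem (Finset.mem_univ _), Finset.card_univ] at h1
    have hmem1 : (1 : G) ∈ (Finset.univ.image fun q : (G ⧸ M) × M =>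
        (Quotient.out q.1) * q.2 * (Quotient.out q.1)⁻¹) :=
      Finset.mem_image.2 ⟨(((1 : G) : G ⧸ M), (1 : M)), Finset.mem_univ _, by simp⟩
    rw [Finset.card_erase_of_mem hmem1] at h1
    have := Fintype.one_lt_card (α := G)
    omega
  obtain ⟨y, hy⟩ := exists_ne (1 : G)
  obtain ⟨M, hM, hyM⟩ := hcyc y
  have hMb : M ≠ ⊥ := fun e => hy (by rwa [e, Subgroup.mem_bot] at hyM)
  obtain ⟨x, hx1, hxM⟩ := hcover M hM hMb
  obtain ⟨L, hL, hxL⟩ := hcyc x
  have hLb : L ≠ ⊥ := fun e => hx1 (by rwa [e, Subgroup.mem_bot] at hxL)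
  have hdis : Disjoint (cls M) (cls L) := by
    rw [Finset.disjoint_left]
    intro z hzM hzL
    simp only [cls, Finset.mem_filter, Finset.mem_univ, true_and] at hzM hzL hxM
    obtain ⟨hz1, g, hg⟩ := hzM
    obtain ⟨-, k, hk⟩ := hzL
    have hne : M.map (MulAut.conj g).toMonoidHom ≠ L.map (MulAut.conj k).toMonoidHom := fun e => by
      refine hxM ⟨hx1, k⁻¹ * g, ?_⟩
      have : k * x * k⁻¹ ∈ L.map (MulAut.conj k).toMonoidHom := ⟨x, hxL, rfl⟩
      rw [← e, mem_map_conj] at this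
      simpa [mul_assoc] using this
    have hz := hTI _ _ _ (hconj M g hM) (hconj L k hL) hne rfl
    have hmem : z ∈ M.map (MulAut.conj g).toMonoidHom ⊓ L.map (MulAut.conj k).toMonoidHom :=
      ⟨mem_map_conj.2 hg, mem_map_conj.2 hk⟩
    rw [hz, Subgroup.mem_bot] at hmem
    exact hz1 hmem
  have hsum : (cls M).card + (cls L).card + 1 ≤ Fintype.card G := by
    rw [← Finset.card_union_of_disjoint hdis, ← Finset.card_univ]
    refine Nat.succ_le_of_lt (Finset.card_lt_card (Finset.ssubset_univ_iff.2 fun e => ?_))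
    have h1 : (1 : G) ∈ cls M ∪ cls L := e ▸ Finset.mem_univ _
    simp [cls] at h1
  have hhalf : ∀ N : Subgroup G, IsCoatom N → N ≠ ⊥ → Fintype.card G ≤ 2 * (cls N).card := by
    intro N hN hNb
    have h1 := hsize N hN hNb
    have h2 : 2 ≤ Nat.card N := (Subgroup.one_lt_card_iff_ne_bot N).2 hNb
    have h3 : Fintype.card G * Nat.card N ≤ 2 * (Fintype.card G * (Nat.card N - 1)) := by
      rw [Nat.mul_left_comm]
      exact Nat.mul_le_mul_left _ (by omega)
    refine Nat.le_of_mul_le_mul_left ?_ (show 0 < Nat.card N by omega)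
    calc Nat.card N * Fintype.card G = Fintype.card G * Nat.card N := mul_comm _ _
      _ ≤ 2 * (Nat.card N * (cls N).card) := h3.trans (Nat.mul_le_mul_left 2 h1)
      _ = Nat.card N * (2 * (cls N).card) := by ring
  have := hhalf M hM hMb
  have := hhalf L hL hLb
  omega

end CfsgLib.Base
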