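import Mathlib
import Cfsg.Prelude.Def_SolvableStructure
import Cfsg.Agent.Lib.Base.Ito
import Cfsg.Agent.Lib.Base.Fitting
import Cfsg.Agent.Lib.Transfer.Control

/-!
Minimal non-nilpotent groups (Schmidt groups).
-/

set_option autoImplicit false
set_option linter.style.haveILetI false

namespace CfsgLib.Base.MinNonNilpotent

open Cfsg

variable {G : Type*} [Group G]

/-- A `p`-element and an element of order prime to `p` commute in a nilpotent group. -/
theorem commute_of_nilpotent [Finite G] {H : Subgroup G} (hH : Group.IsNilpotent H) {p : ℕ}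
    [Fact p.Prime] {A : Subgroup G} (hA : IsPGroup p A) (hAH : A ≤ H) {g : G} (hg : g ∈ H)
    (hgp : (orderOf g).Coprime p) : g ∈ Subgroup.centralizer (A : Set G) := by
  haveI := hH
  obtain ⟨P, hP⟩ := (hA.comap_subtype (K := H)).exists_le_sylow
  have h := CfsgLib.Transfer.mem_centralizer_sylow_of_isNilpotent P (g := (⟨g, hg⟩ : H))
    (by rwa [Subgroup.orderOf_mk])
  exact Subgroup.mem_centralizer_iff.2 fun a ha =>
    congrArg Subtype.val (Subgroup.mem_centralizer_iff.1 h ⟨a, hAH ha⟩ (hP ha))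

theorem le_centralizer_of_nilpotent [Finite G] {p q : ℕ} [Fact p.Prime] [hq : Fact q.Prime]
    (hpq : p ≠ q) {A B : Subgroup G} (hA : IsPGroup p A) (hB : IsPGroup q B)
    (h : Group.IsNilpotent ↥(B ⊔ A)) : B ≤ Subgroup.centralizer (A : Set G) := by
  intro b hb
  refine commute_of_nilpotent h hA le_sup_right (le_sup_left (b := A) hb) ?_
  obtain ⟨n, hn⟩ := IsPGroup.iff_orderOf.1 hB ⟨b, hb⟩
  rw [← Subgroup.orderOf_mk b hb, hn]
  exact ((Nat.coprime_primes hq.out (Fact.out (p := p.Prime))).2 (Ne.symm hpq)).pow_left n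

/-- The structure of a minimal non-nilpotent group: a cyclic non-normal Sylow `p`-subgroup and a
normal Sylow `q`-subgroup generate it. -/
theorem exists_structure [Finite G] (hG : IsMinimalNonNilpotent G) :
    ∃ (p q : ℕ) (_ : Fact p.Prime) (_ : Fact q.Prime) (P : Sylow p G) (Q : Sylow q G),
      p ≠ q ∧ IsCyclic P ∧ ¬ (P : Subgroup G).Normal ∧ (Q : Subgroup G).Normal ∧
        (P : Subgroup G) ⊔ (Q : Subgroup G) = ⊤ := by
  haveI : Nontrivial G := by
    by_contra hnt
    haveI := not_nontrivial_iff_subsingleton.1 hnt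
    exact hG.1 inferInstance
  haveI : Group.IsSolvable G := isSolvable_of_coatoms_nilpotent fun M hM => hG.2 M hM.1
  have hd : commutator G ≠ ⊤ := (Group.IsSolvable.commutator_lt_top_of_nontrivial G).ne
  obtain ⟨M, hM, hGM⟩ := (eq_top_or_exists_le_coatom (commutator G)).resolve_left hd
  haveI hMn : M.Normal := ⟨fun x hx g => by
    have : g * x * g⁻¹ * x⁻¹ ∈ M :=
      hGM (Subgroup.commutator_mem_commutator (Subgroup.mem_top g) (Subgroup.mem_top x))
    simpa using M.mul_mem this hx⟩
  haveI := hG.2 M hM.1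
  obtain ⟨p, hp, hpd⟩ := Nat.exists_prime_and_dvd (fun e => hM.1 (Subgroup.index_eq_one.1 e))
  haveI := Fact.mk hp
  obtain ⟨P⟩ := (inferInstance : Nonempty (Sylow p G))
  have hPM : ¬ (P : Subgroup G) ≤ M := fun h => P.not_dvd_index (hpd.trans (Subgroup.index_dvd_of_le h))
  have hMP : M ⊔ (P : Subgroup G) = ⊤ :=
    hM.2 _ (lt_of_le_of_ne le_sup_left fun e => hPM (e ▸ le_sup_right))
  have hidx : M.index ∣ Nat.card (P : Subgroup G) := by
    have h1 := card_sup_mul_card_inf (P : Subgroup G) M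
    rw [sup_comm, hMP, Subgroup.card_top, ← M.card_mul_index, mul_assoc,
      mul_comm (Nat.card (P : Subgroup G)) (Nat.card M)] at h1
    exact Dvd.intro _ (Nat.eq_of_mul_eq_mul_left Nat.card_pos h1)
  have hnormal : ∀ (r : ℕ) [Fact r.Prime] (R : Sylow r G), r ≠ p → (R : Subgroup G).Normal := by
    intro r hr R hrp
    have hRM : (R : Subgroup G) ≤ M := by
      intro x hx
      obtain ⟨a, ha⟩ := IsPGroup.iff_card.1 R.isPGroup'
      obtain ⟨b, hb⟩ := IsPGroup.iff_card.1 P.isPGroup'
      have h1 : orderOf (QuotientGroup.mk' M x) ∣ r ^ a := ha ▸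
        (orderOf_map_dvd _ _).trans (Subgroup.orderOf_dvd_natCard _ hx)
      have h2 : orderOf (QuotientGroup.mk' M x) ∣ p ^ b := hb ▸
        (orderOf_dvd_natCard _).trans ((Subgroup.index_eq_card M).symm ▸ hidx)
      have h3 := Nat.eq_one_of_dvd_coprimes
        (((Nat.coprime_primes (Fact.out (p := r.Prime)) hp).2 hrp).pow a b) h1 h2
      rwa [orderOf_eq_one_iff, QuotientGroup.mk'_apply, QuotientGroup.eq_one_iff] at h3
    haveI hRn : ((R.subtype hRM) : Subgroup M).Normal :=
      (R.subtype hRM).normal_of_normalizerCondition Group.normalizerCondition_of_isNilpotent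
    haveI : ((R.subtype hRM) : Subgroup M).Characteristic := Sylow.characteristic_of_normal _ hRn
    have h := normal_map_subtype ((R.subtype hRM : Sylow r M) : Subgroup M)
    rwa [Sylow.coe_subtype, Subgroup.map_subgroupOf_eq_of_le hRM] at h
  have hPn : ¬ (P : Subgroup G).Normal := by
    intro hP
    refine hG.1 (((Group.isNilpotent_of_finite_tfae (G := G)).out 0 3).2 ?_)
    intro r hr R
    by_cases hrp : r = p
    · subst hrp
      haveI := Sylow.unique_of_normal P hP
      rwa [Subsingleton.elim R P]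
    · exact hnormal r R hrp
  obtain ⟨q, hq, hpq, Q, hQ⟩ : ∃ (q : ℕ) (_ : Fact q.Prime) (_ : p ≠ q) (Q : Sylow q G),
      (P : Subgroup G) ⊔ (Q : Subgroup G) = ⊤ := by
    by_contra hno
    push Not at hno
    choose S hS using fun q : Nat.Primes => show ∃ S : Sylow (q : ℕ) G,
        (S : Subgroup G) ≤ Subgroup.normalizer ((P : Subgroup G) : Set G) from by
      obtain ⟨q, hq⟩ := q
      haveI := Fact.mk hq
      by_cases hqp : q = p
      · subst hqp; exact ⟨P, Subgroup.le_normalizer⟩
      · obtain ⟨R⟩ := (inferInstance : Nonempty (Sylow q G))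
        refine ⟨R, (le_centralizer_of_nilpotent (Ne.symm hqp) P.isPGroup' R.isPGroup' ?_).trans
          (Subgroup.centralizer_le_normalizer _)⟩
        refine hG.2 _ fun e => hno q inferInstance (Ne.symm hqp) R ?_
        rwa [sup_comm]
    exact hPn (Subgroup.normalizer_eq_top_iff.1 (top_le_iff.1
      ((iSup_sylow_eq_top S).ge.trans (iSup_le hS))))
  haveI := hq
  have hQn := hnormal q Q (Ne.symm hpq)
  refine ⟨p, q, inferInstance, inferInstance, P, Q, hpq, ?_, hPn, hQn, hQ⟩
  by_contra hcyc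
  refine hPn (Subgroup.normalizer_eq_top_iff.1 (top_le_iff.1 ?_))
  rw [← hQ, sup_le_iff]
  refine ⟨Subgroup.le_normalizer, le_trans ?_ (Subgroup.centralizer_le_normalizer _)⟩
  rw [Subgroup.le_centralizer_iff]
  have hout : ∀ x ∈ (P : Subgroup G), x ∉ M → x ∈ Subgroup.centralizer ((Q : Subgroup G) : Set G) := by
    intro x hx hxM
    refine le_centralizer_of_nilpotent (Ne.symm hpq) Q.isPGroup'
      (P.isPGroup'.to_le (Subgroup.zpowers_le.2 hx)) (hG.2 _ fun e => hcyc ?_)
      (Subgroup.mem_zpowers x)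
    have hle : (P : Subgroup G) = Subgroup.zpowers x := by
      refine le_antisymm (fun y hy => ?_) (Subgroup.zpowers_le.2 hx)
      obtain ⟨a, ha, b, hb, rfl⟩ :=
        (Subgroup.mem_sup_of_normal_right (t := (Q : Subgroup G))).1 (e.ge (Subgroup.mem_top y))
      have hb' : b ∈ (P : Subgroup G) := by
        simpa using (P : Subgroup G).mul_mem
          ((P : Subgroup G).inv_mem (Subgroup.zpowers_le.2 hx ha)) hy
      have hb1 : b ∈ (P : Subgroup G) ⊓ (Q : Subgroup G) := ⟨hb', hb⟩
      rw [(IsPGroup.disjoint_of_ne p q hpq _ _ P.isPGroup' Q.isPGroup').eq_bot,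
        Subgroup.mem_bot] at hb1
      rwa [hb1, mul_one]
    exact (MulEquiv.subgroupCongr hle).isCyclic.2 inferInstance
  intro y hy
  by_cases hyM : y ∈ M
  · obtain ⟨x, hx, hxM⟩ := SetLike.not_le_iff_exists.1 hPM
    have := Subgroup.mul_mem _ (hout (y * x) ((P : Subgroup G).mul_mem hy hx)
      (fun h => hxM (by simpa using M.mul_mem (M.inv_mem hyM) h))) (Subgroup.inv_mem _ (hout x hx hxM))
    simpa using this
  · exact hout y hy hyM

end CfsgLib.Base.MinNonNilpotent
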