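import Cfsg.Agent.Lib.Base.TwoFrobenius
import Cfsg.Agent.Lib.Base.MinimalNormal
import Cfsg.Agent.Lib.Coprime.Action

/-!
Solvable groups with disconnected prime graph are Frobenius or 2-Frobenius.
-/

set_option autoImplicit false
set_option linter.style.haveILetI false

universe u

namespace CfsgLib.Base.PrimeGraph

open Cfsg
open scoped commutatorElement

variable {G : Type u} [Group G]

/-- No element of order `a b` with `a ∈ A` and `b ∉ A`. -/
def NoEdge (A : Set ℕ) (G : Type u) [Group G] : Prop :=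
  ∀ a b : ℕ, a.Prime → b.Prime → a ∈ A → b ∉ A → ∀ x y : G, orderOf x = a → orderOf y = b →
    ¬ Commute x y

/-- All prime divisors lie in `A`. -/
def IsNumber (A : Set ℕ) (n : ℕ) : Prop := ∀ r : ℕ, r.Prime → r ∣ n → r ∈ A

theorem IsNumber.of_dvd {A : Set ℕ} {m n : ℕ} (h : IsNumber A n) (hmn : m ∣ n) : IsNumber A m :=
  fun r hr hd => h r hr (hd.trans hmn)

theorem IsNumber.mul {A : Set ℕ} {m n : ℕ} (hm : IsNumber A m) (hn : IsNumber A n) :
    IsNumber A (m * n) := fun r hr hd => (hr.dvd_mul.1 hd).elim (hm r hr) (hn r hr)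

theorem IsNumber.coprime {A : Set ℕ} {m n : ℕ} (hm : IsNumber A m) (hn : IsNumber Aᶜ n) :
    m.Coprime n :=
  Nat.coprime_of_dvd' fun k hk h1 h2 => absurd (hm k hk h1) (hn k hk h2)

theorem NoEdge.symm {A : Set ℕ} (h : NoEdge A G) : NoEdge Aᶜ G :=
  fun a b ha hb haA hbA x y hx hy hc => h b a hb ha (not_not.1 hbA) haA y x hy hx hc.symm

variable [Finite G]

theorem exists_pow_prime_order {x : G} (hx : x ≠ 1) :
    ∃ r k : ℕ, r.Prime ∧ r ∣ orderOf x ∧ orderOf (x ^ k) = r := by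
  obtain ⟨r, hr, hd⟩ := Nat.exists_prime_and_dvd (fun e => hx (orderOf_eq_one_iff.1 e))
  refine ⟨r, orderOf x / r, hr, hd, ?_⟩
  obtain ⟨t, ht⟩ := hd
  have ht0 : t ≠ 0 := fun e => (orderOf_pos x).ne' (by rw [ht, e, mul_zero])
  rw [ht, Nat.mul_div_cancel_left _ hr.pos, orderOf_pow' _ ht0, ht,
    Nat.gcd_eq_right (dvd_mul_left t r), Nat.mul_div_cancel _ (Nat.pos_of_ne_zero ht0)]

theorem NoEdge.not_commute {A : Set ℕ} (h : NoEdge A G) {x y : G} (hx : x ≠ 1) (hy : y ≠ 1)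
    (hxA : IsNumber A (orderOf x)) (hyA : IsNumber Aᶜ (orderOf y)) : ¬ Commute x y := by
  intro hc
  obtain ⟨a, i, ha, had, hai⟩ := exists_pow_prime_order hx
  obtain ⟨b, j, hb, hbd, hbj⟩ := exists_pow_prime_order hy
  exact h a b ha hb (hxA a ha had) (hyA b hb hbd) _ _ hai hbj (hc.pow_pow i j)

theorem NoEdge.quotient {A : Set ℕ} (h : NoEdge A G) (N : Subgroup G) [N.Normal] :
    NoEdge A (G ⧸ N) := by
  intro a b ha hb haA hbA x y hx hy hc
  have hab : a ≠ b := fun e => hbA (e ▸ haA)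
  obtain ⟨gb, hgb⟩ := (TwoFrobenius.exists_orderOf_mul_iff ha hb hab).2 ⟨x, y, hx, hy, hc⟩
  obtain ⟨g, rfl⟩ := QuotientGroup.mk'_surjective N gb
  obtain ⟨m, hm⟩ : a * b ∣ orderOf g := hgb ▸ orderOf_map_dvd _ g
  have hm0 : m ≠ 0 := fun e => (orderOf_pos g).ne' (by rw [hm, e, mul_zero])
  obtain ⟨x', y', hx', hy', hc'⟩ := (TwoFrobenius.exists_orderOf_mul_iff ha hb hab).1 ⟨g ^ m, by
    rw [orderOf_pow' _ hm0, hm, Nat.gcd_eq_right (dvd_mul_left m _),
      Nat.mul_div_cancel _ (Nat.pos_of_ne_zero hm0)]⟩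
  exact h a b ha hb haA hbA x' y' hx' hy' hc'

/-- A normal `A`-subgroup and a complement of order prime to `A` form a Frobenius group. -/
theorem isFrobeniusComplement_of_complement {A : Set ℕ} (h : NoEdge A G) (N T : Subgroup G)
    [N.Normal] (hN : IsNumber A (Nat.card N)) (hT : IsNumber Aᶜ (Nat.card T))
    (hc : Subgroup.IsComplement' N T) (hNne : N ≠ ⊥) (hTne : T ≠ ⊥) :
    IsFrobeniusComplement T := by
  refine (Frobenius.isFrobeniusComplement_iff N T hc hNne hTne).2 fun t ht ht1 => ?_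
  rw [Subgroup.eq_bot_iff_forall]
  rintro x ⟨hx, hxc⟩
  by_contra hx1
  exact h.not_commute hx1 ht1 (hN.of_dvd (Subgroup.orderOf_dvd_natCard N hx))
    (hT.of_dvd (Subgroup.orderOf_dvd_natCard T ht))
    (Subgroup.mem_centralizer_iff.1 hxc t rfl).symm

/-- The main case: there is a nontrivial normal `A`-subgroup. -/
theorem frobenius_or_twoFrobenius [Group.IsSolvable G] {A : Set ℕ} (h : NoEdge A G) {N₀ : Subgroup G}
    [N₀.Normal] (hN₀ : N₀ ≠ ⊥) (hN₀A : IsNumber A (Nat.card N₀))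
    (hB : ∃ b : ℕ, b.Prime ∧ b ∣ Nat.card G ∧ b ∉ A) :
    (∃ C : Subgroup G, IsFrobeniusComplement C) ∨
    (∃ (H K : Subgroup G) (_ : H.Normal), K.Normal ∧ H < K ∧
      (∃ C : Subgroup ↥K, IsFrobeniusComplement C ∧ frobeniusKernel C = (H.subgroupOf K : Set ↥K)) ∧
      (∃ C : Subgroup (G ⧸ H), IsFrobeniusComplement C ∧
        frobeniusKernel C = (K.map (QuotientGroup.mk' H) : Set (G ⧸ H)))) := by
  classical
  obtain ⟨N, hN₀N, ⟨hNn, hNA⟩, hNmax⟩ := Finite.exists_le_maximal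
    (p := fun X : Subgroup G => X.Normal ∧ IsNumber A (Nat.card X)) (a := N₀) ⟨inferInstance, hN₀A⟩
  haveI := hNn
  have hNne : N ≠ ⊥ := fun e => hN₀ (le_bot_iff.1 (e ▸ hN₀N))
  obtain ⟨b₀, hb₀, hb₀G, hb₀A⟩ := hB
  set π := QuotientGroup.mk' N with hπ
  have hπs := QuotientGroup.mk'_surjective N
  have hcardG : Nat.card G = Nat.card N * Nat.card (G ⧸ N) := by
    rw [← Subgroup.index_eq_card, N.card_mul_index]
  have hb₀Q : b₀ ∣ Nat.card (G ⧸ N) :=
    (hb₀.dvd_mul.1 (hcardG ▸ hb₀G)).resolve_left fun hd => hb₀A (hNA b₀ hb₀ hd)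
  by_cases hQA : ∀ a : ℕ, a.Prime → a ∣ Nat.card (G ⧸ N) → a ∉ A
  · left
    have hidx : IsNumber Aᶜ N.index := by rw [Subgroup.index_eq_card]; exact hQA
    obtain ⟨T, hT⟩ := Subgroup.exists_right_complement'_of_coprime (hNA.coprime hidx)
    have hTc : Nat.card T = N.index := hT.symm.index_eq_card.symm
    refine ⟨T, isFrobeniusComplement_of_complement h N T hNA (hTc ▸ hidx) hT hNne fun e => ?_⟩
    rw [e, Subgroup.card_bot] at hTc
    rw [← Subgroup.index_eq_card, ← hTc] at hb₀Q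
    exact hb₀.one_lt.ne' (Nat.dvd_one.1 hb₀Q)
  right
  push Not at hQA
  obtain ⟨a, ha, hadvd, haA⟩ := hQA
  have hQ := h.quotient N
  haveI := Fact.mk ha
  obtain ⟨y, hy⟩ := exists_prime_orderOf_dvd_card' a hadvd
  have hy1 : y ≠ 1 := fun e => ha.one_lt.ne (by rw [← hy, e, orderOf_one])
  have hnoA : ∀ X : Subgroup (G ⧸ N), X.Normal → IsNumber A (Nat.card X) → X = ⊥ := by
    intro X hX hXA
    have hle := hNmax ⟨hX.comap π, by rw [card_comap_mk']; exact hNA.mul hXA⟩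
      (QuotientGroup.le_comap_mk' N X)
    rw [← map_mk'_comap N X, map_mk'_eq_bot_iff]
    exact hle
  set B := fittingSubgroup (G ⧸ N) with hBdef
  haveI : B.Normal := fittingSubgroup_normal' _
  haveI hBnil : Group.IsNilpotent B := isNilpotent_fittingSubgroup _
  haveI : Nontrivial (G ⧸ N) := ⟨y, 1, hy1⟩
  have hBne : B ≠ ⊥ := fittingSubgroup_ne_bot
  have hBA : IsNumber Aᶜ (Nat.card B) := by
    intro r hr hrd hrA
    haveI := Fact.mk hr
    obtain ⟨R⟩ := (inferInstance : Nonempty (Sylow r B))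
    haveI hRn : (R : Subgroup B).Normal :=
      R.normal_of_normalizerCondition Group.normalizerCondition_of_isNilpotent
    haveI : (R : Subgroup B).Characteristic := Sylow.characteristic_of_normal _ hRn
    refine R.ne_bot_of_dvd_card hrd ((Subgroup.map_eq_bot_iff_of_injective _ B.subtype_injective).1
      (hnoA _ (normal_map_subtype _) ?_))
    obtain ⟨k, hk⟩ := IsPGroup.iff_card.1 R.isPGroup'
    rw [card_map_subtype, hk]
    intro s hs hsd
    rw [(Nat.prime_dvd_prime_iff_eq hs hr).1 (hs.dvd_of_dvd_pow hsd)]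
    exact hrA
  set K := B.comap π with hK
  haveI hKn : K.Normal := Subgroup.Normal.comap inferInstance π
  have hNK : N ≤ K := QuotientGroup.le_comap_mk' N B
  have hNKc : Nat.card (N.subgroupOf K) = Nat.card N := card_subgroupOf hNK
  have hNKi : (N.subgroupOf K).index = Nat.card B := by
    have h1 := (N.subgroupOf K).card_mul_index
    rw [hNKc, hK, hπ, card_comap_mk'] at h1
    exact Nat.eq_of_mul_eq_mul_left Nat.card_pos h1
  obtain ⟨B₀, hB₀⟩ := Subgroup.exists_right_complement'_of_coprime (N := N.subgroupOf K)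
    (by rw [hNKc, hNKi]; exact hNA.coprime hBA)
  have hB₀c : Nat.card B₀ = Nat.card B := by rw [← hB₀.symm.index_eq_card, hNKi]
  have hB₀ne : B₀ ≠ ⊥ := fun e => hBne (B.eq_bot_of_card_eq (by rw [← hB₀c, e, Subgroup.card_bot]))
  have hNKne : N.subgroupOf K ≠ ⊥ := fun e => hNne (N.eq_bot_of_card_eq (by
    rw [← hNKc, e, Subgroup.card_bot]))
  have hKedge : NoEdge A ↥K := fun r s hr hs hrA hsA x z hx hz hc =>
    h r s hr hs hrA hsA x z (by rw [Subgroup.orderOf_coe, hx]) (by rw [Subgroup.orderOf_coe, hz])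
      (hc.map K.subtype)
  have hF₁ : IsFrobeniusComplement B₀ :=
    isFrobeniusComplement_of_complement hKedge _ B₀ (hNKc.symm ▸ hNA) (hB₀c.symm ▸ hBA) hB₀ hNKne hB₀ne
  have hfpf : IsFPF B₀ (N.subgroupOf K) :=
    ⟨le_top.trans (Subgroup.normalizer_eq_top_iff.2 inferInstance).ge,
      (Frobenius.isFrobeniusComplement_iff _ _ hB₀ hNKne hB₀ne).1 hF₁⟩
  let g₁ : B₀ →* B := ((π.comp K.subtype).comp B₀.subtype).codRestrict B fun c => (c : K).2
  have hg₁i : Function.Injective g₁ := by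
    rw [← MonoidHom.ker_eq_bot_iff, Subgroup.eq_bot_iff_forall]
    intro c hc
    have h1 : π ((c : K) : G) = 1 := congrArg Subtype.val (MonoidHom.mem_ker.1 hc)
    have h2 : (c : K) ∈ N.subgroupOf K ⊓ B₀ := ⟨(QuotientGroup.eq_one_iff ((c : K) : G)).1 h1, c.2⟩
    rw [hB₀.disjoint.eq_bot, Subgroup.mem_bot] at h2
    exact Subtype.ext h2
  have hg₁ : Function.Bijective g₁ := (Nat.bijective_iff_injective_and_card g₁).2 ⟨hg₁i, hB₀c⟩
  let e : B₀ ≃* B := MulEquiv.ofBijective g₁ hg₁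
  have hodd : ¬ 2 ∣ Nat.card B := by
    intro h2
    haveI := Fact.mk Nat.prime_two
    obtain ⟨t, ht⟩ := exists_prime_orderOf_dvd_card' 2 h2
    have key : ∀ s : B₀, orderOf s = 2 → (s : K) ≠ 1 ∧ (s : K) * s = 1 := fun s hs =>
      ⟨fun e' => by rw [show s = 1 from Subtype.ext e', orderOf_one] at hs; omega, by
        have := pow_orderOf_eq_one (s : K)
        rwa [Subgroup.orderOf_coe, hs, pow_two] at this⟩
    have hmem : y * (t : G ⧸ N) * y⁻¹ ∈ B := (inferInstance : B.Normal).conj_mem _ t.2 y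
    have ho : orderOf (e.symm ⟨_, hmem⟩) = 2 := by
      rw [MulEquiv.orderOf_eq, ← Subgroup.orderOf_coe, ← ht, ← Subgroup.orderOf_coe]
      exact MulEquiv.orderOf_eq (MulAut.conj y) _
    have ho' : orderOf (e.symm t) = 2 := by rw [MulEquiv.orderOf_eq, ht]
    have h3 := hfpf.involution_unique hNKne (e.symm ⟨_, hmem⟩).2 (key _ ho).1 (key _ ho).2
      (e.symm t).2 (key _ ho').1 (key _ ho').2
    have h4 : y * (t : G ⧸ N) * y⁻¹ = t :=
      congrArg Subtype.val (e.symm.injective (Subtype.ext h3) : (⟨_, hmem⟩ : B) = t)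
    exact hQ a 2 ha Nat.prime_two haA (hBA 2 Nat.prime_two h2) y t hy
      (by rw [Subgroup.orderOf_coe, ht]) (mul_inv_eq_iff_eq_mul.1 h4)
  haveI : IsZGroup B₀ := ⟨fun r hr P => by
    haveI := Fact.mk hr
    refine (hfpf.isCyclic_or_quaternion hNKne (P : Subgroup B₀) P.isPGroup').resolve_right ?_
    rintro ⟨rfl, n, -, ⟨e'⟩⟩
    haveI : NeZero (2 ^ n) := ⟨pow_ne_zero n two_ne_zero⟩
    refine hodd (hB₀c ▸ dvd_trans ?_ (Subgroup.card_subgroup_dvd_card (P : Subgroup B₀)))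
    rw [Nat.card_congr e'.toEquiv, Nat.card_eq_fintype_card, QuaternionGroup.card]
    exact Dvd.intro _ (by ring : 2 * (2 * 2 ^ n) = 4 * 2 ^ n)⟩
  haveI : Group.IsNilpotent B₀ := Group.nilpotent_of_mulEquiv e.symm
  haveI : IsCyclic B := e.isCyclic.1 inferInstance
  have hder : commutator (G ⧸ N) ≤ B := by
    rw [commutator_def, Subgroup.commutator_le]
    intro u _ v _
    refine centralizer_fittingSubgroup_le ?_
    obtain ⟨z, hz⟩ := IsCyclic.exists_generator (α := B)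
    have hact : ∀ u : G ⧸ N, ∃ k : ℤ, u * (z : G ⧸ N) * u⁻¹ = (z : G ⧸ N) ^ k := fun u => by
      obtain ⟨k, hk⟩ := Subgroup.mem_zpowers_iff.1 (hz ⟨_, (inferInstance : B.Normal).conj_mem _ z.2 u⟩)
      exact ⟨k, (congrArg Subtype.val hk).symm⟩
    set w : G ⧸ N := (z : G ⧸ N) with hw
    have h1 : ∀ u v : G ⧸ N, u * v * w * (u * v)⁻¹ = v * u * w * (v * u)⁻¹ := fun u v => by
      obtain ⟨i, hi⟩ := hact u
      obtain ⟨j, hj⟩ := hact v
      calc u * v * w * (u * v)⁻¹ = u * (v * w * v⁻¹) * u⁻¹ := by group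
        _ = (w ^ i) ^ j := by rw [hj, ← conj_zpow, hi]
        _ = (w ^ j) ^ i := by rw [← zpow_mul, ← zpow_mul, mul_comm]
        _ = v * (u * w * u⁻¹) * v⁻¹ := by rw [hi, ← conj_zpow, hj]
        _ = _ := by group
    refine Subgroup.mem_centralizer_iff.2 fun x hx => ?_
    obtain ⟨k, hk⟩ := Subgroup.mem_zpowers_iff.1 (hz ⟨x, hx⟩)
    have hxw : w ^ k = x := congrArg Subtype.val hk
    rw [← hxw]
    have hc : Commute w ⁅u, v⁆ := by
      show w * ⁅u, v⁆ = ⁅u, v⁆ * w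
      calc w * ⁅u, v⁆
          = u * v * ((v⁻¹ * u⁻¹) * w * (v⁻¹ * u⁻¹)⁻¹) * (u⁻¹ * v⁻¹) := by
            rw [commutatorElement_def]; group
        _ = u * v * ((u⁻¹ * v⁻¹) * w * (u⁻¹ * v⁻¹)⁻¹) * (u⁻¹ * v⁻¹) := by rw [h1]
        _ = ⁅u, v⁆ * w := by rw [commutatorElement_def]; group
    exact (hc.zpow_left k).eq
  have hQB : IsNumber A (Nat.card ((G ⧸ N) ⧸ B)) := by
    intro r hr hrd
    by_contra hrA
    haveI := Fact.mk hr
    obtain ⟨zb, hzb⟩ := exists_prime_orderOf_dvd_card' r hrd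
    set ρ := QuotientGroup.mk' B
    set S := (Subgroup.zpowers zb).comap ρ with hS
    have hScard : IsNumber Aᶜ (Nat.card S) := by
      rw [hS, card_comap_mk']
      refine hBA.mul ?_
      rw [Nat.card_zpowers, hzb]
      intro s hs hsd
      rw [(Nat.prime_dvd_prime_iff_eq hs hr).1 hsd]
      exact hrA
    have hBS : B ≤ S := QuotientGroup.le_comap_mk' B _
    haveI : S.Normal := by
      refine ⟨fun x hx g => ?_⟩
      have hd := hder (Subgroup.commutator_mem_commutator (Subgroup.mem_top g) (Subgroup.mem_top x))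
      rw [show g * x * g⁻¹ = ⁅g, x⁆ * x by rw [commutatorElement_def]; group]
      exact S.mul_mem (hBS hd) hx
    have hcopY : (Nat.card (Subgroup.zpowers y)).Coprime (Nat.card S) := by
      refine IsNumber.coprime ?_ hScard
      rw [Nat.card_zpowers, hy]
      intro s hs hsd
      rw [(Nat.prime_dvd_prime_iff_eq hs ha).1 hsd]
      exact haA
    have hYS : Subgroup.zpowers y ≤ Subgroup.normalizer (S : Set (G ⧸ N)) :=
      le_top.trans (Subgroup.normalizer_eq_top_iff.2 inferInstance).ge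
    have hsup := CfsgLib.Coprime.commutator_sup_centralizer hYS hcopY (Or.inr inferInstance)
    have hle : ⁅S, Subgroup.zpowers y⁆ ≤ B := (Subgroup.commutator_mono le_top le_top).trans hder
    have hnle : ¬ S ⊓ Subgroup.centralizer (Subgroup.zpowers y : Set (G ⧸ N)) ≤ B := fun hle2 => by
      obtain ⟨z, rfl⟩ := QuotientGroup.mk'_surjective B zb
      have hz : z ∈ B := (hsup.ge.trans (sup_le hle hle2)) (Subgroup.mem_zpowers (ρ z))
      rw [show QuotientGroup.mk' B z = 1 from (QuotientGroup.eq_one_iff z).2 hz, orderOf_one] at hzb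
      exact hr.one_lt.ne hzb
    obtain ⟨c, ⟨hcS, hcC⟩, hcB⟩ := SetLike.not_le_iff_exists.1 hnle
    refine hQ.not_commute hy1 (fun e' => hcB (by rw [e']; exact B.one_mem)) ?_ ?_
      (Subgroup.mem_centralizer_iff.1 hcC y (Subgroup.mem_zpowers y))
    · rw [hy]
      intro s hs hsd
      rw [(Nat.prime_dvd_prime_iff_eq hs ha).1 hsd]
      exact haA
    · exact hScard.of_dvd (Subgroup.orderOf_dvd_natCard S hcS)
  have hidxB : IsNumber A B.index := by rw [Subgroup.index_eq_card]; exact hQB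
  obtain ⟨T, hT⟩ := Subgroup.exists_right_complement'_of_coprime (N := B) (hidxB.coprime hBA).symm
  have hTne : T ≠ ⊥ := fun e' => by
    have h1 : B = ⊤ := Subgroup.isComplement'_bot_right.1 (e' ▸ hT)
    have h2 : a ∣ Nat.card B := by rw [h1, Subgroup.card_top]; exact hadvd
    exact hBA a ha h2 haA
  have hTc : Nat.card T = B.index := hT.symm.index_eq_card.symm
  have hF₂ : IsFrobeniusComplement T :=
    isFrobeniusComplement_of_complement hQ.symm B T hBA (by rw [compl_compl, hTc]; exact hidxB) hT hBne hTne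
  have hlt : N < K := lt_of_le_of_ne hNK fun e' => hBne (by
    rw [← map_mk'_comap N B, ← hK, ← e', QuotientGroup.map_mk'_self])
  refine ⟨N, K, hNn, hKn, hlt, ⟨B₀, hF₁, Frobenius.frobeniusKernel_eq hF₁ _ hB₀⟩, ⟨T, hF₂, ?_⟩⟩
  rw [hK, map_mk'_comap]
  exact Frobenius.frobeniusKernel_eq hF₂ B hT

/-- A solvable group with disconnected prime graph is Frobenius or 2-Frobenius. -/
theorem frobenius_or_twoFrobenius_of_disconnected [Group.IsSolvable G] {A : Set ℕ} (h : NoEdge A G)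
    (hA : ∃ a ∈ A, a.Prime ∧ a ∣ Nat.card G) (hB : ∃ b ∉ A, b.Prime ∧ b ∣ Nat.card G) :
    (∃ C : Subgroup G, IsFrobeniusComplement C) ∨
    (∃ (H K : Subgroup G) (_ : H.Normal), K.Normal ∧ H < K ∧
      (∃ C : Subgroup ↥K, IsFrobeniusComplement C ∧ frobeniusKernel C = (H.subgroupOf K : Set ↥K)) ∧
      (∃ C : Subgroup (G ⧸ H), IsFrobeniusComplement C ∧
        frobeniusKernel C = (K.map (QuotientGroup.mk' H) : Set (G ⧸ H)))) := by
  obtain ⟨a, haA, ha, had⟩ := hA
  obtain ⟨b, hbA, hb, hbd⟩ := hB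
  haveI := Fact.mk ha
  obtain ⟨x, hx⟩ := exists_prime_orderOf_dvd_card' a had
  haveI : Nontrivial G := ⟨x, 1, fun e => ha.one_lt.ne (by rw [← hx, e, orderOf_one])⟩
  obtain ⟨N₀, hN₀⟩ := exists_isMinimalNormal (G := G)
  haveI := hN₀.normal
  obtain ⟨p, hp, -, -, hNp⟩ := hN₀.exists_prime inferInstance
  haveI := Fact.mk hp
  obtain ⟨k, hk⟩ := IsPGroup.iff_card.1 hNp
  have hnum : ∀ A' : Set ℕ, p ∈ A' → IsNumber A' (Nat.card N₀) := fun A' hpA r hr hrd => by
    rw [hk] at hrd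
    rwa [(Nat.prime_dvd_prime_iff_eq hr hp).1 (hr.dvd_of_dvd_pow hrd)]
  by_cases hpA : p ∈ A
  · exact frobenius_or_twoFrobenius h hN₀.ne_bot (hnum A hpA) ⟨b, hb, hbd, hbA⟩
  · exact frobenius_or_twoFrobenius h.symm hN₀.ne_bot (hnum Aᶜ hpA) ⟨a, ha, had, fun hc => hc haA⟩

end CfsgLib.Base.PrimeGraph
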