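import Mathlib
import Cfsg.Agent.Lib.Base.MinimalNormal

/-!
Maximal subgroups of finite solvable groups.
-/

set_option autoImplicit false
set_option linter.style.haveILetI false

namespace CfsgLib.Base

universe u

/-- A maximal subgroup and an abelian minimal normal subgroup outside it are complements. -/
theorem inf_eq_bot_of_isCoatom {G : Type*} [Group G] {M N : Subgroup G} (hM : IsCoatom M)
    (hN : IsMinimalNormal N) [IsMulCommutative N] (hle : ¬ N ≤ M) :
    M ⊓ N = ⊥ ∧ M ⊔ N = ⊤ := by
  haveI := hN.normal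
  have hsup : M ⊔ N = ⊤ := hM.2 _ (left_lt_sup.2 hle)
  refine ⟨?_, hsup⟩
  refine (hN.eq_bot_or_eq (K := M ⊓ N) ?_ inf_le_right).resolve_right fun he =>
    hle (he ▸ inf_le_left)
  rw [← Subgroup.normalizer_eq_top_iff, eq_top_iff, ← hsup, sup_le_iff]
  constructor
  · exact (le_inf Subgroup.le_normalizer Subgroup.le_normalizer_of_normal).trans
      (Subgroup.inf_normalizer_le_normalizer_inf)
  · exact (N.le_centralizer.trans (Subgroup.centralizer_le inf_le_right)).trans
      (Subgroup.centralizer_le_normalizer _)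

/-- A maximal subgroup of a finite solvable group has prime-power index. -/
theorem exists_index_eq_prime_pow {G : Type u} [Group G] [Finite G] [Group.IsSolvable G]
    (M : Subgroup G) (hM : IsCoatom M) : ∃ p k : ℕ, p.Prime ∧ 0 < k ∧ M.index = p ^ k := by
  induction hn : Nat.card G using Nat.strong_induction_on generalizing G with
  | _ n ih =>
  subst hn
  haveI : Nontrivial G :=
    Subgroup.nontrivial_iff.1 (nontrivial_of_ne M ⊤ hM.1)
  obtain ⟨N, hN⟩ := exists_isMinimalNormal (G := G)
  haveI := hN.normal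
  by_cases hle : N ≤ M
  · have hc : (M.map (QuotientGroup.mk' N)).comap (QuotientGroup.mk' N) = M := by
      rw [comap_map_mk', sup_eq_left.2 hle]
    have hM' : IsCoatom (M.map (QuotientGroup.mk' N)) := by
      refine ⟨fun h => hM.1 ?_, fun X hX => ?_⟩
      · rw [← hc, h, Subgroup.comap_top]
      · have hlt : M < X.comap (QuotientGroup.mk' N) := by
          rw [← hc]
          exact (Subgroup.comap_lt_comap_of_surjective (QuotientGroup.mk'_surjective N)).2 hX
        rw [← map_mk'_comap N X, hM.2 _ hlt,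
          Subgroup.map_top_of_surjective _ (QuotientGroup.mk'_surjective N)]
    have hlt : Nat.card (G ⧸ N) < Nat.card G := by
      rw [← card_mul_card_quotient N]
      exact lt_mul_of_one_lt_left Nat.card_pos ((Subgroup.one_lt_card_iff_ne_bot N).2 hN.ne_bot)
    obtain ⟨p, k, hp, hk, hidx⟩ := ih _ hlt (M.map (QuotientGroup.mk' N)) hM' rfl
    refine ⟨p, k, hp, hk, ?_⟩
    rw [← hidx, ← hc, Subgroup.index_comap_of_surjective _ (QuotientGroup.mk'_surjective N), hc]
  · obtain ⟨p, hp, hcomm, -, hP⟩ := hN.exists_prime inferInstance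
    haveI := hcomm
    haveI := Fact.mk hp
    obtain ⟨hinf, hsup⟩ := inf_eq_bot_of_isCoatom hM hN hle
    obtain ⟨k, hk⟩ := IsPGroup.iff_card.1 hP
    refine ⟨p, k, hp, Nat.pos_of_ne_zero fun h0 => hN.ne_bot ?_, ?_⟩
    · exact N.eq_bot_of_card_eq (by rw [hk, h0, pow_zero])
    · have h1 := card_sup_of_disjoint M N hinf
      rw [hsup, Subgroup.card_top, ← Subgroup.card_mul_index M, hk] at h1
      exact Nat.eq_of_mul_eq_mul_left Nat.card_pos h1

end CfsgLib.Base
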