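import Cfsg.Agent.Lib.Base.FrobeniusQuot
import Cfsg.Agent.Lib.Base.ThompsonFPF
import Cfsg.Agent.Lib.Base.MinNonNilpotent

/-!
The structure of 2-Frobenius groups.
-/

set_option autoImplicit false
set_option linter.style.haveILetI false

universe u

namespace CfsgLib.Base.TwoFrobenius

open Cfsg
open scoped Pointwise

variable {G : Type u} [Group G] [Finite G]

/-- An element of order `p q` exists iff there are commuting elements of orders `p` and `q`. -/
theorem exists_orderOf_mul_iff {p q : ℕ} (hp : p.Prime) (hq : q.Prime) (hpq : p ≠ q) :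
    (∃ g : G, orderOf g = p * q) ↔
      ∃ x y : G, orderOf x = p ∧ orderOf y = q ∧ Commute x y := by
  constructor
  · rintro ⟨g, hg⟩
    refine ⟨g ^ q, g ^ p, ?_, ?_, Commute.pow_pow_self g q p⟩
    · rw [orderOf_pow' _ hq.ne_zero, hg, Nat.gcd_eq_right (dvd_mul_left q p),
        Nat.mul_div_cancel _ hq.pos]
    · rw [orderOf_pow' _ hp.ne_zero, hg, Nat.gcd_eq_right (dvd_mul_right p q),
        Nat.mul_div_cancel_left _ hp.pos]
  · rintro ⟨x, y, hx, hy, hc⟩
    exact ⟨x * y, by rw [hc.orderOf_mul_eq_mul_orderOf_of_coprime (by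
      rw [hx, hy]; exact (Nat.coprime_primes hp hq).2 hpq), hx, hy]⟩

theorem exists_orderOf_mul_of_isCyclic {K : Subgroup G} [IsCyclic K] {d : ℕ}
    (hd : d ∣ Nat.card K) : ∃ g ∈ K, orderOf g = d := by
  obtain ⟨z, hz⟩ := IsCyclic.exists_generator (α := K)
  have hzc : orderOf z = Nat.card K := orderOf_eq_card_of_forall_mem_zpowers hz
  obtain ⟨k, hk⟩ := hd
  have hk0 : k ≠ 0 := fun e => Nat.card_pos.ne' (hk.trans (by rw [e, mul_zero]))
  refine ⟨(z ^ k : K), (z ^ k).2, ?_⟩
  rw [Subgroup.orderOf_coe, orderOf_pow' _ hk0, hzc, hk, Nat.gcd_eq_right (dvd_mul_left k d),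
    Nat.mul_div_cancel _ (Nat.pos_of_ne_zero hk0)]

/-- The structure theorem for 2-Frobenius groups. -/
theorem structure_theorem (H K : Subgroup G) [H.Normal] [K.Normal] (hlt : H < K)
    (hK : ∃ C : Subgroup ↥K, IsFrobeniusComplement C ∧ frobeniusKernel C = (H.subgroupOf K : Set ↥K))
    (hGH : ∃ C : Subgroup (G ⧸ H), IsFrobeniusComplement C ∧
      frobeniusKernel C = (K.map (QuotientGroup.mk' H) : Set (G ⧸ H))) :
    Group.IsSolvable G ∧ Odd (Nat.card (↥K ⧸ H.subgroupOf K)) ∧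
      Nat.Coprime (Nat.card (↥K ⧸ H.subgroupOf K)) (Nat.card ↥H * Nat.card (G ⧸ K)) ∧
      IsCyclic (G ⧸ K) ∧
      ∀ p q : ℕ, p.Prime → q.Prime → p ≠ q → p ∣ Nat.card G → q ∣ Nat.card G →
        ((∃ g : G, orderOf g = p * q) ↔
          (p ∣ Nat.card (↥K ⧸ H.subgroupOf K) ↔ q ∣ Nat.card (↥K ⧸ H.subgroupOf K))) := by
  obtain ⟨C₁, hC₁, hker₁⟩ := hK
  obtain ⟨C₂, hC₂, hker₂⟩ := hGH
  set π := QuotientGroup.mk' H with hπ
  have hπs := QuotientGroup.mk'_surjective H
  set B := K.map π with hBdef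
  haveI hBn : B.Normal := ‹K.Normal›.map π hπs
  have hHK : H ≤ K := hlt.le
  obtain ⟨N₁, hN₁, hN₁n, hc₁, hN₁ne, hf₁⟩ := Frobenius.exists_isFPF hC₁
  obtain rfl : N₁ = H.subgroupOf K := SetLike.coe_injective (hN₁.trans hker₁)
  obtain ⟨N₂, hN₂, -, hc₂, hBne, hf₂⟩ := Frobenius.exists_isFPF hC₂
  obtain rfl : N₂ = B := SetLike.coe_injective (hN₂.trans hker₂)
  -- `C₁ ≃* B`
  let g₁ : C₁ →* B := ((π.comp K.subtype).comp C₁.subtype).codRestrict B
    fun c => Subgroup.mem_map_of_mem π (c : K).2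
  have hg₁ : Function.Bijective g₁ := by
    constructor
    · rw [← MonoidHom.ker_eq_bot_iff, Subgroup.eq_bot_iff_forall]
      intro c hc
      have h1 : π ((c : K) : G) = 1 := congrArg Subtype.val (MonoidHom.mem_ker.1 hc)
      have h2 : (c : K) ∈ H.subgroupOf K ⊓ C₁ := ⟨(QuotientGroup.eq_one_iff ((c : K) : G)).1 h1, c.2⟩
      rw [hc₁.disjoint.eq_bot, Subgroup.mem_bot] at h2
      exact Subtype.ext h2
    · rintro ⟨x, k, hk, rfl⟩
      obtain ⟨h, hh, c, hc, hke⟩ : (⟨k, hk⟩ : K) ∈ (H.subgroupOf K : Set K) * (C₁ : Set K) := by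
        rw [hc₁.mul_eq]; exact Set.mem_univ _
      refine ⟨⟨c, hc⟩, Subtype.ext ?_⟩
      show π (c : G) = π k
      have hke' : (h : G) * (c : G) = k := congrArg Subtype.val hke
      rw [← hke', map_mul, show π (h : G) = 1 from (QuotientGroup.eq_one_iff _).2 hh, one_mul]
  let e : C₁ ≃* B := MulEquiv.ofBijective g₁ hg₁
  have he : ∀ c : C₁, ((e c : B) : G ⧸ H) = π ((c : K) : G) := fun c => rfl
  have hcardB : Nat.card B = Nat.card C₁ := (Nat.card_congr e.toEquiv).symm
  have hcardQ : Nat.card (↥K ⧸ H.subgroupOf K) = Nat.card C₁ :=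
    Nat.card_congr hc₁.symm.QuotientMulEquiv.toEquiv
  rw [hcardQ]
  -- `B` is cyclic of odd order
  haveI hBnil : Group.IsNilpotent B := hf₂.isNilpotent hC₂.1
  haveI hC₁nil : Group.IsNilpotent C₁ := Group.nilpotent_of_mulEquiv e.symm
  have hodd : Odd (Nat.card C₁) := by
    by_contra h2
    rw [Nat.not_odd_iff_even, even_iff_two_dvd] at h2
    obtain ⟨t, ht⟩ := exists_prime_orderOf_dvd_card' (G := C₁) 2 h2
    have key : ∀ s : C₁, orderOf s = 2 → (s : K) ≠ 1 ∧ (s : K) * s = 1 := fun s hs =>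
      ⟨fun e' => by rw [show s = 1 from Subtype.ext e', orderOf_one] at hs; omega, by
        have := pow_orderOf_eq_one (s : K)
        rwa [Subgroup.orderOf_coe, hs, pow_two] at this⟩
    obtain ⟨c, hc, hc1⟩ := (Subgroup.bot_or_exists_ne_one C₂).resolve_left hC₂.1
    have hmem : c * (e t : B) * c⁻¹ ∈ B := hBn.conj_mem _ (e t).2 c
    have ho : orderOf (e.symm ⟨_, hmem⟩) = 2 := by
      rw [MulEquiv.orderOf_eq, ← Subgroup.orderOf_coe, ← ht, ← MulEquiv.orderOf_eq e t,
        ← Subgroup.orderOf_coe]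
      exact MulEquiv.orderOf_eq (MulAut.conj c) _
    have := hf₁.involution_unique hN₁ne (e.symm ⟨_, hmem⟩).2 (key _ ho).1 (key _ ho).2 t.2
      (key _ ht).1 (key _ ht).2
    have h3 : (⟨_, hmem⟩ : B) = e t :=
      (e.apply_symm_apply _).symm.trans (congrArg e (Subtype.ext (Subtype.ext (congrArg Subtype.val this))))
    have h4 := hf₂.eq_one_of_commute hc hc1 (e t).2 (mul_inv_eq_iff_eq_mul.1 (congrArg Subtype.val h3))
    have h5 : t = 1 := e.injective (by rw [map_one]; exact Subtype.ext h4)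
    rw [h5, orderOf_one] at ht
    omega
  haveI : IsZGroup C₁ := ⟨fun r hr P => by
    haveI := Fact.mk hr
    refine (hf₁.isCyclic_or_quaternion hN₁ne (P : Subgroup C₁) P.isPGroup').resolve_right ?_
    rintro ⟨rfl, n, -, ⟨e'⟩⟩
    haveI : NeZero (2 ^ n) := ⟨pow_ne_zero n two_ne_zero⟩
    refine hodd.not_two_dvd_nat (dvd_trans ?_ (Subgroup.card_subgroup_dvd_card (P : Subgroup C₁)))
    rw [Nat.card_congr e'.toEquiv, Nat.card_eq_fintype_card, QuaternionGroup.card]
    exact Dvd.intro _ (by ring : 2 * (2 * 2 ^ n) = 4 * 2 ^ n)⟩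
  haveI : IsCyclic C₁ := inferInstance
  haveI : IsCyclic B := e.isCyclic.1 inferInstance
  -- `C₂` is cyclic
  have hBcomm : ∀ a b : B, a * b = b * a := fun a b => by
    obtain ⟨z, hz⟩ := IsCyclic.exists_generator (α := B)
    obtain ⟨i, rfl⟩ := Subgroup.mem_zpowers_iff.1 (hz a)
    obtain ⟨j, rfl⟩ := Subgroup.mem_zpowers_iff.1 (hz b)
    exact (Commute.zpow_zpow_self z i j).eq
  haveI hC₂c : IsMulCommutative C₂ := by
    obtain ⟨z, hz⟩ := IsCyclic.exists_generator (α := B)
    refine ⟨⟨fun a b => Subtype.ext ?_⟩⟩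
    have hact : ∀ u : G ⧸ H, ∃ k : ℤ, u * (z : G ⧸ H) * u⁻¹ = (z : G ⧸ H) ^ k := fun u => by
      obtain ⟨k, hk⟩ := Subgroup.mem_zpowers_iff.1 (hz ⟨_, hBn.conj_mem _ z.2 u⟩)
      exact ⟨k, (congrArg Subtype.val hk).symm⟩
    obtain ⟨i, hi⟩ := hact a
    obtain ⟨j, hj⟩ := hact b
    by_contra hne
    refine hne ?_
    have hz1 : (z : G ⧸ H) ≠ 1 := fun e' => hBne ((Subgroup.eq_bot_iff_forall _).2 fun x hx => by
      obtain ⟨k, hk⟩ := Subgroup.mem_zpowers_iff.1 (hz ⟨x, hx⟩)
      have := congrArg Subtype.val hk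
      simpa [e'] using this.symm)
    set w := ((b : G ⧸ H) * a)⁻¹ * ((a : G ⧸ H) * b) with hw
    by_contra hne'
    have hw1 : w ≠ 1 := fun e' => hne (inv_mul_eq_one.1 e').symm
    refine hz1 (hf₂.eq_one_of_commute
      (C₂.mul_mem (C₂.inv_mem (C₂.mul_mem b.2 a.2)) (C₂.mul_mem a.2 b.2)) hw1 z.2 ?_)
    have h1 : (a : G ⧸ H) * b * z * ((a : G ⧸ H) * b)⁻¹ = (b : G ⧸ H) * a * z * ((b : G ⧸ H) * a)⁻¹ := by
      calc (a : G ⧸ H) * b * z * ((a : G ⧸ H) * b)⁻¹
          = (a : G ⧸ H) * ((b : G ⧸ H) * z * (b : G ⧸ H)⁻¹) * (a : G ⧸ H)⁻¹ := by group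
        _ = ((z : G ⧸ H) ^ i) ^ j := by rw [hj, ← conj_zpow, hi]
        _ = ((z : G ⧸ H) ^ j) ^ i := by rw [← zpow_mul, ← zpow_mul, mul_comm]
        _ = (b : G ⧸ H) * ((a : G ⧸ H) * z * (a : G ⧸ H)⁻¹) * (b : G ⧸ H)⁻¹ := by
            rw [hi, ← conj_zpow, hj]
        _ = _ := by group
    calc ((b : G ⧸ H) * a)⁻¹ * ((a : G ⧸ H) * b) * z
        = ((b : G ⧸ H) * a)⁻¹ * ((a : G ⧸ H) * b * z * ((a : G ⧸ H) * b)⁻¹) * ((a : G ⧸ H) * b) := by
          group
      _ = (z : G ⧸ H) * (((b : G ⧸ H) * a)⁻¹ * ((a : G ⧸ H) * b)) := by rw [h1]; group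
  haveI hC₂cyc : IsCyclic C₂ := hf₂.isCyclic_of_comm hBne
  let e₂ : G ⧸ K ≃* C₂ :=
    ((QuotientGroup.quotientQuotientEquivQuotient H K hHK).symm.trans hc₂.symm.QuotientMulEquiv)
  have hcycGK : IsCyclic (G ⧸ K) := e₂.isCyclic.2 inferInstance
  have hcardGK : Nat.card (G ⧸ K) = Nat.card C₂ := Nat.card_congr e₂.toEquiv
  have hcopH : (Nat.card C₁).Coprime (Nat.card H) := by
    have := hf₁.coprime
    rwa [card_subgroupOf hHK] at this
  have hcop₂ : (Nat.card C₁).Coprime (Nat.card (G ⧸ K)) := by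
    rw [hcardGK, ← hcardB]
    exact hf₂.coprime.symm
  have hHnil : Group.IsNilpotent H := by
    haveI := hf₁.isNilpotent hC₁.1
    exact Group.nilpotent_of_mulEquiv (Subgroup.subgroupOfEquivOfLe hHK)
  have hsol : Group.IsSolvable G := by
    haveI := hcycGK
    haveI := hHnil
    refine (Group.isSolvable_iff_subgroup_quotient K).2 ⟨(Group.isSolvable_iff_subgroup_quotient
      (H.subgroupOf K)).2 ⟨?_, ?_⟩, inferInstance⟩
    · haveI := hf₁.isNilpotent hC₁.1
      infer_instance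
    · exact Group.isSolvable_of_surjective (f := hc₁.symm.QuotientMulEquiv.symm.toMonoidHom)
        (MulEquiv.surjective _)
  refine ⟨hsol, hodd, hcopH.mul_right hcop₂, hcycGK, ?_⟩
  have hcardG : Nat.card G = Nat.card H * Nat.card C₁ * Nat.card (G ⧸ K) := by
    rw [← hcardB, ← CfsgLib.Base.card_comap_mk', hBdef, comap_map_mk', sup_eq_left.2 hHK,
      ← Subgroup.index_eq_card, K.card_mul_index]
  -- mixed primes: no element of order `p q`
  have hmixed : ∀ p q : ℕ, p.Prime → q.Prime → p ∣ Nat.card C₁ → ¬ q ∣ Nat.card C₁ →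
      ∀ x y : G, orderOf x = p → orderOf y = q → ¬ Commute x y := by
    intro p q hp hq hpB hqB x y hx hy hc
    have hpH : ¬ p ∣ Nat.card H := fun h => hp.one_lt.ne' (Nat.eq_one_of_dvd_coprimes hcopH hpB h)
    have hpGK : ¬ p ∣ Nat.card (G ⧸ K) := fun h =>
      hp.one_lt.ne' (Nat.eq_one_of_dvd_coprimes hcop₂ hpB h)
    have hxH : x ∉ H := fun h => hpH (hx ▸ Subgroup.orderOf_dvd_natCard H h)
    have hxK : x ∈ K := by
      by_contra h
      refine hpGK (dvd_trans (dvd_of_eq ?_) (orderOf_dvd_natCard (QuotientGroup.mk' K x)))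
      refine (((Nat.dvd_prime hp).1 (hx ▸ orderOf_map_dvd _ x)).resolve_left fun e' => h ?_).symm
      rwa [orderOf_eq_one_iff, QuotientGroup.mk'_apply, QuotientGroup.eq_one_iff] at e'
    by_cases hyH : y ∈ H
    · refine Frobenius.not_commute_of_mem_frobeniusKernel hC₁ (x := (⟨y, hHK hyH⟩ : K))
        (y := ⟨x, hxK⟩) (by rw [hker₁]; exact hyH) (fun e' => ?_) (by rw [hker₁]; exact hxH)
        (Subtype.ext hc.symm.eq)
      rw [show y = 1 from congrArg Subtype.val e', orderOf_one] at hy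
      exact hq.one_lt.ne hy
    · refine Frobenius.not_commute_of_mem_frobeniusKernel hC₂ (x := π x) (y := π y)
        (by rw [hker₂]; exact Subgroup.mem_map_of_mem π hxK)
        (fun e' => hxH ((QuotientGroup.eq_one_iff x).1 e'))
        (by
          rw [hker₂]
          intro hmem
          refine hqB (dvd_trans (dvd_of_eq ?_) (hcardB ▸ Subgroup.orderOf_dvd_natCard B hmem))
          refine (((Nat.dvd_prime hq).1 (hy ▸ orderOf_map_dvd π y)).resolve_left fun e' => hyH ?_).symm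
          rwa [orderOf_eq_one_iff, hπ, QuotientGroup.mk'_apply, QuotientGroup.eq_one_iff] at e')
        (hc.map π)
  -- a prime of `G/K` and a prime of `H`
  have hcase : ∀ p q : ℕ, p.Prime → q.Prime → p ≠ q → ¬ p ∣ Nat.card C₁ → ¬ q ∣ Nat.card C₁ →
      p ∣ Nat.card (G ⧸ K) → q ∣ Nat.card H → ∃ g : G, orderOf g = p * q := by
    intro p q hp hq hpq hpB hqB hpGK hqH
    haveI := Fact.mk hp
    haveI := Fact.mk hq
    set C := C₁.map K.subtype with hCdef
    have hCK : C ≤ K := Subgroup.map_subtype_le _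
    have hfr : Subgroup.normalizer (C : Set G) ⊔ K = ⊤ := by
      rw [eq_top_iff]
      intro g _
      have hgC := Frobenius.isFrobeniusComplement_map (MulAut.conjNormal g : MulAut K) hC₁
      obtain ⟨k, hk⟩ := Frobenius.exists_conj_eq hC₁ hgC
      have hmem : (k : G) * g ∈ Subgroup.normalizer (C : Set G) := by
        rw [← map_conj_eq_self_iff, hCdef, Subgroup.map_map]
        rw [← map_conj_eq_smul, Subgroup.map_map] at hk
        conv_rhs => rw [← hk]
        rw [Subgroup.map_map]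
        congr 1
        ext u
        simp [mul_assoc]
      have := (Subgroup.normalizer (C : Set G) ⊔ K).mul_mem
        (Subgroup.mem_sup_right (K.inv_mem k.2)) (Subgroup.mem_sup_left hmem)
      simpa using this
    have hNK : ∀ x ∈ Subgroup.normalizer (C : Set G), x ∈ K → x ∈ C := by
      intro x hx hxK
      refine ⟨⟨x, hxK⟩, ?_, rfl⟩
      rw [SetLike.mem_coe, ← Frobenius.normalizer_eq hC₁]
      refine Subgroup.mem_normalizer_iff.2 fun u => ?_
      rw [← Subgroup.mem_map_iff_mem K.subtype_injective,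
        ← Subgroup.mem_map_iff_mem K.subtype_injective (K := C₁)]
      exact Subgroup.mem_normalizer_iff.1 hx (u : G)
    obtain ⟨yb, hyb⟩ := exists_prime_orderOf_dvd_card' p hpGK
    obtain ⟨g, rfl⟩ := QuotientGroup.mk'_surjective K yb
    obtain ⟨n, hn, k, hk, rfl⟩ := Subgroup.mem_sup_of_normal_right.1 (hfr.ge (Subgroup.mem_top g))
    have hnk : QuotientGroup.mk' K (n * k) = QuotientGroup.mk' K n := by
      rw [map_mul, QuotientGroup.mk'_apply K k, (QuotientGroup.eq_one_iff k).2 hk, mul_one]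
    rw [hnk] at hyb
    have hCcard : Nat.card C = Nat.card C₁ := card_map_subtype C₁
    set y := n ^ Nat.card C₁ with hy
    have hyN : y ∈ Subgroup.normalizer (C : Set G) := pow_mem hn _
    have hyp : y ^ p = 1 := by
      have h1 : n ^ p ∈ C := by
        refine hNK _ (pow_mem hn p) ?_
        rw [← QuotientGroup.eq_one_iff, ← QuotientGroup.mk'_apply, map_pow, ← hyb, pow_orderOf_eq_one]
      rw [hy, ← pow_mul, mul_comm, pow_mul, ← hCcard]
      exact orderOf_dvd_iff_pow_eq_one.1 (Subgroup.orderOf_dvd_natCard C h1)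
    have hyK : y ∉ K := by
      intro h
      rw [← QuotientGroup.eq_one_iff, ← QuotientGroup.mk'_apply, hy, map_pow,
        ← orderOf_dvd_iff_pow_eq_one, hyb] at h
      exact hpB h
    have hyo : orderOf y = p := by
      refine ((Nat.dvd_prime hp).1 (orderOf_dvd_of_pow_eq_one hyp)).resolve_left fun e' => hyK ?_
      rw [orderOf_eq_one_iff.1 e']; exact K.one_mem
    obtain ⟨Q⟩ := (inferInstance : Nonempty (Sylow q H))
    haveI := hHnil
    haveI hQn : (Q : Subgroup H).Normal :=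
      Q.normal_of_normalizerCondition Group.normalizerCondition_of_isNilpotent
    haveI : (Q : Subgroup H).Characteristic := Sylow.characteristic_of_normal _ hQn
    set QG := (Q : Subgroup H).map H.subtype with hQG
    haveI : QG.Normal := normal_map_subtype _
    set V := QG ⊓ Subgroup.centralizer (QG : Set G) with hV
    haveI : IsMulCommutative V := FPFAut.inf_centralizer_isMulCommutative QG
    haveI : V.Normal := inferInstance
    have hQGp : IsPGroup q QG := Q.isPGroup'.map _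
    have hVp : IsPGroup q V := hQGp.to_le inf_le_left
    have hVne : V ≠ ⊥ := FPFAut.inf_centralizer_ne_bot hQGp fun e' =>
      Q.ne_bot_of_dvd_card hqH ((Subgroup.map_eq_bot_iff_of_injective _ H.subtype_injective).1 e')
    have hVH : V ≤ H := inf_le_left.trans (Subgroup.map_subtype_le _)
    by_cases hfix : ∃ v ∈ V, v ≠ 1 ∧ Commute y v
    · obtain ⟨v, hv, hv1, hvc⟩ := hfix
      obtain ⟨b, hb⟩ := IsPGroup.iff_orderOf.1 hVp ⟨v, hv⟩
      rw [Subgroup.orderOf_mk] at hb
      have hb0 : b ≠ 0 := fun e' => hv1 (orderOf_eq_one_iff.1 (by rw [hb, e', pow_zero]))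
      refine (exists_orderOf_mul_iff hp hq hpq).2
        ⟨y, v ^ q ^ (b - 1), hyo, ?_, hvc.pow_right _⟩
      rw [orderOf_pow' _ (pow_ne_zero _ hq.ne_zero), hb,
        Nat.gcd_eq_right (pow_dvd_pow q (Nat.sub_le b 1)), Nat.pow_div (Nat.sub_le b 1) hq.pos,
        show b - (b - 1) = 1 by omega, pow_one]
    · exfalso
      push Not at hfix
      set W := V ⊔ C with hW
      have hWi : W.map (MulAut.conj y).toMonoidHom = W := by
        rw [hW, Subgroup.map_sup, map_conj_eq_self_iff.2 hyN,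
          map_conj_eq_self_iff.2 (by rw [Subgroup.normalizer_eq_top_iff.2 (inferInstance : V.Normal)]; trivial)]
      have hVC : V ⊓ C = ⊥ := by
        rw [Subgroup.eq_bot_iff_forall]
        rintro x ⟨hxV, u, hu, rfl⟩
        have : u ∈ H.subgroupOf K ⊓ C₁ := ⟨hVH hxV, hu⟩
        rw [hc₁.disjoint.eq_bot, Subgroup.mem_bot] at this
        rw [this, map_one]
      have hfpf : MonoidHom.FixedPointFree (FPFAut.restrict (MulAut.conj y) hWi : W → W) := by
        rintro ⟨w, hw⟩ hwy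
        obtain ⟨v, hv, c, hc, rfl⟩ := Subgroup.mem_sup_of_normal_left.1 hw
        have h1 : y * (v * c) * y⁻¹ = v * c := congrArg Subtype.val hwy
        set v' := y * v * y⁻¹ with hv'
        set c' := y * c * y⁻¹ with hc'
        have hv'm : v' ∈ V := (inferInstance : V.Normal).conj_mem v hv y
        have hc'm : c' ∈ C := (Subgroup.mem_normalizer_iff.1 hyN c).1 hc
        have h2 : v' * c' = v * c := by rw [← h1, hv', hc']; group
        have h3 : v⁻¹ * v' = 1 := by
          refine Subgroup.mem_bot.1 (hVC.le ⟨V.mul_mem (V.inv_mem hv) hv'm, ?_⟩)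
          rw [show v⁻¹ * v' = c * c'⁻¹ from by
            rw [eq_mul_inv_iff_mul_eq, mul_assoc, h2, inv_mul_cancel_left]]
          exact C.mul_mem hc (C.inv_mem hc'm)
        have hv1 : v = 1 := by
          by_contra hne
          exact hfix v hv hne (mul_inv_eq_iff_eq_mul.1 ((inv_mul_eq_one.1 h3).symm))
        have hcc : c' = c := by
          rw [← inv_mul_eq_one.1 h3] at h2
          exact mul_left_cancel h2
        have hc1 : c = 1 := by
          by_contra hne
          obtain ⟨u, hu, hu'⟩ := hc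
          refine Frobenius.not_commute_of_mem_frobeniusKernel hC₂ (x := π c) (y := π y)
            (by rw [hker₂]; exact Subgroup.mem_map_of_mem π (hu' ▸ u.2)) (fun e' => hne ?_) ?_
            ((show Commute c y from (mul_inv_eq_iff_eq_mul.1 hcc).symm).map π)
          · have : c ∈ V ⊔ C ∧ c ∈ H := ⟨hW ▸ Subgroup.mem_sup_right ⟨u, hu, hu'⟩,
              (QuotientGroup.eq_one_iff c).1 e'⟩
            have h4 : u ∈ H.subgroupOf K ⊓ C₁ := ⟨by
              show (u : G) ∈ H
              rw [show (u : G) = c from hu']; exact this.2, hu⟩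
            rw [hc₁.disjoint.eq_bot, Subgroup.mem_bot] at h4
            rw [← hu', h4, map_one]
          · rw [hker₂]
            intro hmem
            exact hyK ((sup_eq_left.2 hHK) ▸ (comap_map_mk' H K).le hmem)
        exact Subtype.ext (by simp [hv1, hc1])
      have hWnil : Group.IsNilpotent W := isNilpotent_of_fixedPointFree _ hfpf hp
        (FPFAut.restrict_pow_eq_one hWi (by rw [← map_pow, hyp, map_one]))
      obtain ⟨c, hc, hc1⟩ := (Subgroup.bot_or_exists_ne_one C₁).resolve_left hC₁.1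
      obtain ⟨v, hv, hv1⟩ := (Subgroup.bot_or_exists_ne_one V).resolve_left hVne
      have hcq : (orderOf (c : G)).Coprime q := by
        rw [Subgroup.orderOf_coe]
        exact ((hq.coprime_iff_not_dvd.2 hqB).symm).coprime_dvd_left
          (Subgroup.orderOf_dvd_natCard C₁ hc)
      have hcomm := Subgroup.mem_centralizer_iff.1 (MinNonNilpotent.commute_of_nilpotent hWnil hVp
        le_sup_left (Subgroup.mem_sup_right ⟨c, hc, rfl⟩) hcq) v hv
      exact hv1 (congrArg Subtype.val (hf₁.eq_one_of_commute hc hc1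
        (v := (⟨v, hHK (hVH hv)⟩ : K)) (hVH hv) (Subtype.ext hcomm.symm)))
  intro p q hp hq hpq hpG hqG
  rw [exists_orderOf_mul_iff hp hq hpq]
  constructor
  · rintro ⟨x, y, hx, hy, hc⟩
    constructor
    · intro hpB
      by_contra hqB
      exact hmixed p q hp hq hpB hqB x y hx hy hc
    · intro hqB
      by_contra hpB
      exact hmixed q p hq hp hqB hpB y x hy hx hc.symm
  · intro hiff
    rw [← exists_orderOf_mul_iff hp hq hpq]
    have hco : p.Coprime q := (Nat.coprime_primes hp hq).2 hpq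
    by_cases hpB : p ∣ Nat.card C₁
    · obtain ⟨g, -, hg⟩ := exists_orderOf_mul_of_isCyclic (K := C₁) (hco.mul_dvd_of_dvd_of_dvd hpB (hiff.1 hpB))
      exact ⟨(g : G), by rw [Subgroup.orderOf_coe, hg]⟩
    have hqB : ¬ q ∣ Nat.card C₁ := fun h => hpB (hiff.2 h)
    have hdiv : ∀ r : ℕ, r.Prime → ¬ r ∣ Nat.card C₁ → r ∣ Nat.card G →
        r ∣ Nat.card H ∨ r ∣ Nat.card (G ⧸ K) := by
      intro r hr hrB hrG
      rw [hcardG] at hrG
      rcases hr.dvd_mul.1 hrG with h | h
      · exact Or.inl ((hr.dvd_mul.1 h).resolve_right hrB)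
      · exact Or.inr h
    rcases hdiv p hp hpB hpG with hpH | hpGK <;> rcases hdiv q hq hqB hqG with hqH | hqGK
    · haveI := Fact.mk hp
      haveI := Fact.mk hq
      obtain ⟨x, hx⟩ := exists_prime_orderOf_dvd_card' p hpH
      obtain ⟨y, hy⟩ := exists_prime_orderOf_dvd_card' q hqH
      refine (exists_orderOf_mul_iff hp hq hpq).2 ⟨(x : G), (y : G),
        by rw [Subgroup.orderOf_coe, hx], by rw [Subgroup.orderOf_coe, hy], ?_⟩
      exact Subgroup.mem_centralizer_iff.1 (MinNonNilpotent.commute_of_nilpotent hHnil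
        (IsPGroup.of_card (p := p) (n := 1) (by rw [Nat.card_zpowers, Subgroup.orderOf_coe, hx, pow_one]))
        (Subgroup.zpowers_le.2 x.2) y.2 (by rw [Subgroup.orderOf_coe, hy]; exact hco.symm))
        (x : G) (Subgroup.mem_zpowers _)
    · rw [mul_comm]
      exact hcase q p hq hp hpq.symm hqB hpB hqGK hpH
    · exact hcase p q hp hq hpq hpB hqB hpGK hqH
    · haveI := hcycGK
      haveI : IsCyclic (⊤ : Subgroup (G ⧸ K)) := Subgroup.topEquiv.isCyclic.2 inferInstance
      obtain ⟨gb, -, hgb⟩ := exists_orderOf_mul_of_isCyclic (G := G ⧸ K) (K := ⊤) (d := p * q)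
        (by rw [Subgroup.card_top]; exact hco.mul_dvd_of_dvd_of_dvd hpGK hqGK)
      obtain ⟨g, rfl⟩ := QuotientGroup.mk'_surjective K gb
      have hd : p * q ∣ orderOf g := hgb ▸ orderOf_map_dvd _ g
      obtain ⟨m, hm⟩ := hd
      have hm0 : m ≠ 0 := fun e' => (orderOf_pos g).ne' (by rw [hm, e', mul_zero])
      refine ⟨g ^ m, ?_⟩
      rw [orderOf_pow' _ hm0, hm, Nat.gcd_eq_right (dvd_mul_left m _),
        Nat.mul_div_cancel _ (Nat.pos_of_ne_zero hm0)]

end CfsgLib.Base.TwoFrobenius
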